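import Mathlib
import Cfsg.Prelude.Def_Spor_Conway

/-! Sign changes on the lattice `Cfsg.leechLattice` along the twelve element words `Cfsg.qrWord t`,
and a few test vectors. -/

set_option autoImplicit false

namespace CfsgLib.MonsterType

open Cfsg

/-- The support of `qrWord t`. -/
def qrSupp (t : ZMod 23) : Finset GolayPt := support₂ (qrWord t)

/-- The sign change on the support of `qrWord t`. -/
def sgn (t : ZMod 23) (x : GolayPt → ℤ) : GolayPt → ℤ := fun p => if p ∈ qrSupp t then -x p else x p

/-- The two elements of `ZMod 2`. -/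
theorem zmod2_cases : ∀ a : ZMod 2, a = 0 ∨ a = 1 := by decide

theorem qrWord_mem (t : ZMod 23) : qrWord t ∈ golayCode :=
  Submodule.subset_span (Set.mem_union_left _ ⟨t, rfl⟩)

theorem one_mem_golay : (1 : GolayPt → ZMod 2) ∈ golayCode :=
  Submodule.subset_span (Set.mem_union_right _ rfl)

theorem qr_dot_gen : ∀ t s : ZMod 23, ∑ p, qrWord t p * qrWord s p = 0 := by decide +kernel

theorem qr_dot_one : ∀ t : ZMod 23, ∑ p, qrWord t p = 0 := by decide +kernel

theorem qr_dot (t : ZMod 23) {c : GolayPt → ZMod 2} (hc : c ∈ golayCode) :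
    ∑ p, qrWord t p * c p = 0 := by
  induction hc using Submodule.span_induction with
  | mem x hx =>
    rcases hx with ⟨s, rfl⟩ | rfl
    · exact qr_dot_gen t s
    · simpa using qr_dot_one t
  | zero => simp
  | add x y _ _ hx hy => simp [mul_add, Finset.sum_add_distrib, hx, hy]
  | smul a x _ hx => simp [mul_left_comm, ← Finset.mul_sum, hx]

theorem card_qrSupp : ∀ t : ZMod 23, (qrSupp t).card = 12 := by decide +kernel

theorem mem_supports_iff {C : Submodule (ZMod 2) (GolayPt → ZMod 2)} {S : Finset GolayPt} :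
    S ∈ supports (C : Set (GolayPt → ZMod 2)) ↔ (fun p => if p ∈ S then (1 : ZMod 2) else 0) ∈ C := by
  constructor
  · rintro ⟨w, hw, rfl⟩
    have he : (fun p => if p ∈ support₂ w then (1 : ZMod 2) else 0) = w := by
      funext p
      have hm : p ∈ support₂ w ↔ w p ≠ 0 := Finset.mem_filter.trans (and_iff_right (Finset.mem_univ p))
      rcases zmod2_cases (w p) with h | h <;> simp [hm, h]
    rw [he]
    exact hw
  · intro h
    refine ⟨_, h, ?_⟩
    ext p
    simp [support₂]

theorem qrWord_eq (t : ZMod 23) :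
    qrWord t = fun p => if p ∈ qrSupp t then (1 : ZMod 2) else 0 := by
  funext p
  have hm : p ∈ qrSupp t ↔ qrWord t p ≠ 0 := Finset.mem_filter.trans (and_iff_right (Finset.mem_univ p))
  rcases zmod2_cases (qrWord t p) with h | h <;> simp [hm, h]

/-- The sum of the coordinates over the support of a `qrWord` is divisible by four. -/
theorem four_dvd_sum_supp {x : GolayPt → ℤ} (hx : x ∈ leechSet) (t : ZMod 23) :
    (4 : ℤ) ∣ ∑ p ∈ qrSupp t, x p := by
  obtain ⟨m, hpar, -, hres⟩ := hx
  -- all coordinates are `m` or `m + 2` modulo four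
  set T := Finset.univ.filter fun i => x i ≡ m + 2 [ZMOD 4] with hT
  have hco := qr_dot t (mem_supports_iff.mp (hres (m + 2)))
  have hterm : ∀ p, x p ≡ m + (if p ∈ T then 2 else 0) [ZMOD 4] := by
    intro p
    by_cases h : p ∈ T
    · rw [if_pos h]; exact (Finset.mem_filter.mp h).2
    · rw [if_neg h, add_zero]
      have h2 := hpar p
      have h3 : ¬ (x p ≡ m + 2 [ZMOD 4]) := fun e => h (Finset.mem_filter.mpr ⟨Finset.mem_univ _, e⟩)
      simp only [Int.ModEq] at *
      omega
  have hsum : ∑ p ∈ qrSupp t, x p ≡ 12 * m + 2 * ((qrSupp t ∩ T).card : ℤ) [ZMOD 4] := by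
    have h1 : ∑ p ∈ qrSupp t, (m + if p ∈ T then (2 : ℤ) else 0) = 12 * m + 2 * ((qrSupp t ∩ T).card : ℤ) := by
      rw [Finset.sum_add_distrib, Finset.sum_const, card_qrSupp, ← Finset.sum_filter, Finset.sum_const,
        Finset.filter_mem_eq_inter]
      push_cast
      ring
    rw [← h1]
    exact Int.ModEq.sum fun p _ => hterm p
  have heven : 2 ∣ (qrSupp t ∩ T).card := by
    rw [← CharP.cast_eq_zero_iff (ZMod 2) 2]
    have h1 : ∑ p, qrWord t p * (if p ∈ T then (1 : ZMod 2) else 0) = ((qrSupp t ∩ T).card : ZMod 2) := by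
      rw [qrWord_eq]
      simp only [mul_ite, mul_one, mul_zero]
      rw [← Finset.sum_filter, Finset.sum_ite_mem, Finset.sum_const, Finset.filter_mem_eq_inter,
        Finset.univ_inter, nsmul_one, Finset.inter_comm]
    rw [← h1]
    exact hco
  obtain ⟨k, hk⟩ := heven
  rw [Int.modEq_iff_dvd] at hsum
  rw [hk] at hsum
  push_cast at hsum
  omega

theorem sgn_mem_leechSet {x : GolayPt → ℤ} (hx : x ∈ leechSet) (t : ZMod 23) : sgn t x ∈ leechSet := by
  have h4 := four_dvd_sum_supp hx t
  obtain ⟨m, hpar, hsum, hres⟩ := hx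
  refine ⟨m, fun i => ?_, ?_, fun k => ?_⟩
  · simp only [sgn]
    split
    · have := hpar i
      simp only [Int.ModEq] at *
      omega
    · exact hpar i
  · have h : ∑ i, sgn t x i = ∑ i, x i - 2 * ∑ p ∈ qrSupp t, x p := by
      rw [← Finset.sum_add_sum_compl (qrSupp t) (sgn t x), ← Finset.sum_add_sum_compl (qrSupp t) x]
      rw [Finset.sum_congr rfl (fun p hp => show sgn t x p = -x p by simp [sgn, hp]),
        Finset.sum_congr rfl (fun p hp => show sgn t x p = x p by
          simp [sgn, Finset.mem_compl.mp hp]), Finset.sum_neg_distrib]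
      ring
    rw [h]
    simp only [Int.ModEq] at *
    omega
  · -- the residue classes
    rw [mem_supports_iff]
    have hk := mem_supports_iff.mp (hres k)
    have hk' := mem_supports_iff.mp (hres (-k))
    simp only [Finset.mem_filter, Finset.mem_univ, true_and] at hk hk' ⊢
    have hq := qrWord_mem t
    rw [qrWord_eq] at hq
    by_cases he : m % 2 = 0
    · -- even parity: sign changes do not move residues
      convert hk using 1
      funext p
      have hp := hpar p
      have : (sgn t x p ≡ k [ZMOD 4]) ↔ (x p ≡ k [ZMOD 4]) := by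
        simp only [sgn, Int.ModEq] at *
        split <;> omega
      simp only [this]
    · by_cases hk2 : k % 2 = 0
      · convert Submodule.zero_mem golayCode using 1
        funext p
        have hp := hpar p
        have : ¬ (sgn t x p ≡ k [ZMOD 4]) := by
          simp only [sgn, Int.ModEq] at *
          split <;> omega
        simp [this]
      · convert Submodule.add_mem _ hk hq using 1
        funext p
        have hp := hpar p
        by_cases hmem : p ∈ qrSupp t
        · have : (sgn t x p ≡ k [ZMOD 4]) ↔ ¬ (x p ≡ k [ZMOD 4]) := by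
            simp only [sgn, Int.ModEq, hmem, if_true] at *
            omega
          by_cases hh : x p ≡ k [ZMOD 4]
          · simp [this, hh, hmem]; exact (CharTwo.add_self_eq_zero (1 : ZMod 2)).symm
          · simp [this, hh, hmem]
        · have : (sgn t x p ≡ k [ZMOD 4]) ↔ (x p ≡ k [ZMOD 4]) := by simp [sgn, hmem]
          simp [this, hmem]

theorem sgn_sgn (t : ZMod 23) (x : GolayPt → ℤ) : sgn t (sgn t x) = x := by
  funext p
  by_cases h : p ∈ qrSupp t <;> simp [sgn, h]

theorem sgn_add (t : ZMod 23) (x y : GolayPt → ℤ) : sgn t (x + y) = sgn t x + sgn t y := by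
  funext p
  by_cases h : p ∈ qrSupp t <;> simp [sgn, h, add_comm]

theorem sgn_mem_lattice {x : GolayPt → ℤ} (hx : x ∈ leechLattice) (t : ZMod 23) :
    sgn t x ∈ leechLattice := by
  let f : (GolayPt → ℤ) →+ (GolayPt → ℤ) := AddMonoidHom.mk' (sgn t) (sgn_add t)
  have h : AddSubgroup.closure leechSet ≤ (AddSubgroup.closure leechSet).comap f :=
    (AddSubgroup.closure_le _).mpr fun y hy => AddSubgroup.subset_closure (sgn_mem_leechSet hy t)
  exact h hx

/-- The sign change as a permutation of the lattice. -/
def eps (t : ZMod 23) : Equiv.Perm leechLattice where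
  toFun v := ⟨sgn t v, sgn_mem_lattice v.2 t⟩
  invFun v := ⟨sgn t v, sgn_mem_lattice v.2 t⟩
  left_inv v := Subtype.ext (sgn_sgn t v)
  right_inv v := Subtype.ext (sgn_sgn t v)

theorem eps_add (t : ZMod 23) (v w : leechLattice) : eps t (v + w) = eps t v + eps t w :=
  Subtype.ext (sgn_add t v w)

theorem eps_eps (t : ZMod 23) (v : leechLattice) : eps t (eps t v) = v := Subtype.ext (sgn_sgn t v)

theorem eps_mem_Co0 (t : ZMod 23) : eps t ∈ Co0 := by
  refine ⟨eps_add t, fun v => ?_⟩
  simp only [sqNorm]
  refine Finset.sum_congr rfl fun p _ => ?_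
  show (sgn t (v : GolayPt → ℤ) p) ^ 2 = _
  by_cases h : p ∈ qrSupp t <;> simp [sgn, h]

/-! ### Test vectors -/

/-- The vector with `2` on the support of `qrWord t`. -/
def vecW (t : ZMod 23) : GolayPt → ℤ := fun p => if p ∈ qrSupp t then 2 else 0

/-- The vector (−3, 1²³). -/
def vecO : GolayPt → ℤ := fun p => if p = none then -3 else 1

/-- The vector (8, 0²³). -/
def vecE : GolayPt → ℤ := fun p => if p = none then 8 else 0

theorem vecW_mem (t : ZMod 23) : vecW t ∈ leechSet := by
  refine ⟨0, fun i => ?_, ?_, fun k => ?_⟩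
  · by_cases h : i ∈ qrSupp t <;> simp [vecW, h, Int.ModEq]
  · have : ∑ i, vecW t i = 24 := by
      simp only [vecW]
      rw [Finset.sum_ite_mem, Finset.univ_inter, Finset.sum_const, card_qrSupp]
      rfl
    simp [this, Int.ModEq]
  · rw [mem_supports_iff]
    simp only [Finset.mem_filter, Finset.mem_univ, true_and]
    have hq := qrWord_mem t
    rw [qrWord_eq] at hq
    by_cases h2 : k % 4 = 2
    · convert hq using 1
      funext p
      by_cases h : p ∈ qrSupp t <;> simp [vecW, h, Int.ModEq, h2]
    · by_cases h0 : k % 4 = 0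
      · convert Submodule.add_mem _ one_mem_golay hq using 1
        funext p
        by_cases h : p ∈ qrSupp t <;> simp [vecW, h, Int.ModEq, h0]
        exact (CharTwo.add_self_eq_zero (1 : ZMod 2)).symm
      · convert Submodule.zero_mem golayCode using 1
        funext p
        by_cases h : p ∈ qrSupp t
        · simp only [vecW, h, if_true, Int.ModEq, Pi.zero_apply, ite_eq_right_iff]
          intro e; norm_num at e; omega
        · simp only [vecW, h, if_false, Int.ModEq, Pi.zero_apply, ite_eq_right_iff]
          intro e; norm_num at e; omega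

theorem vecO_mem : vecO ∈ leechSet :=
  Spor.mem_leechSet_of_const_mod_four vecO 1 1 (by decide) (by decide) (by decide)

theorem vecE_mem : vecE ∈ leechSet :=
  Spor.mem_leechSet_of_const_mod_four vecE 0 0 (by decide) (by decide) (by decide)

/-- `vecW t` in the lattice. -/
def latW (t : ZMod 23) : leechLattice := ⟨vecW t, AddSubgroup.subset_closure (vecW_mem t)⟩

/-- `vecO` in the lattice. -/
def latO : leechLattice := ⟨vecO, AddSubgroup.subset_closure vecO_mem⟩

/-- `vecE` in the lattice. -/
def latE : leechLattice := ⟨vecE, AddSubgroup.subset_closure vecE_mem⟩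

/-- The generator `-4` on the intersection of two supports. -/
def latU (s t : ZMod 23) : leechLattice := eps s (latW t) - latW t

theorem dot_O_of_mem_leechSet {x : GolayPt → ℤ} (hx : x ∈ leechSet) : (8 : ℤ) ∣ dotInt x vecO := by
  obtain ⟨m, hpar, hsum, -⟩ := hx
  have h : dotInt x vecO = ∑ i, x i - 4 * x none := by
    simp only [dotInt, vecO]
    rw [Fintype.sum_option, Fintype.sum_option]
    simp
    ring
  rw [h]
  have h0 := hpar none
  simp only [Int.ModEq] at *
  omega

theorem dot_W_of_mem_leechSet {x : GolayPt → ℤ} (hx : x ∈ leechSet) (t : ZMod 23) :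
    (8 : ℤ) ∣ dotInt x (vecW t) := by
  have h : dotInt x (vecW t) = 2 * ∑ p ∈ qrSupp t, x p := by
    simp only [dotInt, vecW, mul_ite, mul_zero]
    rw [Finset.sum_ite_mem, Finset.univ_inter, Finset.mul_sum]
    simp_rw [mul_comm]
  rw [h]
  have := four_dvd_sum_supp hx t
  omega

theorem dot_dvd_of_closure {h : GolayPt → ℤ} (hh : ∀ x ∈ leechSet, (8 : ℤ) ∣ dotInt x h)
    {x : GolayPt → ℤ} (hx : x ∈ leechLattice) : (8 : ℤ) ∣ dotInt x h := by
  induction hx using AddSubgroup.closure_induction with
  | mem y hy => exact hh y hy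
  | zero => simp [dotInt]
  | add a b _ _ ha hb =>
    have : dotInt (a + b) h = dotInt a h + dotInt b h := by
      simp [dotInt, add_mul, Finset.sum_add_distrib]
    rw [this]; exact dvd_add ha hb
  | neg a _ ha =>
    have : dotInt (-a) h = - dotInt a h := by simp [dotInt]
    rw [this]; exact dvd_neg.mpr ha

/-- The twelve dual test vectors. -/
def dualVec (i : Fin 12) : GolayPt → ℤ := if (i : ℕ) < 11 then vecW ((i : ℕ) : ZMod 23) else vecO

theorem dualVec_dvd (i : Fin 12) (v : leechLattice) : (8 : ℤ) ∣ dotInt (v : GolayPt → ℤ) (dualVec i) := by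
  refine dot_dvd_of_closure (fun x hx => ?_) v.2
  unfold dualVec
  split
  · exact dot_W_of_mem_leechSet hx _
  · exact dot_O_of_mem_leechSet hx

/-- Twelve coordinates modulo two of a lattice vector. -/
def coord12 : leechLattice →+ (Fin 12 → ZMod 2) :=
  AddMonoidHom.mk' (fun v i => ((dotInt (v : GolayPt → ℤ) (dualVec i) / 8 : ℤ) : ZMod 2)) fun v w => by
    funext i
    have : dotInt ((v + w : leechLattice) : GolayPt → ℤ) (dualVec i) =
        dotInt (v : GolayPt → ℤ) (dualVec i) + dotInt (w : GolayPt → ℤ) (dualVec i) := by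
      simp [dotInt, add_mul, Finset.sum_add_distrib]
    simp only [this, Pi.add_apply]
    rw [Int.add_ediv_of_dvd_left (dualVec_dvd i v), Int.cast_add]

theorem coord12_double (w : leechLattice) : coord12 (w + w) = 0 := by
  rw [map_add]
  funext i
  exact CharTwo.add_self_eq_zero _

/-- The pairs whose generators have independent coordinates. -/
def pairList : Fin 11 → List (ZMod 23 × ZMod 23)
  | 2 => [(0, 3), (0, 5), (0, 7), (0, 9), (0, 10)]
  | 1 => [(0, 4), (0, 5), (0, 6), (0, 7), (0, 9)]
  | 4 => [(0, 1), (0, 6), (0, 7), (0, 8)]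
  | 3 => [(0, 2), (0, 6), (0, 8), (0, 9)]
  | 6 => [(0, 1), (0, 3), (0, 4), (0, 8), (0, 9)]
  | 5 => [(0, 1), (0, 2), (0, 8), (0, 9), (0, 10)]
  | 8 => [(0, 3), (0, 4), (0, 5), (0, 6), (0, 7), (0, 10)]
  | 7 => [(0, 1), (0, 2), (0, 4), (0, 8)]
  | 10 => [(0, 2), (0, 5), (0, 8), (0, 9)]
  | 9 => [(0, 1), (0, 2), (0, 3), (0, 5), (0, 6), (0, 10)]
  | 0 => [(0, 4), (0, 9), (1, 2)]

/-- The combination of generators belonging to an index. -/
def genCombo (k : Fin 11) : leechLattice := ((pairList k).map fun p => latU p.1 p.2).sum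

theorem coord12_genCombo : ∀ (k : Fin 11) (i : Fin 11),
    coord12 (genCombo k) i.castSucc = if i = k then 1 else 0 := by decide +kernel

theorem coord12_latE : coord12 latE = Pi.single (11 : Fin 12) 1 := by decide +kernel

/-- The subgroup spanned by `latE` and all `latU s t`. -/
def singSpan : AddSubgroup leechLattice :=
  AddSubgroup.closure (insert latE (Set.range fun p : ZMod 23 × ZMod 23 => latU p.1 p.2))

theorem coord12_surj : singSpan.map coord12 = ⊤ := by
  rw [eq_top_iff]
  intro f _
  have hE : Pi.single (11 : Fin 12) 1 ∈ singSpan.map coord12 :=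
    ⟨latE, AddSubgroup.subset_closure (Set.mem_insert _ _), coord12_latE⟩
  have hk : ∀ k : Fin 11, Pi.single k.castSucc 1 ∈ singSpan.map coord12 := by
    intro k
    have h1 : coord12 (genCombo k) ∈ singSpan.map coord12 := by
      refine ⟨_, ?_, rfl⟩
      refine AddSubgroup.list_sum_mem _ fun x hx => ?_
      obtain ⟨p, -, rfl⟩ := List.mem_map.mp hx
      exact AddSubgroup.subset_closure (Set.mem_insert_of_mem _ ⟨p, rfl⟩)
    have h2 : Pi.single k.castSucc (1 : ZMod 2) =
        coord12 (genCombo k) - coord12 (genCombo k) 11 • Pi.single (11 : Fin 12) (1 : ZMod 2) := by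
      funext i
      refine Fin.lastCases ?_ (fun j => ?_) i
      · simp [Pi.single_apply, Fin.last, Fin.ext_iff, (Nat.ne_of_lt k.isLt).symm]
      · have := coord12_genCombo k j
        rw [Pi.sub_apply, Pi.smul_apply, this]
        have hj : (j.castSucc : Fin 12) ≠ 11 := by
          intro e; have := congrArg Fin.val e; simp at this; omega
        simp [Pi.single_apply, hj]
    rw [h2]
    refine sub_mem h1 ?_
    rcases zmod2_cases (coord12 (genCombo k) 11) with h | h <;> rw [h]
    · rw [zero_smul]; exact zero_mem _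
    · rw [one_smul]; exact hE
  rw [← Finset.univ_sum_single f]
  refine sum_mem fun i _ => ?_
  rcases zmod2_cases (f i) with h | h <;> rw [h]
  · rw [Pi.single_zero]; exact zero_mem _
  · exact Fin.lastCases hE hk i

end CfsgLib.MonsterType
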