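import Mathlib
import Cfsg.Prelude.Def_Spor_Conway
import Cfsg.Agent.S0432
import Cfsg.Agent.S0433
import Cfsg.Agent.Lib.MonsterType.Lattice
import Cfsg.Agent.Lib.GolayModule.Basic
import Cfsg.Agent.Lib.LeechEight.Basic

/-! Linear tests satisfied by `leechLattice`, its minimum, and the monomial automorphisms. -/

set_option autoImplicit false

namespace CfsgLib.MonsterType

open Cfsg
open scoped Pointwise symmDiff

theorem par {x : GolayPt → ℤ} (hx : x ∈ leechLattice) (i j : GolayPt) : (2 : ℤ) ∣ x i - x j := by
  induction hx using AddSubgroup.closure_induction with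
  | mem y hy =>
    obtain ⟨m, h, -, -⟩ := hy
    have h1 := h i; have h2 := h j
    simp only [Int.ModEq] at h1 h2; omega
  | zero => simp
  | add a b _ _ ha hb => simp only [Pi.add_apply]; omega
  | neg a _ ha => simp only [Pi.neg_apply]; omega

theorem sum_test {x : GolayPt → ℤ} (hx : x ∈ leechLattice) (i : GolayPt) :
    (8 : ℤ) ∣ ∑ k, x k - 4 * x i := by
  induction hx using AddSubgroup.closure_induction with
  | mem y hy =>
    obtain ⟨m, h, hs, -⟩ := hy
    have h1 := h i
    simp only [Int.ModEq] at h1 hs; omega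
  | zero => simp
  | add a b _ _ ha hb => simp only [Pi.add_apply, Finset.sum_add_distrib]; omega
  | neg a _ ha => simp only [Pi.neg_apply, Finset.sum_neg_distrib]; omega

theorem qr_test {x : GolayPt → ℤ} (hx : x ∈ leechLattice) (t : ZMod 23) :
    (4 : ℤ) ∣ ∑ p ∈ qrSupp t, x p := by
  induction hx using AddSubgroup.closure_induction with
  | mem y hy => exact four_dvd_sum_supp hy t
  | zero => simp
  | add a b _ _ ha hb => simp only [Pi.add_apply, Finset.sum_add_distrib]; omega
  | neg a _ ha => simp only [Pi.neg_apply, Finset.sum_neg_distrib]; omega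

/-- A word orthogonal to the generators of the code lies in the code. -/
theorem mem_code_of_orth_gen {v : GolayPt → ZMod 2} (h1 : ∑ p, v p = 0)
    (hq : ∀ t, ∑ p, qrWord t p * v p = 0) : v ∈ golayCode := by
  refine CfsgLib.GolayModule.mem_of_dot fun c hc => ?_
  induction hc using Submodule.span_induction with
  | mem x hx =>
    rcases hx with ⟨s, rfl⟩ | rfl
    · rw [CfsgLib.GolayModule.dot_comm]; exact hq s
    · simpa [CfsgLib.GolayModule.dot] using h1
  | zero => exact CfsgLib.GolayModule.dot_zero_right _
  | add x y _ _ hx hy => rw [CfsgLib.GolayModule.dot_add_right, hx, hy, add_zero]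
  | smul a x _ hx =>
    rcases zmod2_cases a with rfl | rfl
    · rw [zero_smul]; exact CfsgLib.GolayModule.dot_zero_right _
    · rwa [one_smul]

/-- In an even lattice vector, the coordinates that are `2` modulo `4` form a support of the code. -/
theorem two_set_mem {x : GolayPt → ℤ} (hx : x ∈ leechLattice) (hev : ∀ i, (2 : ℤ) ∣ x i) :
    Finset.univ.filter (fun i => x i % 4 = 2) ∈ supports (golayCode : Set (GolayPt → ZMod 2)) := by
  rw [mem_supports_iff]
  have hw : (fun p => if p ∈ Finset.univ.filter (fun i => x i % 4 = 2) then (1 : ZMod 2) else 0) =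
      fun p => ((x p / 2 : ℤ) : ZMod 2) := by
    funext p
    simp only [Finset.mem_filter, Finset.mem_univ, true_and]
    obtain ⟨k, hk⟩ := hev p
    rw [hk, Int.mul_ediv_cancel_left _ two_ne_zero]
    split_ifs with h
    · rw [eq_comm, ← Int.cast_one, ZMod.intCast_eq_intCast_iff_dvd_sub]; push_cast; omega
    · rw [eq_comm, ZMod.intCast_zmod_eq_zero_iff_dvd]; push_cast; omega
  have key : ∀ (S : Finset GolayPt), (4 : ℤ) ∣ ∑ p ∈ S, x p →
      ∑ p ∈ S, ((x p / 2 : ℤ) : ZMod 2) = 0 := by
    intro S hS
    rw [← Int.cast_sum, ZMod.intCast_zmod_eq_zero_iff_dvd]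
    have h : ∑ p ∈ S, x p = 2 * ∑ p ∈ S, x p / 2 := by
      rw [Finset.mul_sum]
      exact Finset.sum_congr rfl fun p _ => (Int.mul_ediv_cancel' (hev p)).symm
    push_cast; omega
  rw [hw]
  refine mem_code_of_orth_gen (key _ ?_) fun t => ?_
  · have h1 := sum_test hx none
    have h2 := hev none
    omega
  · rw [qrWord_eq]
    simp only [ite_mul, one_mul, zero_mul]
    rw [Finset.sum_ite_mem, Finset.univ_inter]
    exact key _ (qr_test hx t)

/-- In an odd lattice vector, the coordinates that are `3` modulo `4` form a support of the code. -/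
theorem three_set_mem {x : GolayPt → ℤ} (hx : x ∈ leechLattice) (hodd : ∀ i, ¬ (2 : ℤ) ∣ x i) :
    Finset.univ.filter (fun i => x i % 4 = 3) ∈ supports (golayCode : Set (GolayPt → ZMod 2)) := by
  have h := two_set_mem (sub_mem hx (AddSubgroup.subset_closure vecO_mem)) fun i => by
    have := hodd i
    by_cases hi : i = none <;> simp [vecO, hi] <;> subst_vars <;> omega
  convert h using 1
  ext i
  have := hodd i
  simp only [Finset.mem_filter, Finset.mem_univ, true_and, Pi.sub_apply]
  by_cases hi : i = none <;> simp [vecO, hi] <;> subst_vars <;> omega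

/-- Non-zero vectors have squared length at least 32. -/
theorem min_norm {x : GolayPt → ℤ} (hx : x ∈ leechLattice) (hne : x ≠ 0) : 32 ≤ sqNorm x := by
  classical
  by_cases hev : ∀ i, (2 : ℤ) ∣ x i
  · have hc := two_set_mem hx hev
    by_cases h2 : (Finset.univ.filter fun i => x i % 4 = 2).Nonempty
    · have h8 := CfsgLib.Golay.eight_le_card_support hc h2
      have h4 : ∀ i ∈ Finset.univ.filter (fun i => x i % 4 = 2), (4 : ℤ) ≤ x i ^ 2 := by
        intro i hi
        have := (Finset.mem_filter.mp hi).2
        rcases (show 2 ≤ x i ∨ x i ≤ -2 by omega) with h | h <;> nlinarith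
      have := Finset.card_nsmul_le_sum _ _ _ h4
      have hle : ∑ i ∈ Finset.univ.filter (fun i => x i % 4 = 2), x i ^ 2 ≤ sqNorm x :=
        Finset.sum_le_sum_of_subset_of_nonneg (Finset.subset_univ _) fun i _ _ => sq_nonneg _
      rw [nsmul_eq_mul] at this
      have h8' : (8 : ℤ) ≤ ((Finset.univ.filter fun i => x i % 4 = 2).card : ℤ) := by exact_mod_cast h8
      nlinarith
    · rw [Finset.not_nonempty_iff_eq_empty, Finset.filter_eq_empty_iff] at h2
      have h4 : ∀ i, (4 : ℤ) ∣ x i := fun i => by
        have := h2 (Finset.mem_univ i); have := hev i; omega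
      obtain ⟨i, hi⟩ := Function.ne_iff.mp hne
      have hi16 : ∀ k, x k ≠ 0 → (16 : ℤ) ≤ x k ^ 2 := by
        intro k hk
        obtain ⟨m, hm⟩ := h4 k
        rcases (show 4 ≤ x k ∨ x k ≤ -4 by omega) with h | h <;> nlinarith
      by_cases hk : ∃ k, k ≠ i ∧ x k ≠ 0
      · obtain ⟨k, hki, hk0⟩ := hk
        have := Finset.add_le_sum (f := fun k => x k ^ 2) (fun k _ => sq_nonneg (x k))
          (Finset.mem_univ i) (Finset.mem_univ k) (Ne.symm hki)
        have e1 := hi16 i hi
        have e2 := hi16 k hk0
        show 32 ≤ ∑ k, x k ^ 2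
        linarith
      · push Not at hk
        have hs : ∑ k, x k = x i := Finset.sum_eq_single i (fun k _ h => hk k h) (by simp)
        have hn : sqNorm x = x i ^ 2 :=
          Finset.sum_eq_single i (fun k _ h => by simp [hk k h]) (by simp)
        have h8 := sum_test hx i
        rw [hs] at h8
        obtain ⟨m, hm⟩ := h4 i
        have h2m : 2 ∣ m := by omega
        obtain ⟨n, rfl⟩ := h2m
        rw [hn]
        rcases (show 1 ≤ n ∨ n ≤ -1 by simp only [Pi.zero_apply] at hi; omega) with h | h <;> nlinarith
  · push Not at hev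
    obtain ⟨i₀, hi₀⟩ := hev
    have hodd : ∀ i, ¬ (2 : ℤ) ∣ x i := fun i => by have := par hx i i₀; omega
    by_contra hlt
    have hbig : ∀ i, x i = 1 ∨ x i = -1 := by
      intro i
      by_contra h
      push Not at h
      have h9 : (9 : ℤ) ≤ x i ^ 2 := by
        have := hodd i
        rcases (show 3 ≤ x i ∨ x i ≤ -3 by omega) with h | h <;> nlinarith
      have h1 : ∀ k ∈ Finset.univ.erase i, (1 : ℤ) ≤ x k ^ 2 := by
        intro k _
        have := hodd k
        rcases (show 1 ≤ x k ∨ x k ≤ -1 by omega) with h | h <;> nlinarith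
      have h2 := Finset.card_nsmul_le_sum _ _ _ h1
      rw [nsmul_eq_mul, Finset.card_erase_of_mem (Finset.mem_univ _), Finset.card_univ] at h2
      have h3 := Finset.add_sum_erase Finset.univ (fun k => x k ^ 2) (Finset.mem_univ i)
      have hc : (Fintype.card GolayPt) = 24 := rfl
      rw [hc, show (24 : ℕ) - 1 = 23 from rfl, Nat.cast_ofNat, mul_one] at h2
      apply hlt
      show 32 ≤ ∑ k, x k ^ 2
      rw [← h3]
      linarith
    obtain ⟨j, hj⟩ := CfsgLib.Golay.four_dvd_card_support (three_set_mem hx hodd)
    have hs : ∑ k, x k = 24 - 2 * ((Finset.univ.filter fun k => x k % 4 = 3).card : ℤ) := by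
      have hk : ∀ k, x k = 1 - 2 * (if x k % 4 = 3 then (1 : ℤ) else 0) := fun k => by
        rcases hbig k with h | h <;> rw [h] <;> norm_num
      rw [Finset.sum_congr rfl fun k _ => hk k, Finset.sum_sub_distrib, ← Finset.mul_sum,
        Finset.sum_boole, Finset.sum_const, Finset.card_univ]
      rfl
    have := sum_test hx none
    rw [hs, hj] at this
    have := hodd none
    push_cast at *
    omega

/-! ### Monomial automorphisms -/

/-- Sign change on the support of a code word, as an automorphism. -/
def sgnW (c : golayCode) : Co0 :=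
  ⟨{ toFun := fun v => ⟨fun i => if i ∈ support₂ c.1 then -(v : GolayPt → ℤ) i else (v : GolayPt → ℤ) i,
        Cfsg.Agent.S0433.result _ ⟨c.1, c.2, rfl⟩ _ v.2⟩
     invFun := fun v => ⟨fun i => if i ∈ support₂ c.1 then -(v : GolayPt → ℤ) i else (v : GolayPt → ℤ) i,
        Cfsg.Agent.S0433.result _ ⟨c.1, c.2, rfl⟩ _ v.2⟩
     left_inv := fun v => Subtype.ext <| funext fun i => by dsimp; split_ifs <;> simp
     right_inv := fun v => Subtype.ext <| funext fun i => by dsimp; split_ifs <;> simp },
   fun v w => Subtype.ext <| funext fun i => by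
      dsimp; split_ifs <;> ring,
   fun v => Finset.sum_congr rfl fun i _ => by dsimp; split_ifs <;> ring⟩

theorem sgnW_apply (c : golayCode) (v : leechLattice) (i : GolayPt) :
    ((sgnW c • v : leechLattice) : GolayPt → ℤ) i =
      if c.1 i = 0 then (v : GolayPt → ℤ) i else -(v : GolayPt → ℤ) i := by
  show (if i ∈ support₂ c.1 then -(v : GolayPt → ℤ) i else (v : GolayPt → ℤ) i) = _
  by_cases h : c.1 i = 0 <;> simp [support₂, h]

/-- The sign changes as a homomorphism. -/
def sgnHom : Multiplicative golayCode →* Co0 :=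
  MonoidHom.mk' (fun c => sgnW c.toAdd) fun c d => by
    apply Subtype.ext
    apply Equiv.ext
    intro v
    show sgnW (c.toAdd + d.toAdd) • v = sgnW c.toAdd • sgnW d.toAdd • v
    apply Subtype.ext
    funext i
    simp only [sgnW_apply, Submodule.coe_add, Pi.add_apply]
    rcases zmod2_cases ((c.toAdd).1 i) with h | h <;> rcases zmod2_cases ((d.toAdd).1 i) with h' | h' <;>
      simp [h, h', CharTwo.add_self_eq_zero]

theorem sgnHom_apply (c : Multiplicative golayCode) : sgnHom c = sgnW c.toAdd := rfl

/-- A coordinate permutation from `M24` as an automorphism: coordinate `i` receives coordinate `σ⁻¹ i`. -/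
def permW (σ : M24) : Co0 :=
  ⟨{ toFun := fun v => ⟨fun i => (v : GolayPt → ℤ) ((σ : Equiv.Perm GolayPt).symm i),
        Cfsg.Agent.S0432.result _ (inv_mem σ.2) _ v.2⟩
     invFun := fun v => ⟨fun i => (v : GolayPt → ℤ) ((σ : Equiv.Perm GolayPt) i),
        Cfsg.Agent.S0432.result _ σ.2 _ v.2⟩
     left_inv := fun v => Subtype.ext <| funext fun i => by simp
     right_inv := fun v => Subtype.ext <| funext fun i => by simp },
   fun v w => Subtype.ext <| funext fun i => by simp,
   fun v => Equiv.sum_comp (σ : Equiv.Perm GolayPt).symm fun i => (v : GolayPt → ℤ) i ^ 2⟩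

theorem permW_apply (σ : M24) (v : leechLattice) (i : GolayPt) :
    ((permW σ • v : leechLattice) : GolayPt → ℤ) i = (v : GolayPt → ℤ) ((σ : Equiv.Perm GolayPt).symm i) :=
  rfl

/-- The permutation automorphisms as a homomorphism. -/
def permHom : M24 →* Co0 :=
  MonoidHom.mk' permW fun σ τ => by
    apply Subtype.ext
    apply Equiv.ext
    intro v
    apply Subtype.ext
    funext i
    rfl

theorem permHom_apply (σ : M24) : permHom σ = permW σ := rfl

/-- Two automorphisms agreeing on all `8 e_j` are equal. -/
theorem ext_latE {γ δ : Co0} (h : ∀ j, γ • LeechEight.latE j = δ • LeechEight.latE j) : γ = δ := by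
  refine inv_mul_eq_one.mp (LeechEight.eq_one_of_fix_latE _ fun j => ?_) |>.symm.symm
  show (γ⁻¹ * δ) • LeechEight.latE j = _
  rw [mul_smul, ← h, inv_smul_smul]

theorem sgnW_latE (c : golayCode) (j : GolayPt) :
    sgnW c • LeechEight.latE j = if c.1 j = 0 then LeechEight.latE j else -LeechEight.latE j := by
  apply Subtype.ext
  funext i
  rw [sgnW_apply]
  by_cases hij : i = j
  · subst hij; by_cases h : c.1 i = 0 <;> simp [h]
  · by_cases h : c.1 i = 0 <;> by_cases h' : c.1 j = 0 <;>
      simp [h, h', LeechEight.latE, LeechEight.vecE, hij]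

theorem permW_latE (σ : M24) (j : GolayPt) :
    permW σ • LeechEight.latE j = LeechEight.latE ((σ : Equiv.Perm GolayPt) j) := by
  apply Subtype.ext
  funext i
  rw [permW_apply]
  simp [LeechEight.latE, LeechEight.vecE, Equiv.symm_apply_eq]

theorem smul_neg' (γ : Co0) (v : leechLattice) : γ • -v = -(γ • v) := map_neg (LeechEight.addHom γ) v

theorem smul_add' (γ : Co0) (v w : leechLattice) : γ • (v + w) = γ • v + γ • w :=
  map_add (LeechEight.addHom γ) v w

end CfsgLib.MonsterType
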