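import Mathlib
import Cfsg.Agent.Lib.MonsterType.LatTest
import Cfsg.Agent.Lib.Golay.M24Group

/-! Monomial automorphisms of `leechLattice`, its centre, and the bound on normal abelian 2-subgroups
of the stabilizer of `(4, 4, 0²²)`. -/

set_option autoImplicit false

namespace CfsgLib.MonsterType

open Cfsg
open scoped Pointwise

theorem smul_zsmul' (γ : Co0) (n : ℤ) (v : leechLattice) : γ • (n • v) = n • (γ • v) :=
  map_zsmul (LeechEight.addHom γ) n v

theorem latE_apply (j i : GolayPt) :
    (LeechEight.latE j : GolayPt → ℤ) i = if i = j then 8 else 0 := rfl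

theorem latE_inj {i k : GolayPt} (h : LeechEight.latE i = LeechEight.latE k ∨
    LeechEight.latE i = -LeechEight.latE k) : i = k := by
  by_contra hne
  rcases h with h | h <;> have := congrArg (fun v : leechLattice => (v : GolayPt → ℤ) i) h <;>
    simp [latE_apply, hne] at this

theorem eq_sgn_latE {y : leechLattice} {k : GolayPt} (hy : ∀ i, i ≠ k → (y : GolayPt → ℤ) i = 0)
    (hn : sqNorm (y : GolayPt → ℤ) = 64) : y = LeechEight.latE k ∨ y = -LeechEight.latE k := by
  have hs : sqNorm (y : GolayPt → ℤ) = (y : GolayPt → ℤ) k ^ 2 :=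
    Finset.sum_eq_single k (fun i _ h => by simp [hy i h]) (by simp)
  rw [hs] at hn
  rcases sq_eq_sq_iff_eq_or_eq_neg.mp (hn.trans (by norm_num : (64 : ℤ) = 8 ^ 2)) with h | h
  · left; apply Subtype.ext; funext i
    by_cases hi : i = k
    · subst hi; simp [latE_apply, h]
    · simp [latE_apply, hi, hy i hi]
  · right; apply Subtype.ext; funext i
    by_cases hi : i = k
    · subst hi; simp [latE_apply, h]
    · simp [latE_apply, hi, hy i hi]

theorem sqNorm_image_latE (γ : Co0) (j : GolayPt) :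
    sqNorm ((γ • LeechEight.latE j : leechLattice) : GolayPt → ℤ) = 64 := by
  show sqNorm ((LeechEight.addHom γ (LeechEight.latE j) : leechLattice) : GolayPt → ℤ) = 64
  rw [LeechEight.sqNorm_addHom, sqNorm, Finset.sum_eq_single j (fun i _ h => by simp [latE_apply, h]) (by simp)]
  simp [latE_apply]

/-- Commuting with a sign change confines the image of `8 e_j` to the coordinates where the word agrees. -/
theorem eq_of_commute {γ : Co0} {c : golayCode} (h : γ * sgnW c = sgnW c * γ) {i j : GolayPt}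
    (hi : ((γ • LeechEight.latE j : leechLattice) : GolayPt → ℤ) i ≠ 0) : c.1 i = c.1 j := by
  have h1 := congrArg (fun δ : Co0 => ((δ • LeechEight.latE j : leechLattice) : GolayPt → ℤ) i) h
  simp only [mul_smul, sgnW_apply, sgnW_latE] at h1
  rcases zmod2_cases (c.1 i) with ei | ei <;> rcases zmod2_cases (c.1 j) with ej | ej <;>
    simp [ei, ej, smul_neg'] at h1 ⊢ <;> omega

theorem act_code {σ : Equiv.Perm GolayPt} (hσ : σ ∈ M24) (c : golayCode) :
    CfsgLib.GolayModule.act σ c.1 ∈ golayCode := CfsgLib.GolayModule.act_mem_code hσ c.2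

/-- A code word separating a point from three others. -/
theorem sep {i a b k : GolayPt} (ha : i ≠ a) (hb : i ≠ b) (hk : i ≠ k) :
    ∃ c : golayCode, c.1 i = 1 ∧ c.1 a = 0 ∧ c.1 b = 0 ∧ c.1 k = 0 := by
  classical
  obtain ⟨i0, hi0⟩ : ∃ p, p ∈ qrSupp 0 := Finset.card_pos.mp (by rw [card_qrSupp]; norm_num)
  have h3 : 3 ≤ ((qrSupp 0)ᶜ).card := by
    rw [Finset.card_compl, card_qrSupp]; decide
  set T := [a, b, k].dedup with hT
  have hTlen : T.length ≤ 3 := (List.dedup_sublist [a, b, k]).length_le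
  obtain ⟨O, hOsub, hO⟩ := Finset.exists_subset_card_eq (hTlen.trans h3)
  have hnd : (i :: T).Nodup := by
    rw [List.nodup_cons]
    refine ⟨?_, List.nodup_dedup _⟩
    simp [hT, ha, hb, hk]
  have hnd' : (i0 :: O.toList).Nodup := by
    rw [List.nodup_cons]
    refine ⟨fun h => ?_, O.nodup_toList⟩
    exact Finset.mem_compl.mp (hOsub (Finset.mem_toList.mp h)) hi0
  obtain ⟨g, hg, hgL⟩ := CfsgLib.Golay.exists_map_eq hnd' hnd
    (by simp [Finset.length_toList, hO])
    (by simp only [List.length_cons, Finset.length_toList, hO]; omega)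
  simp only [List.map_cons, List.cons.injEq] at hgL
  refine ⟨⟨_, act_code hg ⟨qrWord 0, qrWord_mem 0⟩⟩, ?_, ?_⟩
  · show qrWord 0 (g.symm i) = 1
    rw [← hgL.1, Equiv.symm_apply_apply, qrWord_eq]
    simp [hi0]
  · have h0 : ∀ p ∈ T, qrWord 0 (g.symm p) = 0 := by
      intro p hp
      rw [← hgL.2, List.mem_map] at hp
      obtain ⟨o, ho, rfl⟩ := hp
      rw [Equiv.symm_apply_apply, qrWord_eq]
      simp [Finset.mem_compl.mp (hOsub (Finset.mem_toList.mp ho))]
    exact ⟨h0 a (by simp [hT]), h0 b (by simp [hT]), h0 k (by simp [hT])⟩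

/-- An automorphism permuting the vectors `±8 e_j` is monomial. -/
theorem monomial {γ : Co0}
    (h : ∀ j, ∃ k, γ • LeechEight.latE j = LeechEight.latE k ∨ γ • LeechEight.latE j = -LeechEight.latE k) :
    ∃ (c : golayCode) (σ : M24), γ = sgnW c * permW σ := by
  classical
  choose f hf using h
  have hinj : Function.Injective f := by
    intro i j e
    apply latE_inj
    have hi := hf i; have hj := hf j
    rw [e] at hi
    rcases hi with hi | hi <;> rcases hj with hj | hj
    · exact Or.inl (MulAction.injective γ (hi.trans hj.symm))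
    · refine Or.inr (MulAction.injective γ ?_)
      show γ • _ = γ • _
      rw [smul_neg', hi, hj, neg_neg]
    · refine Or.inr (MulAction.injective γ ?_)
      show γ • _ = γ • _
      rw [smul_neg', hi, hj]
    · exact Or.inl (MulAction.injective γ (hi.trans hj.symm))
  set σ : Equiv.Perm GolayPt := Equiv.ofBijective f (Finite.injective_iff_bijective.mp hinj) with hσ
  let d : GolayPt → ZMod 2 := fun i =>
    if γ • LeechEight.latE (σ.symm i) = LeechEight.latE i then 0 else 1
  have hd : ∀ j, γ • LeechEight.latE j =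
      if d (σ j) = 0 then LeechEight.latE (σ j) else -LeechEight.latE (σ j) := by
    intro j
    simp only [d, Equiv.symm_apply_apply]
    by_cases e : γ • LeechEight.latE j = LeechEight.latE (σ j)
    · simp [e]
    · simp only [if_neg e, one_ne_zero, if_false]
      exact (hf j).resolve_left e
  have hval : ∀ (v : leechLattice) (j : GolayPt), ((γ • v : leechLattice) : GolayPt → ℤ) (σ j) =
      if d (σ j) = 0 then (v : GolayPt → ℤ) j else -(v : GolayPt → ℤ) j := by
    intro v j
    have h8 := LeechEight.eight_addHom γ v (σ j)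
    rw [Finset.sum_eq_single j (fun k _ hk => ?_) (by simp)] at h8
    · rw [show LeechEight.addHom γ (LeechEight.latE j) = _ from hd j] at h8
      show ((LeechEight.addHom γ v : leechLattice) : GolayPt → ℤ) (σ j) = _
      by_cases e : d (σ j) = 0 <;> simp [e, latE_apply] at h8 ⊢ <;> omega
    · rw [show LeechEight.addHom γ (LeechEight.latE k) = _ from hd k]
      have : σ j ≠ σ k := fun e => hk (σ.injective e).symm
      split_ifs <;> simp [latE_apply, this]
  -- the signs form a code word
  have hdc : d ∈ golayCode := by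
    have hO : ∀ p, ((latO : GolayPt → ℤ) p) % 4 = 1 := by decide
    have hodd : ∀ i, ¬ (2 : ℤ) ∣ ((γ • latO : leechLattice) : GolayPt → ℤ) i := by
      intro i
      have := hval latO (σ.symm i); have := hO (σ.symm i)
      rw [Equiv.apply_symm_apply] at *
      split_ifs at * <;> omega
    have h3 := mem_supports_iff.mp (three_set_mem (γ • latO : leechLattice).2 hodd)
    convert h3 using 1
    funext i
    have h1 := hval latO (σ.symm i); have := hO (σ.symm i)
    rw [Equiv.apply_symm_apply] at h1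
    simp only [Finset.mem_filter, Finset.mem_univ, true_and]
    rcases zmod2_cases (d i) with e | e <;> simp [e] at h1 <;> simp [e, h1] <;> omega
  -- the permutation preserves the code
  have hσM : σ ∈ M24 := by
    have hgen : ∀ c ∈ golayCode, CfsgLib.GolayModule.act σ c ∈ golayCode := by
      intro c hc
      induction hc using Submodule.span_induction with
      | mem x hx =>
        rcases hx with ⟨t, rfl⟩ | rfl
        · have hev : ∀ i, (2 : ℤ) ∣ ((γ • latW t : leechLattice) : GolayPt → ℤ) i := by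
            intro i
            have h1 := hval (latW t) (σ.symm i)
            rw [Equiv.apply_symm_apply] at h1
            rw [h1]
            show (2 : ℤ) ∣ if d i = 0 then vecW t _ else -vecW t _
            simp only [vecW]
            split_ifs <;> norm_num
          have h2 := mem_supports_iff.mp (two_set_mem (γ • latW t : leechLattice).2 hev)
          convert h2 using 1
          funext i
          have h1 := hval (latW t) (σ.symm i)
          rw [Equiv.apply_symm_apply] at h1
          simp only [Finset.mem_filter, Finset.mem_univ, true_and, h1]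
          show qrWord t (σ.symm i) = _
          rw [qrWord_eq]
          show _ = if (if d i = 0 then vecW t (σ.symm i) else -vecW t (σ.symm i)) % 4 = 2 then (1 : ZMod 2) else 0
          by_cases hm : σ.symm i ∈ qrSupp t <;> by_cases e : d i = 0 <;> simp [vecW, hm, e]
        · exact one_mem_golay
      | zero => exact Submodule.zero_mem _
      | add x y _ _ hx hy => exact Submodule.add_mem _ hx hy
      | smul a x _ hx => exact Submodule.smul_mem _ a hx
    rw [CfsgLib.Golay.mem_M24_iff]
    rintro b ⟨w, hw, rfl⟩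
    exact ⟨_, hgen w hw, CfsgLib.GolayModule.support₂_act σ w⟩
  refine ⟨⟨d, hdc⟩, ⟨σ, hσM⟩, ext_latE fun j => ?_⟩
  rw [mul_smul, permW_latE, sgnW_latE, hd]

theorem perm_sgn (σ : M24) (c : golayCode) :
    permW σ * sgnW c * (permW σ)⁻¹ = sgnW ⟨_, act_code σ.2 c⟩ := by
  rw [mul_inv_eq_iff_eq_mul]
  refine ext_latE fun j => ?_
  rw [mul_smul, mul_smul, sgnW_latE, permW_latE, sgnW_latE]
  simp only [CfsgLib.GolayModule.act_apply, Equiv.symm_apply_apply]
  split_ifs <;> simp [smul_neg', permW_latE]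

/-- The central elements are `±1`. -/
theorem center_cases {γ : Co0} (h : γ ∈ Subgroup.center Co0) :
    γ = 1 ∨ γ = sgnW ⟨1, one_mem_golay⟩ := by
  have hs : ∀ j, γ • LeechEight.latE j = LeechEight.latE j ∨ γ • LeechEight.latE j = -LeechEight.latE j := by
    intro j
    refine eq_sgn_latE (fun i hi => ?_) (sqNorm_image_latE γ j)
    by_contra hne
    obtain ⟨c, hci, hcj, -, -⟩ := sep hi hi hi
    have := eq_of_commute (Subgroup.mem_center_iff.mp h (sgnW c)).symm hne
    rw [hci, hcj] at this
    exact one_ne_zero this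
  have hall : ∀ j, (γ • LeechEight.latE none = LeechEight.latE none → γ • LeechEight.latE j = LeechEight.latE j) ∧
      (γ • LeechEight.latE none = -LeechEight.latE none → γ • LeechEight.latE j = -LeechEight.latE j) := by
    intro j
    obtain ⟨g, hg, hgL⟩ := CfsgLib.Golay.exists_map_eq (L := [none]) (L' := [j]) (by simp) (by simp) rfl (by simp)
    simp only [List.map_cons, List.map_nil, List.cons.injEq, and_true] at hgL
    have hj : LeechEight.latE j = permW ⟨g, hg⟩ • LeechEight.latE none := by rw [permW_latE, hgL]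
    constructor <;> intro e <;>
      rw [hj, ← mul_smul, ← Subgroup.mem_center_iff.mp h, mul_smul, e]
    rw [smul_neg']
  rcases hs none with e | e
  · exact Or.inl (ext_latE fun j => by rw [(hall j).1 e, one_smul])
  · exact Or.inr (ext_latE fun j => by rw [(hall j).2 e, sgnW_latE]; simp)

theorem neg_mem_center : sgnW ⟨1, one_mem_golay⟩ ∈ Subgroup.center Co0 := by
  rw [Subgroup.mem_center_iff]
  intro γ
  refine ext_latE fun j => ?_
  have hneg : ∀ v : leechLattice, sgnW ⟨1, one_mem_golay⟩ • v = -v := fun v => by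
    apply Subtype.ext; funext i; rw [sgnW_apply]; simp
  rw [mul_smul, mul_smul, hneg, hneg, smul_neg']

/-! ### The stabilizer of `(4, 4, 0²²)` -/

theorem leechU_apply (i : GolayPt) :
    (Spor.leechU : GolayPt → ℤ) i = if i = none ∨ i = some 0 then 4 else 0 := rfl

/-- An element commuting with sign changes that separate the points outside `{none, some 0}` is itself a
sign change. -/
theorem eq_sgn_of_separated {n : Co0} (hfix : n • Spor.leechU = Spor.leechU)
    (T : golayCode → Prop) (hT : ∀ c, T c → n * sgnW c = sgnW c * n)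
    (hT0 : ∀ c : golayCode, T c → c.1 none = 0 ∧ c.1 (some 0) = 0)
    (hsep1 : ∀ i, i ≠ none → i ≠ some 0 → ∃ c, T c ∧ c.1 i ≠ 0)
    (hsep2 : ∀ i k, i ≠ none → i ≠ some 0 → k ≠ none → k ≠ some 0 → i ≠ k → ∃ c, T c ∧ c.1 i ≠ c.1 k) :
    ∃ c : golayCode, (c.1 none = 0 ∧ c.1 (some 0) = 0) ∧ n = sgnW c := by
  have hpair : ∀ i j, ((n • LeechEight.latE j : leechLattice) : GolayPt → ℤ) i ≠ 0 → i ≠ j →
      (i = none ∨ i = some 0) ∧ (j = none ∨ j = some 0) := by
    intro i j hne hij
    by_cases hi : i = none ∨ i = some 0 <;> by_cases hj : j = none ∨ j = some 0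
    · exact ⟨hi, hj⟩
    · exfalso
      push Not at hj
      obtain ⟨c, hc, hcj⟩ := hsep1 j hj.1 hj.2
      have := eq_of_commute (hT c hc) hne
      rcases hi with rfl | rfl
      · exact hcj (this.symm.trans (hT0 c hc).1)
      · exact hcj (this.symm.trans (hT0 c hc).2)
    · exfalso
      push Not at hi
      obtain ⟨c, hc, hci⟩ := hsep1 i hi.1 hi.2
      have := eq_of_commute (hT c hc) hne
      rcases hj with rfl | rfl
      · exact hci (this.trans (hT0 c hc).1)
      · exact hci (this.trans (hT0 c hc).2)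
    · exfalso
      push Not at hi hj
      obtain ⟨c, hc, hcc⟩ := hsep2 i j hi.1 hi.2 hj.1 hj.2 hij
      exact hcc (eq_of_commute (hT c hc) hne)
  have hmono : ∀ j, ∃ k, ((j = none ∨ j = some 0) ∨ k = j) ∧ ((k = none ∨ k = some 0) ∨ k = j) ∧
      (n • LeechEight.latE j = LeechEight.latE k ∨ n • LeechEight.latE j = -LeechEight.latE k) := by
    intro j
    by_cases hj : j = none ∨ j = some 0
    · set y := ((n • LeechEight.latE j : leechLattice) : GolayPt → ℤ) with hy
      have hzero : ∀ i, i ≠ none → i ≠ some 0 → y i = 0 := by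
        intro i h1 h2
        by_contra h
        have hij : i ≠ j := by rcases hj with rfl | rfl <;> assumption
        rcases (hpair i j h hij).1 with e | e
        exacts [h1 e, h2 e]
      have hn := sqNorm_image_latE n j
      rw [sqNorm, ← hy, ← Finset.sum_subset (Finset.subset_univ {(none : GolayPt), some 0})
        (fun i _ hi => by simp at hi; simp [hzero i hi.1 hi.2]), Finset.sum_pair (by decide)] at hn
      have hb1 : -8 ≤ y none ∧ y none ≤ 8 := by constructor <;> nlinarith [sq_nonneg (y (some 0))]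
      have hb2 : -8 ≤ y (some 0) ∧ y (some 0) ≤ 8 := by constructor <;> nlinarith [sq_nonneg (y none)]
      have key : ∀ p q : Fin 17, ((p : ℤ) - 8) ^ 2 + ((q : ℤ) - 8) ^ 2 = 64 → (p : ℤ) - 8 = 0 ∨ (q : ℤ) - 8 = 0 := by
        decide
      have hz := key ⟨(y none + 8).toNat, by omega⟩ ⟨(y (some 0) + 8).toNat, by omega⟩
        (by simp only [Int.toNat_of_nonneg (show 0 ≤ y none + 8 by omega),
              Int.toNat_of_nonneg (show 0 ≤ y (some 0) + 8 by omega)]
            simpa using hn)
      simp only [Int.toNat_of_nonneg (show 0 ≤ y none + 8 by omega),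
        Int.toNat_of_nonneg (show 0 ≤ y (some 0) + 8 by omega), add_sub_cancel_right] at hz
      rcases hz with e | e
      · refine ⟨some 0, Or.inl hj, Or.inl (Or.inr rfl), eq_sgn_latE (fun i hi => ?_) (sqNorm_image_latE n j)⟩
        by_cases h1 : i = none
        · rw [h1]; exact e
        · exact hzero i h1 hi
      · refine ⟨none, Or.inl hj, Or.inl (Or.inl rfl), eq_sgn_latE (fun i hi => ?_) (sqNorm_image_latE n j)⟩
        by_cases h1 : i = some 0
        · rw [h1]; exact e
        · exact hzero i hi h1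
    · refine ⟨j, Or.inr rfl, Or.inr rfl, eq_sgn_latE (fun i hi => ?_) (sqNorm_image_latE n j)⟩
      by_contra h
      exact hj (hpair i j h hi).2
  obtain ⟨c, σ, rfl⟩ := monomial fun j => let ⟨k, _, _, hk⟩ := hmono j; ⟨k, hk⟩
  have hσfix : ∀ j, j ≠ none → j ≠ some 0 → (σ : Equiv.Perm GolayPt) j = j := by
    intro j h1 h2
    obtain ⟨k, hk1, -, hk⟩ := hmono j
    obtain rfl : k = j := hk1.resolve_left (by simp [h1, h2])
    rw [mul_smul, permW_latE, sgnW_latE] at hk
    apply latE_inj
    split_ifs at hk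
    · exact hk
    · rcases hk with hk | hk
      · exact Or.inr (by rw [← hk, neg_neg])
      · exact Or.inl (neg_injective hk)
  have hσ1 : σ = 1 := by
    apply Subtype.ext
    apply Equiv.ext
    intro j
    by_contra hmove
    rw [OneMemClass.coe_one, Equiv.Perm.one_apply] at hmove
    obtain ⟨w, hw1, hw0, -, -⟩ := sep (i := none) (a := some 0) (b := some 0) (k := some 0)
      (by simp) (by simp) (by simp)
    have hpts : ∀ p : GolayPt, (p = none ∨ p = some 0) →
        (σ : Equiv.Perm GolayPt) p = none ∨ (σ : Equiv.Perm GolayPt) p = some 0 := by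
      intro p hp
      by_contra hout
      push Not at hout
      have := (σ : Equiv.Perm GolayPt).injective (hσfix _ hout.1 hout.2)
      rw [this] at hout
      rcases hp with rfl | rfl
      exacts [hout.1 rfl, hout.2 rfl]
    have hne : (σ : Equiv.Perm GolayPt) none ≠ none := by
      intro e
      rcases eq_or_ne j none with rfl | hj1
      · exact hmove e
      rcases eq_or_ne j (some 0) with rfl | hj2
      · rcases hpts (some 0) (Or.inr rfl) with e' | e'
        · exact absurd ((σ : Equiv.Perm GolayPt).injective (e'.trans e.symm)) (by simp)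
        · exact hmove e'
      exact hmove (hσfix j hj1 hj2)
    have hab := (hpts none (Or.inl rfl)).resolve_left hne
    have hba : (σ : Equiv.Perm GolayPt) (some 0) = none := by
      refine (hpts (some 0) (Or.inr rfl)).resolve_right fun e => ?_
      exact absurd ((σ : Equiv.Perm GolayPt).injective (e.trans hab.symm)) (by simp)
    set u : GolayPt → ZMod 2 := CfsgLib.GolayModule.act (σ : Equiv.Perm GolayPt) w.1 + w.1 with hu
    have huC : u ∈ golayCode := Submodule.add_mem _ (act_code σ.2 w) w.2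
    have hus : support₂ u ⊆ {(none : GolayPt), some 0} := by
      intro p hp
      by_contra hp'
      simp only [Finset.mem_insert, Finset.mem_singleton, not_or] at hp'
      simp only [support₂, Finset.mem_filter, hu, Pi.add_apply, CfsgLib.GolayModule.act_apply] at hp
      rw [Equiv.symm_apply_eq _ |>.mpr (hσfix p hp'.1 hp'.2).symm] at hp
      exact hp.2 (CharTwo.add_self_eq_zero _)
    have hune : (none : GolayPt) ∈ support₂ u := by
      simp only [support₂, Finset.mem_filter, Finset.mem_univ, true_and, hu, Pi.add_apply,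
        CfsgLib.GolayModule.act_apply, Equiv.symm_apply_eq _ |>.mpr hba.symm, hw0, hw1]
      decide
    have h8 := CfsgLib.Golay.eight_le_card_support ⟨u, huC, rfl⟩ ⟨none, hune⟩
    have := (Finset.card_le_card hus).trans (Finset.card_le_two)
    omega
  subst hσ1
  have hp1 : permW 1 = 1 := map_one permHom
  rw [hp1, mul_one] at hfix ⊢
  refine ⟨c, ?_, rfl⟩
  have hc : ∀ p, (p = none ∨ p = some 0) → c.1 p = 0 := by
    intro p hp
    have := congrArg (fun v : leechLattice => (v : GolayPt → ℤ) p) hfix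
    simp only [sgnW_apply, leechU_apply, if_pos hp] at this
    by_contra hne
    rw [if_neg hne] at this
    omega
  exact ⟨hc none (Or.inl rfl), hc (some 0) (Or.inr rfl)⟩

theorem sgnW_fix_leechU {c : golayCode} (hc : c.1 none = 0 ∧ c.1 (some 0) = 0) :
    sgnW c • Spor.leechU = Spor.leechU := by
  apply Subtype.ext
  funext i
  rw [sgnW_apply, leechU_apply]
  by_cases h : i = none ∨ i = some 0
  · rcases h with rfl | rfl <;> simp [hc.1, hc.2]
  · simp [h]

theorem permW_fix_leechU {σ : M24} (h1 : (σ : Equiv.Perm GolayPt) none = none)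
    (h2 : (σ : Equiv.Perm GolayPt) (some 0) = some 0) : permW σ • Spor.leechU = Spor.leechU := by
  apply Subtype.ext
  funext i
  rw [permW_apply, leechU_apply, leechU_apply]
  simp only [Equiv.symm_apply_eq, h1, h2]

theorem card_zero_pair_le :
    Nat.card {c : golayCode // c.1 none = 0 ∧ c.1 (some 0) = 0} ≤ 2 ^ 10 := by
  let φ : golayCode →+ ZMod 2 × ZMod 2 :=
    AddMonoidHom.mk' (fun c => (c.1 none, c.1 (some 0))) fun c d => rfl
  have hs : Function.Surjective φ := by
    rintro ⟨x, y⟩
    obtain ⟨c, hc1, hc0, -, -⟩ := sep (i := (none : GolayPt)) (a := some 0) (b := some 0) (k := some 0)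
      (by simp) (by simp) (by simp)
    obtain ⟨d, hd1, hd0, -, -⟩ := sep (i := (some 0 : GolayPt)) (a := none) (b := none) (k := none)
      (by simp) (by simp) (by simp)
    rcases zmod2_cases x with rfl | rfl <;> rcases zmod2_cases y with rfl | rfl
    · exact ⟨0, rfl⟩
    · exact ⟨d, by simp [φ, hd1, hd0]⟩
    · exact ⟨c, by simp [φ, hc1, hc0]⟩
    · exact ⟨c + d, by simp [φ, hc1, hc0, hd1, hd0]⟩
  have h := AddSubgroup.card_mul_index φ.ker
  rw [AddSubgroup.index_ker, AddMonoidHom.range_eq_top.mpr hs, AddSubgroup.card_top, Nat.card_prod,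
    Nat.card_zmod, CfsgLib.Golay.natCard_golayCode] at h
  have he : Nat.card {c : golayCode // c.1 none = 0 ∧ c.1 (some 0) = 0} = Nat.card φ.ker :=
    Nat.card_congr (Equiv.subtypeEquivRight fun c => by simp [φ, AddMonoidHom.mem_ker])
  omega

/-- A non-trivial abelian normal 2-subgroup of the stabilizer of `(4, 4, 0²²)` contains sign changes
separating the points outside `{none, some 0}`. -/
theorem exists_separating (N : Subgroup Co0) (hfin : Finite N) (hp : IsPGroup 2 N) (hne : N ≠ ⊥)
    (hfix : ∀ n ∈ N, n • Spor.leechU = Spor.leechU)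
    (hnorm : ∀ γ : Co0, γ • Spor.leechU = Spor.leechU → ∀ n ∈ N, γ * n * γ⁻¹ ∈ N) :
    (∀ i, i ≠ none → i ≠ some 0 → ∃ c : golayCode,
      ((c.1 none = 0 ∧ c.1 (some 0) = 0) ∧ sgnW c ∈ N) ∧ c.1 i ≠ 0) ∧
    (∀ i k, i ≠ none → i ≠ some 0 → k ≠ none → k ≠ some 0 → i ≠ k → ∃ c : golayCode,
      ((c.1 none = 0 ∧ c.1 (some 0) = 0) ∧ sgnW c ∈ N) ∧ c.1 i ≠ c.1 k) := by
  classical
  haveI : Fact (Nat.Prime 2) := ⟨Nat.prime_two⟩
  let S : Subgroup Co0 :=
    { carrier := {γ | ∃ c : golayCode, (c.1 none = 0 ∧ c.1 (some 0) = 0) ∧ γ = sgnW c}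
      one_mem' := ⟨0, ⟨rfl, rfl⟩, (map_one sgnHom).symm⟩
      mul_mem' := by
        rintro _ _ ⟨c, hc, rfl⟩ ⟨d, hd, rfl⟩
        exact ⟨c + d, ⟨by simp [hc.1, hd.1], by simp [hc.2, hd.2]⟩,
          (map_mul sgnHom (Multiplicative.ofAdd c) (Multiplicative.ofAdd d)).symm⟩
      inv_mem' := by
        rintro _ ⟨c, hc, rfl⟩
        exact ⟨-c, ⟨by simp [hc.1], by simp [hc.2]⟩, (map_inv sgnHom (Multiplicative.ofAdd c)).symm⟩ }
  have hSp : IsPGroup 2 S := by
    rintro ⟨_, c, hc, rfl⟩
    refine ⟨1, Subtype.ext ?_⟩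
    show sgnW c ^ (2 ^ 1) = 1
    rw [pow_one, sq]
    show sgnHom (Multiplicative.ofAdd c) * sgnHom (Multiplicative.ofAdd c) = 1
    rw [← map_mul]
    convert map_one sgnHom
    show Multiplicative.ofAdd (c + c) = 1
    rw [show c + c = 0 from Subtype.ext (funext fun i => CharTwo.add_self_eq_zero (c.1 i))]
    rfl
  have hSfix : ∀ γ ∈ S, γ • Spor.leechU = Spor.leechU := by
    rintro _ ⟨c, hc, rfl⟩; exact sgnW_fix_leechU hc
  letI : MulAction S N :=
    { smul := fun γ n => ⟨γ * n * (γ : Co0)⁻¹, hnorm γ (hSfix γ γ.2) n n.2⟩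
      one_smul := fun n => Subtype.ext (show (1 : Co0) * n * 1⁻¹ = n by simp)
      mul_smul := fun γ δ n => Subtype.ext (show (γ * δ : Co0) * n * (γ * δ : Co0)⁻¹ =
        γ * (δ * n * (δ : Co0)⁻¹) * (γ : Co0)⁻¹ by group) }
  have h2 : 2 ∣ Nat.card N := by
    obtain ⟨m, hm⟩ := IsPGroup.iff_card.mp hp
    rcases m with _ | m
    · exact absurd (Subgroup.eq_bot_of_card_eq _ (by rw [hm]; norm_num)) hne
    · rw [hm, pow_succ]; exact dvd_mul_left _ _
  obtain ⟨n, hn, hn1'⟩ := hSp.exists_fixed_point_of_prime_dvd_card_of_fixed_point N h2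
    (a := 1) (fun γ => Subtype.ext (show (γ : Co0) * 1 * (γ : Co0)⁻¹ = 1 by group))
  -- this element is a sign change
  obtain ⟨c₁, hc₁, hnc⟩ := eq_sgn_of_separated (hfix n n.2)
    (fun c => c.1 none = 0 ∧ c.1 (some 0) = 0)
    (fun c hc => (mul_inv_eq_iff_eq_mul.mp (congrArg Subtype.val (hn ⟨_, c, hc, rfl⟩))).symm)
    (fun c hc => hc)
    (fun i h1 h2 => by
      obtain ⟨c, hci, hca, hcb, -⟩ := sep h1 h2 h1
      exact ⟨c, ⟨hca, hcb⟩, by rw [hci]; exact one_ne_zero⟩)
    (fun i k h1 h2 _ _ hik => by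
      obtain ⟨c, hci, hca, hcb, hck⟩ := sep h1 h2 hik
      exact ⟨c, ⟨hca, hcb⟩, by rw [hci, hck]; exact one_ne_zero⟩)
  let T : golayCode → Prop := fun c => (c.1 none = 0 ∧ c.1 (some 0) = 0) ∧ sgnW c ∈ N
  have hc₁T : T c₁ := ⟨hc₁, hnc ▸ n.2⟩
  have hc₁ne : ∃ p, c₁.1 p ≠ 0 := by
    by_contra h
    push Not at h
    refine hn1' (Subtype.ext ?_).symm
    rw [hnc, show c₁ = 0 from Subtype.ext (funext h)]
    exact (map_one sgnHom).symm
  have hTact : ∀ (c : golayCode), T c → ∀ σ : M24, (σ : Equiv.Perm GolayPt) none = none →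
      (σ : Equiv.Perm GolayPt) (some 0) = some 0 → T ⟨_, act_code σ.2 c⟩ := by
    intro c hc σ h1 h2
    refine ⟨⟨?_, ?_⟩, perm_sgn σ c ▸ hnorm _ (permW_fix_leechU h1 h2) _ hc.2⟩
    · show c.1 ((σ : Equiv.Perm GolayPt).symm none) = 0
      rw [(Equiv.symm_apply_eq _).mpr h1.symm]; exact hc.1.1
    · show c.1 ((σ : Equiv.Perm GolayPt).symm (some 0)) = 0
      rw [(Equiv.symm_apply_eq _).mpr h2.symm]; exact hc.1.2
  have hne0 : ∀ p, c₁.1 p ≠ 0 → p ≠ none ∧ p ≠ some 0 := fun p hp =>
    ⟨fun e => hp (e ▸ hc₁.1), fun e => hp (e ▸ hc₁.2)⟩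
  have hsep1 : ∀ i, i ≠ none → i ≠ some 0 → ∃ c, T c ∧ c.1 i ≠ 0 := by
    intro i h1 h2
    obtain ⟨p, hp⟩ := hc₁ne
    obtain ⟨g, hg, hgL⟩ := CfsgLib.Golay.exists_map_eq (L := [none, some 0, p]) (L' := [none, some 0, i])
      (by simp [(hne0 p hp).1.symm, (hne0 p hp).2.symm]) (by simp [Ne.symm h1, Ne.symm h2]) rfl (by simp)
    simp only [List.map_cons, List.map_nil, List.cons.injEq, and_true] at hgL
    refine ⟨_, hTact c₁ hc₁T ⟨g, hg⟩ hgL.1 hgL.2.1, ?_⟩
    show c₁.1 (g.symm i) ≠ 0
    rw [← hgL.2.2, Equiv.symm_apply_apply]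
    exact hp
  have hsep2 : ∀ i k, i ≠ none → i ≠ some 0 → k ≠ none → k ≠ some 0 → i ≠ k → ∃ c, T c ∧ c.1 i ≠ c.1 k := by
    intro i k hi1 hi2 hk1 hk2 hik
    obtain ⟨p, hp⟩ := hc₁ne
    obtain ⟨q, hq1, hq2, hpq⟩ : ∃ q, q ≠ none ∧ q ≠ some 0 ∧ c₁.1 p ≠ c₁.1 q := by
      by_contra h
      push Not at h
      have hsub : support₂ c₁.1 = Finset.univ \ {(none : GolayPt), some 0} := by
        ext q
        simp only [support₂, Finset.mem_filter, Finset.mem_univ, true_and, Finset.mem_sdiff,
          Finset.mem_insert, Finset.mem_singleton]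
        constructor
        · intro hq; simpa [not_or] using hne0 q hq
        · intro hq
          push Not at hq
          rw [← h q hq.1 hq.2]
          exact hp
      have := CfsgLib.Golay.card_support (b := support₂ c₁.1) ⟨c₁.1, c₁.2, rfl⟩
      rw [hsub, Finset.card_univ_diff, show Fintype.card GolayPt = 24 from rfl,
        Finset.card_pair (by simp)] at this
      omega
    have hpq' : p ≠ q := fun e => hpq (by rw [e])
    obtain ⟨g, hg, hgL⟩ := CfsgLib.Golay.exists_map_eq (L := [none, some 0, p, q]) (L' := [none, some 0, i, k])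
      (by simp [(hne0 p hp).1.symm, (hne0 p hp).2.symm, Ne.symm hq1, Ne.symm hq2,
        hpq'])
      (by simp [Ne.symm hi1, Ne.symm hi2, Ne.symm hk1, Ne.symm hk2, hik]) rfl (by simp)
    simp only [List.map_cons, List.map_nil, List.cons.injEq, and_true] at hgL
    refine ⟨_, hTact c₁ hc₁T ⟨g, hg⟩ hgL.1 hgL.2.1, ?_⟩
    show c₁.1 (g.symm i) ≠ c₁.1 (g.symm k)
    rw [← hgL.2.2.1, ← hgL.2.2.2, Equiv.symm_apply_apply, Equiv.symm_apply_apply]
    exact hpq
  exact ⟨hsep1, hsep2⟩

/-- An abelian normal 2-subgroup of the stabilizer of `(4, 4, 0²²)` has order at most `2 ^ 10`. -/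
theorem twoGroup_stab_bound (N : Subgroup Co0) (hfin : Finite N) (hp : IsPGroup 2 N)
    (hcomm : ∀ m ∈ N, ∀ n ∈ N, m * n = n * m) (hfix : ∀ n ∈ N, n • Spor.leechU = Spor.leechU)
    (hnorm : ∀ γ : Co0, γ • Spor.leechU = Spor.leechU → ∀ n ∈ N, γ * n * γ⁻¹ ∈ N) :
    Nat.card N ≤ 2 ^ 10 := by
  classical
  by_contra hlt
  push Not at hlt
  obtain ⟨hsep1, hsep2⟩ := exists_separating N hfin hp (fun e => by rw [e, Subgroup.card_bot] at hlt; norm_num at hlt) hfix hnorm
  let T : golayCode → Prop := fun c => (c.1 none = 0 ∧ c.1 (some 0) = 0) ∧ sgnW c ∈ N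
  have hall : ∀ m : N, ∃ c : {c : golayCode // c.1 none = 0 ∧ c.1 (some 0) = 0}, (m : Co0) = sgnW c.1 := by
    intro m
    obtain ⟨c, hc, he⟩ := eq_sgn_of_separated (hfix m m.2) T (fun c hc => hcomm m m.2 _ hc.2)
      (fun c hc => hc.1) hsep1 hsep2
    exact ⟨⟨c, hc⟩, he⟩
  choose f hf using hall
  have := Nat.card_le_card_of_injective f fun m m' e => Subtype.ext (by rw [hf m, hf m', e])
  have := card_zero_pair_le
  omega

end CfsgLib.MonsterType
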