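import Mathlib
import Cfsg.Agent.Lib.MonsterType.Monomial
import Cfsg.Agent.Lib.Golay.Mathieu

/-! Short representatives of classes modulo `2Λ`, the stabilizer of the class of `8 e_∞`, and its normal
2-subgroups. -/

set_option autoImplicit false

namespace CfsgLib.MonsterType

open Cfsg

/-- Congruent modulo twice the lattice. -/
def Cong (v w : leechLattice) : Prop := ∃ u : leechLattice, v = w + (u + u)

theorem Cong.refl' (v : leechLattice) : Cong v v := ⟨0, by simp⟩

theorem Cong.symm' {v w : leechLattice} (h : Cong v w) : Cong w v := by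
  obtain ⟨u, rfl⟩ := h
  exact ⟨-u, by abel⟩

theorem Cong.trans' {v w x : leechLattice} (h : Cong v w) (h' : Cong w x) : Cong v x := by
  obtain ⟨u, rfl⟩ := h
  obtain ⟨u', rfl⟩ := h'
  exact ⟨u + u', by abel⟩

theorem Cong.neg' (v : leechLattice) : Cong (-v) v := ⟨-v, by abel⟩

theorem Cong.smul' (γ : Co0) {v w : leechLattice} (h : Cong v w) : Cong (γ • v) (γ • w) := by
  obtain ⟨u, rfl⟩ := h
  exact ⟨γ • u, by rw [smul_add', smul_add']⟩

theorem half_eq (u : leechLattice) :
    sqNorm ((u + u : leechLattice) : GolayPt → ℤ) = 4 * sqNorm (u : GolayPt → ℤ) := by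
  simp only [sqNorm, AddSubgroup.coe_add, Pi.add_apply, Finset.mul_sum]
  exact Finset.sum_congr rfl fun i _ => by ring

theorem coe_ne_zero {u : leechLattice} (hu : u ≠ 0) : (u : GolayPt → ℤ) ≠ 0 :=
  fun h => hu (Subtype.ext h)

/-- A class contains at most one pair of vectors of squared length at most 48, and then of equal length. -/
theorem class32_unique {v w : leechLattice} (h : Cong v w) (hv : sqNorm (v : GolayPt → ℤ) = 32)
    (hw : sqNorm (w : GolayPt → ℤ) = 32) : v = w ∨ v = -w := by
  obtain ⟨u, rfl⟩ := h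
  by_contra hne
  push Not at hne
  have hu : u ≠ 0 := fun e => hne.1 (by simp [e])
  have hu' : w + u ≠ 0 := fun e => hne.2 (by rw [eq_neg_iff_add_eq_zero] ; calc w + (u + u) + w = (w + u) + (w + u) := by abel
                                                                      _ = 0 := by rw [e, add_zero])
  have h1 := min_norm u.2 (coe_ne_zero hu)
  have h2 := min_norm (w + u).2 (coe_ne_zero hu')
  have key : sqNorm ((w + (u + u) : leechLattice) : GolayPt → ℤ) + sqNorm (w : GolayPt → ℤ) =
      2 * sqNorm ((w + u : leechLattice) : GolayPt → ℤ) + 2 * sqNorm (u : GolayPt → ℤ) := by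
    simp only [sqNorm, AddSubgroup.coe_add, Pi.add_apply, Finset.mul_sum, ← Finset.sum_add_distrib]
    exact Finset.sum_congr rfl fun i _ => by ring
  omega

theorem latE_cong (i j : GolayPt) : Cong (LeechEight.latE i) (LeechEight.latE j) := by
  have hm : (fun p => (if p = i then (4 : ℤ) else 0) - (if p = j then 4 else 0)) ∈ leechLattice := by
    refine AddSubgroup.subset_closure (Spor.mem_leechSet_of_const_mod_four _ 0 0 (Int.ModEq.refl _) (fun p => ?_) ?_)
    · simp only [Int.ModEq]; split_ifs <;> norm_num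
    · simp [Finset.sum_sub_distrib, Int.ModEq]
  refine ⟨⟨_, hm⟩, ?_⟩
  apply Subtype.ext
  funext p
  show (if p = i then (8 : ℤ) else 0) = (if p = j then (8 : ℤ) else 0) + (((if p = i then (4 : ℤ) else 0) -
    (if p = j then 4 else 0)) + ((if p = i then (4 : ℤ) else 0) - (if p = j then 4 else 0)))
  split_ifs <;> norm_num

/-- The class of `8 e_j` has only the vectors `± 8 e_k` of squared length 64. -/
theorem class64_latE {y : leechLattice} {j : GolayPt} (h : Cong y (LeechEight.latE j))
    (hy : sqNorm (y : GolayPt → ℤ) = 64) :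
    ∃ k, y = LeechEight.latE k ∨ y = -LeechEight.latE k := by
  classical
  by_contra hne
  push Not at hne
  obtain ⟨u, hu⟩ := h
  set x : GolayPt → ℤ := (u : GolayPt → ℤ) with hx
  have hyx : ∀ p, (y : GolayPt → ℤ) p = (if p = j then 8 else 0) + 2 * x p := by
    intro p
    rw [hu]
    simp only [AddSubgroup.coe_add, Pi.add_apply, latE_apply, hx]
    ring
  have hu0 : u ≠ 0 := fun e => (hne j).1 (by rw [hu, e]; simp)
  have hu0' : LeechEight.latE j + u ≠ 0 := fun e => (hne j).2 (by
    rw [hu, eq_neg_iff_add_eq_zero]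
    calc LeechEight.latE j + (u + u) + LeechEight.latE j =
        (LeechEight.latE j + u) + (LeechEight.latE j + u) := by abel
      _ = 0 := by rw [e, add_zero])
  have h1 := min_norm u.2 (coe_ne_zero hu0)
  have h2 := min_norm (LeechEight.latE j + u).2 (coe_ne_zero hu0')
  have hlat : sqNorm (LeechEight.latE j : GolayPt → ℤ) = 64 := by
    simpa using sqNorm_image_latE 1 j
  have key : sqNorm (y : GolayPt → ℤ) + sqNorm (LeechEight.latE j : GolayPt → ℤ) =
      2 * sqNorm ((LeechEight.latE j + u : leechLattice) : GolayPt → ℤ) + 2 * sqNorm (u : GolayPt → ℤ) := by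
    rw [hu]
    simp only [sqNorm, AddSubgroup.coe_add, Pi.add_apply, Finset.mul_sum, ← Finset.sum_add_distrib]
    exact Finset.sum_congr rfl fun i _ => by ring
  have hu32 : ∑ p, x p ^ 2 = 32 := by show sqNorm x = 32; rw [hx]; omega
  have hyy : ∑ p, (4 * x p ^ 2 + if p = j then 32 * x p + 64 else 0) = 64 := by
    refine Eq.trans ?_ hy
    refine Finset.sum_congr rfl fun p _ => ?_
    rw [hyx p]
    split_ifs <;> ring
  rw [Finset.sum_add_distrib, ← Finset.mul_sum, hu32, Finset.sum_ite_eq'] at hyy
  simp only [Finset.mem_univ, if_true] at hyy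
  have hj : x j = -4 := by omega
  have hev : ∀ p, (2 : ℤ) ∣ x p := fun p => by have := par u.2 p j; rw [← hx] at this; omega
  have hc := two_set_mem u.2 hev
  rw [← hx] at hc
  have hrest : ∑ p ∈ Finset.univ.erase j, x p ^ 2 = 16 := by
    have := Finset.add_sum_erase Finset.univ (fun p => x p ^ 2) (Finset.mem_univ j)
    simp only [hu32, hj] at this
    linarith
  have hempty : ∀ p, x p % 4 ≠ 2 := by
    intro p hp
    have h8 := CfsgLib.Golay.eight_le_card_support hc ⟨p, by simpa using hp⟩
    have hsub : Finset.univ.filter (fun i => x i % 4 = 2) ⊆ Finset.univ.erase j := by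
      intro i hi
      simp only [Finset.mem_filter, Finset.mem_univ, true_and] at hi
      refine Finset.mem_erase.mpr ⟨?_, Finset.mem_univ _⟩
      rintro rfl
      omega
    have h4 : ∀ i ∈ Finset.univ.filter (fun i => x i % 4 = 2), (4 : ℤ) ≤ x i ^ 2 := by
      intro i hi
      have := (Finset.mem_filter.mp hi).2
      rcases (show 2 ≤ x i ∨ x i ≤ -2 by omega) with h | h <;> nlinarith
    have h5 := Finset.card_nsmul_le_sum _ _ _ h4
    rw [nsmul_eq_mul] at h5
    have h6 := Finset.sum_le_sum_of_subset_of_nonneg (f := fun i => x i ^ 2) hsub fun i _ _ => sq_nonneg _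
    have h8' : (8 : ℤ) ≤ ((Finset.univ.filter fun i => x i % 4 = 2).card : ℤ) := by exact_mod_cast h8
    linarith
  obtain ⟨k, hk, hxk⟩ : ∃ k ∈ Finset.univ.erase j, x k ≠ 0 := by
    by_contra h
    push Not at h
    rw [Finset.sum_eq_zero fun p hp => by simp [h p hp]] at hrest
    norm_num at hrest
  have hk16 : (16 : ℤ) ≤ x k ^ 2 := by
    have := hev k; have := hempty k
    rcases (show 4 ≤ x k ∨ x k ≤ -4 by omega) with h | h <;> nlinarith
  have hzero : ∀ p, p ≠ j → p ≠ k → x p = 0 := by
    intro p hpj hpk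
    have := Finset.add_le_sum (f := fun p => x p ^ 2) (fun p _ => sq_nonneg (x p))
      hk (Finset.mem_erase.mpr ⟨hpj, Finset.mem_univ p⟩) (Ne.symm hpk)
    have h0 : x p ^ 2 ≤ 0 := by rw [hrest] at this; linarith
    exact pow_eq_zero_iff two_ne_zero |>.mp (le_antisymm h0 (sq_nonneg _))
  have hy0 : ∀ p, p ≠ k → (y : GolayPt → ℤ) p = 0 := by
    intro p hp
    rw [hyx p]
    by_cases hpj : p = j
    · subst hpj; simp [hj]
    · simp [hpj, hzero p hpj hp]
  rcases eq_sgn_latE hy0 hy with h | h
  · exact (hne k).1 h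
  · exact (hne k).2 h

/-- The stabilizer of the class of `8 e_∞` consists of the monomial automorphisms. -/
theorem cong_latE_iff {γ : Co0} : Cong (γ • LeechEight.latE none) (LeechEight.latE none) ↔
    ∃ (c : golayCode) (σ : M24), γ = sgnW c * permW σ := by
  constructor
  · intro h
    exact monomial fun j => class64_latE (((latE_cong j none).smul' γ).trans' h) (sqNorm_image_latE γ j)
  · rintro ⟨c, σ, rfl⟩
    rw [mul_smul, permW_latE, sgnW_latE]
    split_ifs
    · exact latE_cong _ _
    · exact (Cong.neg' _).trans' (latE_cong _ _)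

theorem mono_unique {c d : golayCode} {σ τ : M24} (h : sgnW c * permW σ = sgnW d * permW τ) : σ = τ := by
  apply Subtype.ext
  apply Equiv.ext
  intro j
  apply latE_inj
  have hj := congrArg (fun δ : Co0 => δ • LeechEight.latE j) h
  simp only [mul_smul, permW_latE, sgnW_latE] at hj
  split_ifs at hj
  · exact Or.inl hj
  · exact Or.inr hj
  · exact Or.inr (by rw [← hj, neg_neg])
  · exact Or.inl (neg_injective hj)

theorem mono_mul (c d : golayCode) (σ τ : M24) :
    sgnW c * permW σ * (sgnW d * permW τ) = sgnW (c + ⟨_, act_code σ.2 d⟩) * permW (σ * τ) := by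
  have e1 := (map_mul sgnHom (Multiplicative.ofAdd c) (Multiplicative.ofAdd ⟨_, act_code σ.2 d⟩))
  have e2 := (map_mul permHom σ τ)
  simp only [sgnHom_apply, permHom_apply, toAdd_mul, toAdd_ofAdd] at e1 e2
  rw [e1, e2, ← perm_sgn]
  group

/-- A normal 2-subgroup of the monomial group consists of sign changes. -/
theorem twoGroup_mono_le (N : Subgroup Co0) (hp : IsPGroup 2 N)
    (hmono : ∀ n ∈ N, ∃ (c : golayCode) (σ : M24), n = sgnW c * permW σ)
    (hnorm : ∀ (σ : M24), ∀ n ∈ N, permW σ * n * (permW σ)⁻¹ ∈ N) : N ≤ sgnHom.range := by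
  choose cf σf hσf using fun n : N => hmono n n.2
  let π : N →* M24 := MonoidHom.mk' σf fun m n => by
    refine mono_unique (c := cf (m * n)) (d := cf m + ⟨_, act_code (σf m).2 (cf n)⟩) ?_
    rw [← mono_mul, ← hσf, ← hσf, ← hσf]
    rfl
  have hnor : π.range.Normal := by
    refine ⟨?_⟩
    rintro _ ⟨n, rfl⟩ τ
    refine ⟨⟨_, hnorm τ n n.2⟩, ?_⟩
    refine mono_unique (c := cf ⟨_, hnorm τ n n.2⟩) (d := (⟨_, act_code τ.2 (cf n)⟩ : golayCode)) ?_
    show sgnW _ * permW (σf ⟨_, hnorm τ n n.2⟩) = sgnW _ * permW (τ * σf n * τ⁻¹)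
    rw [← hσf ⟨_, hnorm τ n n.2⟩, ← perm_sgn]
    simp only [← permHom_apply, map_mul, map_inv]
    conv_lhs => rw [hσf n]
    simp only [permHom_apply]
    group
  have hp' : IsPGroup 2 π.range := hp.of_surjective π.rangeRestrict π.rangeRestrict_surjective
  haveI := CfsgLib.Golay.isSimpleGroup_M24
  have hbot : π.range = ⊥ := by
    refine hnor.eq_bot_or_eq_top.resolve_right fun htop => ?_
    rw [htop] at hp'
    obtain ⟨k, hk⟩ := (IsPGroup.iff_card (p := 2)).mp hp'
    rw [Subgroup.card_top, CfsgLib.Golay.natCard_M24] at hk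
    have : (3 : ℕ) ∣ 2 ^ k := hk ▸ by norm_num
    have := Nat.prime_three.dvd_of_dvd_pow this
    norm_num at this
  intro n hn
  have h1 : σf ⟨n, hn⟩ = 1 := by
    rw [← Subgroup.mem_bot, ← hbot]
    exact ⟨⟨n, hn⟩, rfl⟩
  refine ⟨Multiplicative.ofAdd (cf ⟨n, hn⟩), ?_⟩
  have := hσf ⟨n, hn⟩
  rw [h1, ← permHom_apply, map_one, mul_one] at this
  exact this.symm

theorem sgnHom_injective : Function.Injective sgnHom := by
  intro c d h
  apply Multiplicative.toAdd.injective
  apply Subtype.ext
  funext j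
  have hj := congrArg (fun δ : Co0 => ((δ • LeechEight.latE j : leechLattice) : GolayPt → ℤ) j) h
  simp only [sgnHom_apply, sgnW_apply, latE_apply, if_pos] at hj
  rcases zmod2_cases ((Multiplicative.toAdd c).1 j) with e | e <;>
    rcases zmod2_cases ((Multiplicative.toAdd d).1 j) with e' | e' <;> simp [e, e'] at hj ⊢

theorem card_sgn_range : Nat.card sgnHom.range = 2 ^ 12 := by
  rw [Nat.card_congr (MonoidHom.ofInjective sgnHom_injective).symm.toEquiv]
  exact CfsgLib.Golay.natCard_golayCode

theorem card_center_Co0 : Nat.card (Subgroup.center Co0) = 2 := by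
  rw [Nat.card_eq_two_iff]
  refine ⟨1, ⟨_, neg_mem_center⟩, ?_, ?_⟩
  · intro h
    have := congrArg (fun δ : Subgroup.center Co0 =>
      (((δ : Co0) • LeechEight.latE none : leechLattice) : GolayPt → ℤ) none) h
    simp [sgnW_apply, latE_apply] at this
  · ext γ
    simp only [Set.mem_insert_iff, Set.mem_singleton_iff, Set.mem_univ, iff_true]
    rcases center_cases γ.2 with h | h
    exacts [Or.inl (Subtype.ext h), Or.inr (Subtype.ext h)]

end CfsgLib.MonsterType
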