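import Cfsg.Agent.Lib.MonsterType.CentralConj
import Cfsg.Agent.Lib.LargeExtra.PairX

/-! Elements commuting with an element of odd prime order: coprime lifting, and the conjugates of `z` in
`Q` commuting with it. -/

set_option autoImplicit false

namespace CfsgLib.MonsterType.Local

open Cfsg CfsgLib.LargeExtra
open scoped Pointwise

theorem orderOf_eq_of_pow {H : Type*} [Group H] {p : ℕ} [Fact p.Prime] {x : H} (h : x ^ p = 1) (hx : x ≠ 1) :
    orderOf x = p :=
  orderOf_eq_prime h hx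

/-- An element of 2-power order lying in a cyclic group of odd prime order is trivial. -/
theorem eq_one_of_two_odd {H : Type*} [Group H] {P : Subgroup H} (hP : IsPGroup 2 P) {b x : H} {p : ℕ}
    [hp : Fact p.Prime] (hp2 : p ≠ 2) (hb : orderOf b = p) (hx : x ∈ P) (hxb : x ∈ Subgroup.zpowers b) : x = 1 := by
  obtain ⟨k, hk⟩ := hP ⟨x, hx⟩
  have h1 : orderOf x ∣ 2 ^ k := orderOf_dvd_of_pow_eq_one (congrArg Subtype.val hk)
  have h2 : orderOf x ∣ p := hb ▸ orderOf_dvd_of_mem_zpowers hxb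
  have h3 : orderOf x ∣ Nat.gcd (2 ^ k) p := Nat.dvd_gcd h1 h2
  rw [(Nat.Coprime.pow_left k ((Nat.coprime_primes Nat.prime_two hp.out).mpr (Ne.symm hp2)))] at h3
  exact orderOf_eq_one_iff.mp (Nat.dvd_one.mp h3)

/-- Two elements of order `p` generate conjugate subgroups when `p * p` does not divide the group order. -/
theorem exists_conj_zpowers {H : Type*} [Group H] [Finite H] {p : ℕ} [hp : Fact p.Prime] {a c : H}
    (ha : orderOf a = p) (hc : orderOf c = p) (hpp : ¬ p ^ 2 ∣ Nat.card H) :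
    ∃ h : H, h * c * h⁻¹ ∈ Subgroup.zpowers a := by
  have hf : (Nat.card H).factorization p = 1 := by
    refine le_antisymm ?_ ((Nat.Prime.pow_dvd_iff_le_factorization hp.out Nat.card_pos.ne').mp
      (by rw [pow_one, ← ha]; exact orderOf_dvd_natCard a))
    by_contra hlt
    push Not at hlt
    exact hpp ((Nat.Prime.pow_dvd_iff_le_factorization hp.out Nat.card_pos.ne').mpr hlt)
  obtain ⟨h, hh⟩ := MulAction.exists_smul_eq H
    (Sylow.ofCard (Subgroup.zpowers c) (by rw [Nat.card_zpowers, hc, hf, pow_one]))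
    (Sylow.ofCard (Subgroup.zpowers a) (by rw [Nat.card_zpowers, ha, hf, pow_one]))
  refine ⟨h, ?_⟩
  have := congrArg (fun S : Sylow p H => (S : Subgroup H)) hh
  simp only [Sylow.coe_subgroup_smul, Sylow.coe_ofCard] at this
  rw [← this]
  exact ⟨c, Subgroup.mem_zpowers c, rfl⟩

/-- An element centralising `b` modulo a 2-group is corrected by that group to commute with `b`. -/
theorem exists_mul_commute {G : Type*} [Group G] [Finite G] {l : ℕ} [hl : Fact l.Prime] (hl2 : l ≠ 2)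
    {P : Subgroup G} (hP : IsPGroup 2 P) {b : G} (hb : orderOf b = l) (hn : ∀ p ∈ P, b * p * b⁻¹ ∈ P) {x : G} (hx : x * b * x⁻¹ * b⁻¹ ∈ P) :
    ∃ p ∈ P, p * x * b = b * (p * x) := by
  haveI : Fact (Nat.Prime 2) := ⟨Nat.prime_two⟩
  have hnorm : Subgroup.zpowers b ≤ Subgroup.normalizer (P : Set G) := by
    rw [Subgroup.zpowers_le]
    let f : P → P := fun p => ⟨b * p * b⁻¹, hn p p.2⟩
    have hf : Function.Injective f := fun u v e =>
      Subtype.ext (mul_left_cancel (mul_right_cancel (congrArg Subtype.val e : b * (u : G) * b⁻¹ = b * v * b⁻¹)))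
    rw [Subgroup.mem_normalizer_iff]
    intro q
    refine ⟨hn q, fun hq => ?_⟩
    obtain ⟨p, hp⟩ := (Finite.injective_iff_surjective.mp hf) ⟨_, hq⟩
    have e : b * (p : G) * b⁻¹ = b * q * b⁻¹ := congrArg Subtype.val hp
    rw [← mul_left_cancel (mul_right_cancel e)]
    exact p.2
  set T := Subgroup.zpowers b ⊔ P with hT
  have hmem : ∀ {t : G}, t ∈ T → ∃ a ∈ Subgroup.zpowers b, ∃ p ∈ P, t = a * p := by
    intro t ht
    have h1 : t ∈ ((Subgroup.zpowers b : Set G) * (P : Set G)) := by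
      rw [← Subgroup.coe_mul_of_left_le_normalizer_right _ _ hnorm]; exact ht
    obtain ⟨a, ha, p, hp, e⟩ := h1
    exact ⟨a, ha, p, hp, e.symm⟩
  set c := x * b * x⁻¹ with hc
  have hcT : c ∈ T := by
    have := mul_mem (Subgroup.mem_sup_right (S := Subgroup.zpowers b) hx)
      (Subgroup.mem_sup_left (T := P) (Subgroup.mem_zpowers b))
    simpa [inv_mul_cancel_right] using this
  have hb1 : b ≠ 1 := fun e => hl.out.ne_one (by rw [← hb, e, orderOf_one])
  have hc7 : orderOf c = l := by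
    refine orderOf_eq_of_pow ?_ fun e => hb1 ?_
    · rw [hc, conj_pow, ← hb, pow_orderOf_eq_one, mul_one, mul_inv_cancel]
    · calc b = x⁻¹ * c * x := by rw [hc]; group
        _ = 1 := by rw [e]; group
  have h49 : ¬ l ^ 2 ∣ Nat.card T := by
    intro h
    obtain ⟨k, hk⟩ := IsPGroup.iff_card.mp hP
    have hle : Nat.card T ∣ l * 2 ^ k := by
      have h1 : Nat.card T * Nat.card ↥(P.subgroupOf (Subgroup.zpowers b)) = l * 2 ^ k := by
        have hbot : P.subgroupOf (Subgroup.zpowers b) = ⊥ := by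
          rw [eq_bot_iff]
          exact fun a ha => Subtype.ext (eq_one_of_two_odd hP hl2 hb ha a.2)
        have hcard : Nat.card T = Nat.card (Subgroup.zpowers b) * Nat.card P := by
          rw [← Nat.card_prod]
          refine (Nat.card_congr (Equiv.ofBijective
            (fun ap => ⟨(ap.1 : G) * ap.2, mul_mem (Subgroup.mem_sup_left ap.1.2)
              (Subgroup.mem_sup_right ap.2.2)⟩) ⟨?_, ?_⟩)).symm
          · rintro ⟨a, p⟩ ⟨a', p'⟩ e
            have e' : (a : G) * p = a' * p' := congrArg Subtype.val e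
            have h2 : (a' : G)⁻¹ * a = 1 := by
              refine eq_one_of_two_odd hP hl2 hb ?_ (mul_mem (inv_mem a'.2) a.2)
              have : (a' : G)⁻¹ * a = p' * (p : G)⁻¹ := by
                rw [inv_mul_eq_iff_eq_mul, ← mul_assoc, ← e', mul_inv_cancel_right]
              rw [this]
              exact mul_mem p'.2 (inv_mem p.2)
            obtain rfl : a = a' := Subtype.ext (inv_mul_eq_one.mp h2).symm
            exact Prod.ext rfl (Subtype.ext (mul_left_cancel e'))
          · rintro ⟨t, ht⟩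
            obtain ⟨a, ha, p, hp, rfl⟩ := hmem ht
            exact ⟨(⟨a, ha⟩, ⟨p, hp⟩), rfl⟩
        rw [hbot, Subgroup.card_bot, mul_one, hcard, Nat.card_zpowers, hb, hk]
      exact ⟨_, h1.symm⟩
    have h2 : l ∣ 2 ^ k := Nat.dvd_of_mul_dvd_mul_left hl.out.pos (by rw [← pow_two]; exact h.trans hle)
    exact hl2 ((Nat.prime_dvd_prime_iff_eq hl.out Nat.prime_two).mp (hl.out.dvd_of_dvd_pow h2))
  obtain ⟨⟨t, ht⟩, hconj⟩ := exists_conj_zpowers (H := T) (a := ⟨b, Subgroup.mem_sup_left (Subgroup.mem_zpowers b)⟩)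
    (c := ⟨c, hcT⟩) (by rw [← hb]; exact (Subgroup.orderOf_coe _).symm)
    (by rw [← hc7]; exact (Subgroup.orderOf_coe _).symm) h49
  obtain ⟨n, hn'⟩ := Subgroup.mem_zpowers_iff.mp hconj
  have hn'' : b ^ n = t * c * t⁻¹ := by
    simpa using congrArg Subtype.val hn'
  obtain ⟨a, ha, p, hp, rfl⟩ := hmem ht
  refine ⟨p, hp, ?_⟩
  have hin : p * c * p⁻¹ ∈ Subgroup.zpowers b := by
    have : p * c * p⁻¹ = a⁻¹ * (a * p * c * (a * p)⁻¹) * a := by group
    rw [this, ← hn'']
    exact mul_mem (mul_mem (inv_mem ha) (zpow_mem (Subgroup.mem_zpowers b) n)) ha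
  have hPin : p * c * p⁻¹ * b⁻¹ ∈ P := by
    have : p * c * p⁻¹ * b⁻¹ = p * (c * b⁻¹) * (b * p⁻¹ * b⁻¹) := by group
    rw [this]
    exact mul_mem (mul_mem hp hx) (hn _ (inv_mem hp))
  have := mul_inv_eq_one.mp (eq_one_of_two_odd hP hl2 hb hPin
    (mul_mem hin (inv_mem (Subgroup.mem_zpowers b))))
  refine mul_inv_eq_iff_eq_mul.mp ?_
  calc p * x * b * (p * x)⁻¹ = p * c * p⁻¹ := by rw [hc]; group
    _ = b := this

variable {G : Type*} [Group G] [Finite G] {z : G} {Q : Subgroup (cz z)}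

/-- A conjugate of `z` in `Q` commuting with `b` is conjugate to `z` by an element commuting with `b`. -/
theorem exists_conj_commute [Q.Normal] {w : ℕ} (hw : 2 ≤ w) (hS : IsExtraspecialCentralizerSetting z Q w)
    {l : ℕ} [Fact l.Prime] (hl2 : l ≠ 2) {b : G} (hb : orderOf b = l)
    (hbz : b * z = z * b) {r : G} (hrQ : r ∈ qm Q) (hbr : b * r = r * b) (hconj : IsConj z r)
    (hne : r ≠ z) : ∃ h : G, h * b = b * h ∧ h * z * h⁻¹ = r := by
  obtain ⟨g, rfl⟩ := isConj_iff.mp hconj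
  have h := setting_pairAt hS hrQ hne
  have hcard : 32 ≤ Nat.card (qm Q) := by
    rw [card_qm, hS.2.2.2.1]
    exact le_trans (by norm_num : 32 ≤ 2 ^ 5) (Nat.pow_le_pow_right (by norm_num) (by omega))
  obtain ⟨y, hy, hys⟩ := h.exists_swap
  obtain ⟨u, hu, hus⟩ := h.exists_swap' hcard
  have k1 : (y * u) * z * (y * u)⁻¹ = g * z * g⁻¹ := by
    calc (y * u) * z * (y * u)⁻¹ = y * (u * z * u⁻¹) * y⁻¹ := by group
      _ = (y * (g * z * g⁻¹) * y⁻¹) * (y * z * y⁻¹) := by rw [hus]; group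
      _ = g * z * g⁻¹ := by
          rw [hys, mul_inv_eq_iff_eq_mul.mpr (h.comm_z hy), mul_assoc, h.s_comm, ← mul_assoc, h.sq_one, one_mul]
  have hbC : b ∈ Subgroup.centralizer (fourV z g : Set G) := h.mem_centralizer_fourV.mpr ⟨hbz, hbr⟩
  have hX : y * u ∈ genX (qm Q) g := mul_mem (Subgroup.mem_sup_left hy) (Subgroup.mem_sup_right hu)
  have hn : ∀ p ∈ radR (qm Q) z g, b * p * b⁻¹ ∈ radR (qm Q) z g := by
    intro p hp
    obtain ⟨a, ha, c, hc, rfl⟩ := h.exists_mul_of_mem_radR hp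
    have := mul_mem (Subgroup.mem_sup_left (h.centralizer_conj_sideB hbC ha))
      (Subgroup.mem_sup_right (h.centralizer_conj_sideA hbC hc))
    simpa [radR, mul_assoc] using this
  obtain ⟨p, hp, hpx⟩ := exists_mul_commute hl2 h.radR_isPGroup hb hn
    ((h.comm_centralizer_mem hX hcard).1 b hbC)
  refine ⟨p * (y * u), hpx, ?_⟩
  obtain ⟨-, hps⟩ := h.mem_centralizer_fourV.mp (h.radR_le_centralizer hp)
  calc p * (y * u) * z * (p * (y * u))⁻¹ = p * ((y * u) * z * (y * u)⁻¹) * p⁻¹ := by group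
    _ = g * z * g⁻¹ := by rw [k1, mul_inv_eq_iff_eq_mul.mpr hps]

/-- An element of odd order fixing `x` up to a central involution fixes it. -/
theorem commute_of_sign {H : Type*} [Group H] {b x z : H} {p : ℕ} (hb : orderOf b = p) (hp : Odd p)
    (hz : z * z = 1) (hbz : b * z = z * b) (h : b * x * b⁻¹ = x ∨ b * x * b⁻¹ = z * x) : b * x = x * b := by
  rcases h with h1 | h1
  · exact mul_inv_eq_iff_eq_mul.mp h1
  have h2 : Commute (b ^ 2) x := by
    refine mul_inv_eq_iff_eq_mul.mp ?_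
    calc b ^ 2 * x * (b ^ 2)⁻¹ = b * (b * x * b⁻¹) * b⁻¹ := by rw [pow_two]; group
      _ = (b * z) * x * b⁻¹ := by rw [h1]; group
      _ = z * (b * x * b⁻¹) := by rw [hbz]; group
      _ = x := by rw [h1, ← mul_assoc, hz, one_mul]
  obtain ⟨m, rfl⟩ := hp
  have := h2.pow_left (m + 1)
  rwa [← pow_mul, show 2 * (m + 1) = (2 * m + 1) + 1 by ring, pow_succ, ← hb, pow_orderOf_eq_one,
    one_mul] at this

end CfsgLib.MonsterType.Local
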