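import Mathlib
import Cfsg.Prelude.Def_MonsterType
import Cfsg.Agent.Lib.LargeExtra.Decomp
import Cfsg.Agent.Lib.LargeExtra.PairX
import Cfsg.Agent.Lib.LargeExtra.Transport

/-! A conjugate `s` of `z` inside `Q`: the image `imgE` of `Q^g` in `C(z)/Q` and the image `imgX` of
the centralizer of `s`. -/

set_option autoImplicit false

namespace CfsgLib.MonsterType

open Cfsg CfsgLib.LargeExtra

variable {G : Type*} [Group G] {z : G}

/-- The centralizer of `z`. -/
abbrev cz (z : G) : Subgroup G := Subgroup.centralizer ({z} : Set G)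

/-- `Q` seen inside `G`. -/
abbrev qm (Q : Subgroup (cz z)) : Subgroup G := Q.map (cz z).subtype

/-- The image of `C(z) ∩ C(s)` in `C(z)/Q`. -/
def imgX (Q : Subgroup (cz z)) [Q.Normal] (s : G) : Subgroup (cz z ⧸ Q) :=
  ((cz z ⊓ Subgroup.centralizer ({s} : Set G)).subgroupOf (cz z)).map (QuotientGroup.mk' Q)

/-- The image of `Q^g ∩ C(z)` in `C(z)/Q`. -/
def imgE (Q : Subgroup (cz z)) [Q.Normal] (g : G) : Subgroup (cz z ⧸ Q) :=
  (((qm Q).map (MulAut.conj g).toMonoidHom ⊓ cz z).subgroupOf (cz z)).map (QuotientGroup.mk' Q)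

variable [Finite G]

/-- Half of the elements of `Q` commute with a given non-central element. -/
theorem ExtraAt.two_mul_card_centralizer {P : Subgroup G} (h : ExtraAt P z) {t : G} (ht : t ∈ P)
    (ht1 : t ≠ 1) (htz : t ≠ z) :
    2 * Nat.card ↥(P ⊓ Subgroup.centralizer ({t} : Set G)) = Nat.card ↥P := by
  obtain ⟨y, hy, hyt⟩ := h.exists_conj_eq ht ht1 htz
  have hidx : ((Subgroup.centralizer ({t} : Set G)).subgroupOf P).index = 2 := by
    rw [Subgroup.index_eq_two_iff]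
    refine ⟨⟨y, hy⟩, fun b => ?_⟩
    have hmem : ∀ q : G, q ∈ Subgroup.centralizer ({t} : Set G) ↔ q * t * q⁻¹ = t := fun q => by
      rw [Subgroup.mem_centralizer_singleton_iff, mul_inv_eq_iff_eq_mul]
    have hne : z * t ≠ t := fun e => h.ne_one (mul_eq_right.mp e)
    simp only [Subgroup.mem_subgroupOf, hmem, Subgroup.coe_mul]
    have hby : (b : G) * y * t * ((b : G) * y)⁻¹ = z * ((b : G) * t * (b : G)⁻¹) := by
      have hbz := h.comm_z b.2
      calc (b : G) * y * t * ((b : G) * y)⁻¹ = (b : G) * (y * t * y⁻¹) * (b : G)⁻¹ := by group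
        _ = ((b : G) * z) * t * (b : G)⁻¹ := by rw [hyt]; group
        _ = z * ((b : G) * t * (b : G)⁻¹) := by rw [hbz]; group
    rw [hby]
    rcases h.conj_cases b.2 ht with e | e <;> rw [e]
    · exact Or.inr ⟨rfl, hne⟩
    · exact Or.inl ⟨by rw [← mul_assoc, h.sq_one, one_mul], hne⟩
  have hc := Subgroup.card_mul_index ((Subgroup.centralizer ({t} : Set G)).subgroupOf P)
  rw [hidx] at hc
  rw [← hc, mul_comm]
  congr 1
  refine Nat.card_congr ⟨fun q => ⟨⟨q, q.2.1⟩, q.2.2⟩, fun q => ⟨q.1, q.1.2, q.2⟩, fun q => rfl, fun q => rfl⟩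

variable {Q : Subgroup (cz z)}

theorem qm_le : qm Q ≤ cz z := Subgroup.map_subtype_le Q

theorem mem_qm {x : G} : x ∈ qm Q ↔ ∃ hx : x ∈ cz z, (⟨x, hx⟩ : cz z) ∈ Q := by
  constructor
  · rintro ⟨q, hq, rfl⟩; exact ⟨q.2, hq⟩
  · rintro ⟨hx, hq⟩; exact ⟨_, hq, rfl⟩

theorem coe_mem_qm {c : cz z} : (c : G) ∈ qm Q ↔ c ∈ Q :=
  Subgroup.mem_map_iff_mem (cz z).subtype_injective

theorem card_qm : Nat.card ↥(qm Q) = Nat.card ↥Q :=
  Subgroup.card_map_of_injective (cz z).subtype_injective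

variable {w : ℕ}

theorem setting_extraAt (hS : IsExtraspecialCentralizerSetting z Q w) :
    ExtraAt (qm Q) z ∧ Subgroup.centralizer (qm Q : Set G) = (Subgroup.center ↥(qm Q)).map (qm Q).subtype ∧
      cz z ≤ Subgroup.normalizer (qm Q : Set G) := by
  obtain ⟨hz, hF, hQ, -, -⟩ := hS
  haveI : Fact (Nat.Prime 2) := ⟨Nat.prime_two⟩
  refine extraAt_of_fstar hz qm_le (by rw [hF]) ?_
  exact CfsgLib.LargeExtra.isExtraspecial_of_equiv (Q.equivMapOfInjective _ (cz z).subtype_injective) hQ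

theorem setting_pairAt (hS : IsExtraspecialCentralizerSetting z Q w) {g : G}
    (hg : g * z * g⁻¹ ∈ qm Q) (hne : g * z * g⁻¹ ≠ z) : PairAt (qm Q) z g := by
  obtain ⟨h1, h2, h3⟩ := setting_extraAt hS
  exact ⟨h1, h2, h3, hg, hne⟩

/-- Membership of a coset in `imgX`. -/
theorem mk_mem_imgX [Q.Normal] (hS : IsExtraspecialCentralizerSetting z Q w) {s : G} (hs : s ∈ qm Q)
    (hs1 : s ≠ 1) (hsz : s ≠ z) (c : cz z) :
    (QuotientGroup.mk c : cz z ⧸ Q) ∈ imgX Q s ↔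
      (c : G) * s * (c : G)⁻¹ = s ∨ (c : G) * s * (c : G)⁻¹ = z * s := by
  obtain ⟨h, -, -⟩ := setting_extraAt hS
  have hcz : (c : G) * z = z * c := Subgroup.mem_centralizer_singleton_iff.mp c.2
  constructor
  · rintro ⟨d, hd, hde⟩
    obtain ⟨q, hq, rfl⟩ : ∃ q ∈ Q, c = d * q :=
      ⟨d⁻¹ * c, QuotientGroup.eq.mp hde, (mul_inv_cancel_left d c).symm⟩
    have hds : (d : G) * s * (d : G)⁻¹ = s :=
      mul_inv_eq_iff_eq_mul.mpr (Subgroup.mem_centralizer_singleton_iff.mp hd.2)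
    have hdz : (d : G) * z = z * d := Subgroup.mem_centralizer_singleton_iff.mp d.2
    rcases h.conj_cases (coe_mem_qm.mpr hq) hs with e | e
    · left
      calc ((d * q : cz z) : G) * s * ((d * q : cz z) : G)⁻¹ = (d : G) * ((q : G) * s * (q : G)⁻¹) * (d : G)⁻¹ := by
            rw [Subgroup.coe_mul]; group
        _ = s := by rw [e, hds]
    · right
      calc ((d * q : cz z) : G) * s * ((d * q : cz z) : G)⁻¹ = (d : G) * ((q : G) * s * (q : G)⁻¹) * (d : G)⁻¹ := by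
            rw [Subgroup.coe_mul]; group
        _ = ((d : G) * z) * s * (d : G)⁻¹ := by rw [e]; group
        _ = z * ((d : G) * s * (d : G)⁻¹) := by rw [hdz]; group
        _ = z * s := by rw [hds]
  · intro hc
    rcases hc with e | e
    · exact ⟨c, ⟨c.2, Subgroup.mem_centralizer_singleton_iff.mpr (mul_inv_eq_iff_eq_mul.mp e)⟩, rfl⟩
    · obtain ⟨y, hy, hys⟩ := h.exists_conj_eq hs hs1 hsz
      obtain ⟨hyc, hyQ⟩ := mem_qm.mp hy
      refine ⟨c * (⟨y, hyc⟩ : cz z), ⟨(c * (⟨y, hyc⟩ : cz z)).2, Subgroup.mem_centralizer_singleton_iff.mpr ?_⟩, ?_⟩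
      · refine mul_inv_eq_iff_eq_mul.mp ?_
        show ((c : G) * y) * s * ((c : G) * y)⁻¹ = s
        calc ((c : G) * y) * s * ((c : G) * y)⁻¹ = (c : G) * (y * s * y⁻¹) * (c : G)⁻¹ := by group
          _ = ((c : G) * z) * s * (c : G)⁻¹ := by rw [hys]; group
          _ = z * ((c : G) * s * (c : G)⁻¹) := by rw [hcz]; group
          _ = s := by rw [e, ← mul_assoc, h.sq_one, one_mul]
      · exact QuotientGroup.mk_mul_of_mem c hyQ

variable [Q.Normal] {g : G}

theorem imgE_le_imgX (h : PairAt (qm Q) z g) : imgE Q g ≤ imgX Q (g * z * g⁻¹) := by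
  rintro _ ⟨c, hc, rfl⟩
  exact ⟨c, ⟨c.2, Subgroup.mem_centralizer_singleton_iff.mpr (h.W_comm_s hc.1)⟩, rfl⟩

theorem imgE_normal (h : PairAt (qm Q) z g) :
    ∀ x ∈ imgX Q (g * z * g⁻¹), ∀ y ∈ imgE Q g, x * y * x⁻¹ ∈ imgE Q g := by
  rintro _ ⟨c, hc, rfl⟩ _ ⟨d, hd, rfl⟩
  refine ⟨c * d * c⁻¹, ⟨?_, (c * d * c⁻¹).2⟩, by simp⟩
  exact h.W_normal (Subgroup.mem_centralizer_singleton_iff.mp hc.2) hd.1

theorem imgE_elementaryAbelian (h : PairAt (qm Q) z g) : IsElementaryAbelian 2 (imgE Q g) := by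
  obtain ⟨hsc, hsQ⟩ := mem_qm.mp h.conj_mem
  have hs : (QuotientGroup.mk (⟨_, hsc⟩ : cz z) : cz z ⧸ Q) = 1 := (QuotientGroup.eq_one_iff _).mpr hsQ
  constructor
  · refine ⟨⟨fun a b => Subtype.ext ?_⟩⟩
    obtain ⟨c, hc, hca⟩ := a.2
    obtain ⟨d, hd, hdb⟩ := b.2
    show (a : cz z ⧸ Q) * b = b * a
    rw [← hca, ← hdb]
    rcases h.W_conj_cases hc.1 hd.1 with e | e
    · rw [← map_mul, ← map_mul]
      exact congrArg _ (Subtype.ext (mul_inv_eq_iff_eq_mul.mp e))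
    · have e' : c * d = ⟨_, hsc⟩ * (d * c) := Subtype.ext (by
        show (c : G) * d = g * z * g⁻¹ * (d * c)
        rw [← mul_assoc]; exact mul_inv_eq_iff_eq_mul.mp e)
      rw [← map_mul, ← map_mul, e', map_mul]
      simp only [QuotientGroup.mk'_apply, hs, one_mul]
  · rintro _ ⟨c, hc, rfl⟩
    rw [← map_pow]
    rcases h.W_sq_cases hc.1 with e | e
    · rw [show c ^ 2 = 1 from Subtype.ext (by rw [pow_two]; exact e), map_one]
    · rw [show c ^ 2 = ⟨_, hsc⟩ from Subtype.ext (by rw [pow_two]; exact e), QuotientGroup.mk'_apply, hs]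

theorem card_inf_le (h : PairAt (qm Q) z g) (hQ : Nat.card Q = 2 ^ (2 * w + 1)) :
    Nat.card ↥(qm Q ⊓ (qm Q).map (MulAut.conj g).toMonoidHom) ≤ 2 ^ (w + 1) := by
  set D := qm Q ⊓ (qm Q).map (MulAut.conj g).toMonoidHom with hD
  have hcomm : IsMulCommutative (D.subgroupOf (qm Q)) := by
    refine ⟨⟨fun a b => Subtype.ext (Subtype.ext ?_)⟩⟩
    have ha : ((a : qm Q) : G) ∈ D := a.2
    have hb : ((b : qm Q) : G) ∈ D := b.2
    rcases h.conj_cases ha.1 hb.1 with e | e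
    · exact mul_inv_eq_iff_eq_mul.mp e
    · rcases h.W_conj_cases ha.2 hb.2 with e' | e'
      · exact mul_inv_eq_iff_eq_mul.mp e'
      · exact absurd (mul_right_cancel (e.symm.trans e')) (fun e'' => h.conj_ne e''.symm)
  haveI : Fact (Nat.Prime 2) := ⟨Nat.prime_two⟩
  have hb := CfsgLib.PGroup.extraspecial_abelian_card h.extra _ hcomm
  rw [Nat.card_congr (Subgroup.subgroupOfEquivOfLe (inf_le_left : D ≤ qm Q)).toEquiv, card_qm, hQ,
    ← pow_succ'] at hb
  rw [← Nat.pow_le_pow_iff_left two_ne_zero]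
  calc Nat.card ↥D ^ 2 ≤ 2 ^ (2 * w + 1 + 1) := by rw [pow_two]; exact hb
    _ = (2 ^ (w + 1)) ^ 2 := by rw [← pow_mul]; congr 1; ring

theorem card_imgE_mul (h : PairAt (qm Q) z g) (hw : 2 ≤ w) (hQ : Nat.card Q = 2 ^ (2 * w + 1)) :
    Nat.card ↥(imgE Q g) * Nat.card ↥(qm Q ⊓ (qm Q).map (MulAut.conj g).toMonoidHom) = 2 ^ (2 * w) := by
  have h32 : 32 ≤ Nat.card ↥(qm Q) := by
    rw [card_qm, hQ]
    calc 32 = 2 ^ 5 := by norm_num
      _ ≤ _ := Nat.pow_le_pow_right (by norm_num) (by omega)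
  set W := (qm Q).map (MulAut.conj g).toMonoidHom with hW
  -- half of `Q^g` centralizes `z`
  have ht : g⁻¹ * z * g ∈ qm Q := h.mem_W.mp (h.z_mem_W h32)
  have hhalf : 2 * Nat.card ↥(W ⊓ cz z) = 2 ^ (2 * w + 1) := by
    have e : W ⊓ cz z = (qm Q ⊓ Subgroup.centralizer ({g⁻¹ * z * g} : Set G)).map (MulAut.conj g).toMonoidHom := by
      ext x
      rw [Subgroup.mem_inf, h.mem_W]
      constructor
      · rintro ⟨hx, hxz⟩
        refine ⟨g⁻¹ * x * g, ⟨hx, Subgroup.mem_centralizer_singleton_iff.mpr ?_⟩, by simp [mul_assoc]⟩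
        have := Subgroup.mem_centralizer_singleton_iff.mp hxz
        calc g⁻¹ * x * g * (g⁻¹ * z * g) = g⁻¹ * (x * z) * g := by group
          _ = g⁻¹ * (z * x) * g := by rw [this]
          _ = g⁻¹ * z * g * (g⁻¹ * x * g) := by group
      · rintro ⟨q, hq, rfl⟩
        refine ⟨by simpa [mul_assoc] using hq.1, Subgroup.mem_centralizer_singleton_iff.mpr ?_⟩
        have := Subgroup.mem_centralizer_singleton_iff.mp hq.2
        show g * q * g⁻¹ * z = z * (g * q * g⁻¹)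
        calc g * q * g⁻¹ * z = g * (q * (g⁻¹ * z * g)) * g⁻¹ := by group
          _ = g * (g⁻¹ * z * g * q) * g⁻¹ := by rw [this]
          _ = z * (g * q * g⁻¹) := by group
    rw [e, Subgroup.card_map_of_injective (MulAut.conj g).injective, ← hQ, ← card_qm]
    refine ExtraAt.two_mul_card_centralizer h.toExtraAt ht ?_ ?_
    · intro e
      exact h.ne_one (by calc z = g * (g⁻¹ * z * g) * g⁻¹ := by group
                            _ = 1 := by rw [e]; group)
    · intro e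
      refine h.conj_ne ?_
      calc g * z * g⁻¹ = g * (g⁻¹ * z * g) * g⁻¹ := by rw [e]
        _ = z := by group
  -- the homomorphism to `C(z)/Q`
  let f := (QuotientGroup.mk' Q).comp ((W ⊓ cz z).subgroupOf (cz z)).subtype
  have hr : f.range = imgE Q g := by
    rw [MonoidHom.range_comp, Subgroup.range_subtype]; rfl
  have hk : Nat.card f.ker = Nat.card ↥(qm Q ⊓ W) := by
    refine Nat.card_congr ⟨fun x => ⟨((x.1.1 : cz z) : G), ?_, x.1.2.1⟩,
      fun x => ⟨⟨⟨x, qm_le x.2.1⟩, x.2.2, qm_le x.2.1⟩, ?_⟩, fun x => rfl, fun x => rfl⟩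
    · exact coe_mem_qm.mpr ((QuotientGroup.eq_one_iff _).mp x.2)
    · exact (QuotientGroup.eq_one_iff _).mpr (coe_mem_qm.mp x.2.1)
  have hc := Subgroup.card_mul_index f.ker
  rw [Subgroup.index_ker, hr, hk,
    Nat.card_congr (Subgroup.subgroupOfEquivOfLe (inf_le_right : W ⊓ cz z ≤ cz z)).toEquiv] at hc
  rw [mul_comm, hc]
  rw [pow_succ'] at hhalf
  omega

theorem le_card_imgE (h : PairAt (qm Q) z g) (hw : 2 ≤ w) (hQ : Nat.card Q = 2 ^ (2 * w + 1)) :
    2 ^ (w - 1) ≤ Nat.card ↥(imgE Q g) := by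
  have h1 := card_imgE_mul h hw hQ
  have h2 := card_inf_le h hQ
  by_contra hlt
  push Not at hlt
  have h3 := Nat.mul_lt_mul_of_lt_of_le hlt h2 (by positivity)
  rw [h1, ← pow_add, show w - 1 + (w + 1) = 2 * w by omega] at h3
  exact lt_irrefl _ h3

end CfsgLib.MonsterType
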