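import Mathlib
import Cfsg.Agent.Lib.MonsterType.CentralConj
import Cfsg.Agent.Lib.MonsterType.Frame

/-! Reading the stabilizer of a conjugate of `z` in the automorphism group of the lattice. -/

set_option autoImplicit false

namespace CfsgLib.MonsterType

open Cfsg CfsgLib.LargeExtra

variable {G : Type*} [Group G] [Finite G] {z : G} {Q : Subgroup (cz z)} [Q.Normal] {w : ℕ}
  {e : cz z ⧸ Q ≃* Spor.Co1} {ψ : leechLattice → Q ⧸ Subgroup.center Q}

/-- An element of `Q` seen in `G`. -/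
abbrev gval (x : Q) : G := ((x : cz z) : G)

omit [Q.Normal] in
theorem gval_mem (x : Q) : gval x ∈ qm Q := coe_mem_qm.mpr x.2

theorem mk_center_iff (hS : IsExtraspecialCentralizerSetting z Q w) (a b : Q) :
    (QuotientGroup.mk a : Q ⧸ Subgroup.center Q) = QuotientGroup.mk b ↔
      gval a = gval b ∨ gval a = z * gval b := by
  obtain ⟨h, -, -⟩ := setting_extraAt hS
  have hab : a⁻¹ * b ∈ Subgroup.center Q ↔ gval (a⁻¹ * b) = 1 ∨ gval (a⁻¹ * b) = z := by
    constructor
    · intro hc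
      refine h.central_cases (gval_mem _) fun q hq => ?_
      obtain ⟨hqc, hqQ⟩ := mem_qm.mp hq
      exact congrArg (fun t : Q => gval t) (Subgroup.mem_center_iff.mp hc ⟨⟨q, hqc⟩, hqQ⟩)
    · intro hc
      rw [Subgroup.mem_center_iff]
      intro q
      refine Subtype.ext (Subtype.ext ?_)
      show gval q * gval (a⁻¹ * b) = gval (a⁻¹ * b) * gval q
      rcases hc with e | e <;> rw [e]
      · simp
      · exact h.comm_z (gval_mem q)
  rw [QuotientGroup.eq, hab]
  have hg : gval (a⁻¹ * b) = (gval a)⁻¹ * gval b := rfl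
  rw [hg, inv_mul_eq_one, inv_mul_eq_iff_eq_mul]
  have haz : gval a * z = z * gval a := h.comm_z (gval_mem a)
  constructor
  · rintro (e | e)
    · exact Or.inl e
    · refine Or.inr ?_
      rw [e, haz, ← mul_assoc, h.sq_one, one_mul]
  · rintro (e | e)
    · exact Or.inl e
    · refine Or.inr ?_
      rw [haz, e, ← mul_assoc, h.sq_one, one_mul]

theorem psi_cong (hψ : IsLeechModTwoIso Q e ψ) {v v' : leechLattice} : Cong v v' ↔ ψ v = ψ v' := by
  obtain ⟨hadd, -, hker, -⟩ := hψ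
  constructor
  · rintro ⟨u, rfl⟩
    rw [hadd, (hker _).mpr ⟨u, rfl⟩, mul_one]
  · intro h
    have h' : ψ (v - v') = 1 := by
      have := hadd (v - v') v'
      rw [sub_add_cancel, h] at this
      exact mul_eq_right.mp this.symm
    obtain ⟨u, hu⟩ := (hker _).mp h'
    exact ⟨u, by rw [← hu]; abel⟩

theorem exists_lift_Co0 (e : cz z ⧸ Q ≃* Spor.Co1) (γ : Co0) :
    ∃ c : cz z, e (QuotientGroup.mk c) = QuotientGroup.mk γ := by
  obtain ⟨q, hq⟩ := e.surjective (QuotientGroup.mk γ)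
  obtain ⟨c, rfl⟩ := QuotientGroup.mk_surjective q
  exact ⟨c, hq⟩

/-- Conjugation of an element of `Q` by an element of the centralizer. -/
def conjQ (c : cz z) (x : Q) : Q :=
  ⟨c * x * c⁻¹, (inferInstance : Q.Normal).conj_mem _ x.2 c⟩

theorem psi_smul (hψ : IsLeechModTwoIso Q e ψ) {c : cz z} {γ : Co0}
    (h : e (QuotientGroup.mk c) = QuotientGroup.mk γ) {v : leechLattice} {x : Q}
    (hx : ψ v = QuotientGroup.mk x) : ψ (γ • v) = QuotientGroup.mk (conjQ c x) :=
  hψ.2.2.2 c γ h.symm v x hx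

theorem mem_map_imgX_iff (hS : IsExtraspecialCentralizerSetting z Q w) (hψ : IsLeechModTwoIso Q e ψ)
    {v : leechLattice} {x : Q} (hx : ψ v = QuotientGroup.mk x) (hx1 : gval x ≠ 1) (hxz : gval x ≠ z)
    (γ : Co0) : (QuotientGroup.mk γ : Spor.Co1) ∈ (imgX Q (gval x)).map e.toMonoidHom ↔ Cong (γ • v) v := by
  obtain ⟨c, hc⟩ := exists_lift_Co0 e γ
  rw [← hc, psi_cong hψ, psi_smul hψ hc hx, hx, mk_center_iff hS]
  show _ ↔ (c : G) * gval x * (c : G)⁻¹ = gval x ∨ (c : G) * gval x * (c : G)⁻¹ = z * gval x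
  rw [← mk_mem_imgX hS (gval_mem x) hx1 hxz c]
  exact Subgroup.mem_map_iff_mem e.injective

/-- The preimage of `imgE` in the automorphism group of the lattice. -/
def preE (e : cz z ⧸ Q ≃* Spor.Co1) (g : G) : Subgroup Co0 :=
  ((imgE Q g).map e.toMonoidHom).comap (QuotientGroup.mk' (Subgroup.center Co0))

omit [Finite G] in
theorem isPGroup_imgE {g : G} (h : IsElementaryAbelian 2 (imgE Q g)) : IsPGroup 2 (imgE Q g) :=
  fun a => ⟨1, Subtype.ext (by rw [pow_one]; exact h.2 _ a.2)⟩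

/-- The class of `(4, 4, 0²²)` contains no conjugate of `z`. -/
theorem not_conj_of_leechU (hS : IsExtraspecialCentralizerSetting z Q w) (hw : 12 ≤ w)
    (hψ : IsLeechModTwoIso Q e ψ) {x : Q} (hx : ψ Spor.leechU = QuotientGroup.mk x) {g : G}
    (hg : g * z * g⁻¹ = gval x) (hne : gval x ≠ z) : False := by
  classical
  have h := setting_pairAt hS (hg ▸ gval_mem x) (hg ▸ hne)
  have hx1 : gval x ≠ 1 := hg ▸ h.s_ne_one
  have hU32 : sqNorm (Spor.leechU : GolayPt → ℤ) = 32 := by decide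
  have hcard : 2 ^ (w - 1) ≤ Nat.card (imgE Q g) := le_card_imgE h (by omega) hS.2.2.2.1
  have hEX := imgE_le_imgX h
  have hEn := imgE_normal h
  have hEab := imgE_elementaryAbelian h
  rw [hg] at hEX hEn
  set N : Subgroup Co0 := preE e g ⊓ MulAction.stabilizer Co0 Spor.leechU with hN
  -- the map to `imgE`
  let f : N →* Spor.Co1 := (QuotientGroup.mk' _).comp N.subtype
  have hfinj : Function.Injective f := by
    rw [injective_iff_map_eq_one]
    intro n hn
    rcases center_cases ((QuotientGroup.eq_one_iff _).mp hn) with e1 | e1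
    · exact Subtype.ext e1
    · exfalso
      have h2 : (n : Co0) • Spor.leechU = Spor.leechU := n.2.2
      have e2 : (n : Co0) = sgnW ⟨1, one_mem_golay⟩ := e1
      rw [e2] at h2
      have := congrArg (fun v : leechLattice => (v : GolayPt → ℤ) none) h2
      simp [sgnW_apply, leechU_apply] at this
  have hneg : ∀ v : leechLattice, sgnW ⟨1, one_mem_golay⟩ • v = -v := fun v => by
    apply Subtype.ext; funext i; rw [sgnW_apply]; simp
  have hrange : (imgE Q g).map e.toMonoidHom = f.range := by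
    refine le_antisymm ?_ ?_
    · intro a ha
      obtain ⟨γ, rfl⟩ := QuotientGroup.mk_surjective a
      have hX : Cong (γ • Spor.leechU) Spor.leechU :=
        (mem_map_imgX_iff hS hψ hx hx1 hne γ).mp (Subgroup.map_mono hEX ha)
      have hn : sqNorm ((γ • Spor.leechU : leechLattice) : GolayPt → ℤ) = 32 := by
        rw [← hU32]; exact γ.2.2 _
      rcases class32_unique hX hn hU32 with e1 | e1
      · exact ⟨⟨γ, ha, e1⟩, rfl⟩
      · have hmk : (QuotientGroup.mk (sgnW ⟨1, one_mem_golay⟩ * γ) : Spor.Co1) = QuotientGroup.mk γ := by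
          rw [QuotientGroup.mk_mul, (QuotientGroup.eq_one_iff _).mpr neg_mem_center, one_mul]
        refine ⟨⟨sgnW ⟨1, one_mem_golay⟩ * γ, ?_, ?_⟩, hmk⟩
        · show (QuotientGroup.mk (sgnW ⟨1, one_mem_golay⟩ * γ) : Spor.Co1) ∈ (imgE Q g).map e.toMonoidHom
          rw [hmk]; exact ha
        · show (sgnW ⟨1, one_mem_golay⟩ * γ) • Spor.leechU = Spor.leechU
          rw [mul_smul, e1, hneg, neg_neg]
    · rintro _ ⟨n, rfl⟩; exact n.2.1
  let φ : N ≃* imgE Q g := ((MonoidHom.ofInjective hfinj).trans (MulEquiv.subgroupCongr hrange.symm)).trans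
    ((imgE Q g).equivMapOfInjective e.toMonoidHom e.injective).symm
  have hfin : Finite N := Finite.of_equiv _ φ.symm.toEquiv
  have hp : IsPGroup 2 N := (isPGroup_imgE hEab).of_equiv φ.symm
  have hcomm : ∀ m ∈ N, ∀ n ∈ N, m * n = n * m := by
    intro m hm n hn
    exact congrArg Subtype.val (φ.injective (by
      rw [map_mul, map_mul]
      exact hEab.1.is_comm.comm _ _) : (⟨m, hm⟩ : N) * ⟨n, hn⟩ = ⟨n, hn⟩ * ⟨m, hm⟩)
  have hnorm : ∀ γ : Co0, γ • Spor.leechU = Spor.leechU → ∀ n ∈ N, γ * n * γ⁻¹ ∈ N := by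
    rintro γ hγ n ⟨hn1, hn2⟩
    refine ⟨?_, ?_⟩
    · obtain ⟨a, ha, hae⟩ := hn1
      obtain ⟨c, hc, hce⟩ := (mem_map_imgX_iff hS hψ hx hx1 hne γ).mpr (by rw [hγ]; exact Cong.refl' _)
      refine ⟨c * a * c⁻¹, hEn c hc a ha, ?_⟩
      simp only [MulEquiv.coe_toMonoidHom] at hce hae ⊢
      rw [map_mul, map_mul, map_inv, hce, hae, map_mul, map_mul, map_inv]
      rfl
    · have hn2' : n • Spor.leechU = Spor.leechU := hn2
      show (γ * n * γ⁻¹) • Spor.leechU = Spor.leechU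
      rw [mul_smul, mul_smul, inv_smul_eq_iff.mpr hγ.symm, hn2', hγ]
  have hb := twoGroup_stab_bound N hfin hp hcomm (fun n hn => hn.2) hnorm
  rw [Nat.card_congr φ.toEquiv] at hb
  have : 2 ^ 11 ≤ 2 ^ (w - 1) := Nat.pow_le_pow_right (by norm_num) (by omega)
  omega

/-- The sign changes are the image of `Q^g` in the stabilizer of the class of `8 e_∞`. -/
theorem preE_frame (hS : IsExtraspecialCentralizerSetting z Q 12) (hψ : IsLeechModTwoIso Q e ψ) {x : Q}
    (hx : ψ (LeechEight.latE none) = QuotientGroup.mk x) {g : G} (hg : g * z * g⁻¹ = gval x)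
    (hne : gval x ≠ z) : Nat.card (imgE Q g) = 2 ^ 11 ∧ preE e g = sgnHom.range := by
  classical
  have h := setting_pairAt hS (hg ▸ gval_mem x) (hg ▸ hne)
  have hx1 : gval x ≠ 1 := hg ▸ h.s_ne_one
  have hcard : 2 ^ 11 ≤ Nat.card (imgE Q g) := le_card_imgE h (by norm_num) hS.2.2.2.1
  have hEX := imgE_le_imgX h
  have hEn := imgE_normal h
  have hEab := imgE_elementaryAbelian h
  rw [hg] at hEX hEn
  set N : Subgroup Co0 := preE e g with hN
  have hXiff := fun γ => mem_map_imgX_iff hS hψ hx hx1 hne γ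
  -- the preimage has twice the order
  let f : N →* Spor.Co1 := (QuotientGroup.mk' _).comp N.subtype
  have hfr : f.range = (imgE Q g).map e.toMonoidHom := by
    rw [MonoidHom.range_comp, Subgroup.range_subtype]
    exact Subgroup.map_comap_eq_self_of_surjective (QuotientGroup.mk'_surjective _) _
  have hfk : Nat.card f.ker = 2 := by
    rw [← card_center_Co0]
    refine Nat.card_congr ⟨fun n => ⟨n.1.1, (QuotientGroup.eq_one_iff _).mp n.2⟩,
      fun c => ⟨⟨c, ?_⟩, (QuotientGroup.eq_one_iff _).mpr c.2⟩, fun n => rfl, fun c => rfl⟩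
    show (QuotientGroup.mk (c : Co0) : Spor.Co1) ∈ (imgE Q g).map e.toMonoidHom
    rw [(QuotientGroup.eq_one_iff _).mpr c.2]; exact one_mem _
  have hNcard : Nat.card N = 2 * Nat.card (imgE Q g) := by
    rw [← Subgroup.card_mul_index f.ker, Subgroup.index_ker, hfk, hfr,
      Subgroup.card_map_of_injective e.injective]
  haveI : Finite N := Nat.finite_of_card_ne_zero (by omega)
  haveI : Fact (Nat.Prime 2) := ⟨Nat.prime_two⟩
  obtain ⟨m, hm⟩ := (IsPGroup.iff_card (p := 2)).mp (isPGroup_imgE hEab)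
  have hNp : IsPGroup 2 N := IsPGroup.iff_card.mpr ⟨m + 1, by rw [hNcard, hm, pow_succ']⟩
  have hmono : ∀ n ∈ N, ∃ (c : golayCode) (σ : M24), n = sgnW c * permW σ := fun n hn =>
    cong_latE_iff.mp ((hXiff n).mp (Subgroup.map_mono hEX hn))
  have hpX : ∀ σ : M24, (QuotientGroup.mk (permW σ) : Spor.Co1) ∈ (imgX Q (gval x)).map e.toMonoidHom :=
    fun σ => (hXiff _).mpr (cong_latE_iff.mpr ⟨0, σ, by
      rw [show sgnW (0 : golayCode) = 1 from map_one sgnHom, one_mul]⟩)
  have hnormN : ∀ (σ : M24), ∀ n ∈ N, permW σ * n * (permW σ)⁻¹ ∈ N := by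
    intro σ n hn
    obtain ⟨a, ha, hae⟩ := hn
    obtain ⟨c, hc, hce⟩ := hpX σ
    refine ⟨c * a * c⁻¹, hEn c hc a ha, ?_⟩
    simp only [MulEquiv.coe_toMonoidHom] at hce hae ⊢
    rw [map_mul, map_mul, map_inv, hce, hae, map_mul, map_mul, map_inv]
    rfl
  have hle := twoGroup_mono_le N hNp hmono hnormN
  haveI : Finite sgnHom.range := Nat.finite_of_card_ne_zero (by rw [card_sgn_range]; positivity)
  have hle' := Subgroup.card_le_of_le hle
  rw [card_sgn_range, hNcard] at hle'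
  have hE : Nat.card (imgE Q g) = 2 ^ 11 := by omega
  have hNeq : N = sgnHom.range := Subgroup.eq_of_le_of_card_ge hle (by rw [card_sgn_range, hNcard, hE]; norm_num)
  exact ⟨hE, hNeq⟩

/-- Everything about the class of `8 e_∞`. -/
theorem frame_facts (hS : IsExtraspecialCentralizerSetting z Q 12) (hψ : IsLeechModTwoIso Q e ψ) {x : Q}
    (hx : ψ (LeechEight.latE none) = QuotientGroup.mk x) {g : G} (hg : g * z * g⁻¹ = gval x)
    (hne : gval x ≠ z) :
    Nat.card ↥(qm Q ⊓ (qm Q).map (MulAut.conj g).toMonoidHom) = 2 ^ 13 ∧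
      Nat.card (imgE Q g) = 2 ^ 11 ∧
      ∃ K : Subgroup (cz z ⧸ Q), K ≤ imgX Q (gval x) ∧ imgE Q g ⊓ K = ⊥ ∧
        imgE Q g ⊔ K = imgX Q (gval x) ∧ Nonempty (K ≃* M24) := by
  classical
  have h := setting_pairAt hS (hg ▸ gval_mem x) (hg ▸ hne)
  have hx1 : gval x ≠ 1 := hg ▸ h.s_ne_one
  obtain ⟨hE, hNeq⟩ := preE_frame hS hψ hx hg hne
  have hEX := imgE_le_imgX h
  rw [hg] at hEX
  set N : Subgroup Co0 := preE e g with hN
  have hXiff := fun γ => mem_map_imgX_iff hS hψ hx hx1 hne γ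
  have hpX : ∀ σ : M24, (QuotientGroup.mk (permW σ) : Spor.Co1) ∈ (imgX Q (gval x)).map e.toMonoidHom :=
    fun σ => (hXiff _).mpr (cong_latE_iff.mpr ⟨0, σ, by
      rw [show sgnW (0 : golayCode) = 1 from map_one sgnHom, one_mul]⟩)
  refine ⟨?_, hE, ?_⟩
  · have := card_imgE_mul h (by norm_num) hS.2.2.2.1
    rw [hE, show 2 ^ (2 * 12) = 2 ^ 11 * 2 ^ 13 by norm_num] at this
    exact Nat.eq_of_mul_eq_mul_left (by positivity) this
  let κ : M24 →* cz z ⧸ Q := e.symm.toMonoidHom.comp ((QuotientGroup.mk' _).comp permHom)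
  have hκe : ∀ σ, e (κ σ) = QuotientGroup.mk (permW σ) := fun σ => e.apply_symm_apply _
  have hκE : ∀ σ, κ σ ∈ imgE Q g → σ = 1 := by
    intro σ hσ
    have : permW σ ∈ N := ⟨κ σ, hσ, hκe σ⟩
    rw [hNeq] at this
    obtain ⟨c, hc⟩ := this
    refine (mono_unique (c := 0) (d := Multiplicative.toAdd c) (τ := 1) ?_)
    rw [show sgnW (0 : golayCode) = 1 from map_one sgnHom, one_mul, ← permHom_apply 1, map_one, mul_one]
    exact hc.symm
  refine ⟨κ.range, ?_, ?_, ?_, ⟨(MonoidHom.ofInjective ?_).symm⟩⟩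
  · rintro _ ⟨σ, rfl⟩
    obtain ⟨c, hc, hce⟩ := hpX σ
    have : κ σ = c := e.injective ((hκe σ).trans hce.symm)
    rw [this]; exact hc
  · rw [eq_bot_iff]
    rintro _ ⟨ha, σ, rfl⟩
    rw [hκE σ ha, map_one]; exact one_mem _
  · refine le_antisymm (sup_le hEX ?_) fun a ha => ?_
    · rintro _ ⟨σ, rfl⟩
      obtain ⟨c, hc, hce⟩ := hpX σ
      have : κ σ = c := e.injective ((hκe σ).trans hce.symm)
      rw [this]; exact hc
    · obtain ⟨γ, hγ⟩ := QuotientGroup.mk_surjective (e a)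
      obtain ⟨c, σ, rfl⟩ := cong_latE_iff.mp ((hXiff γ).mp (hγ ▸ Subgroup.mem_map_of_mem _ ha))
      have hcN : sgnW c ∈ N := hNeq ▸ ⟨Multiplicative.ofAdd c, rfl⟩
      obtain ⟨b, hb, hbe⟩ := hcN
      have : a = b * κ σ := by
        apply e.injective
        rw [map_mul, hκe, ← hγ, QuotientGroup.mk_mul]
        simp only [MulEquiv.coe_toMonoidHom] at hbe
        rw [hbe]; rfl
      rw [this]
      exact mul_mem (Subgroup.mem_sup_left hb) (Subgroup.mem_sup_right ⟨σ, rfl⟩)
  · rw [injective_iff_map_eq_one]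
    intro σ hσ
    exact hκE σ (by rw [hσ]; exact one_mem _)

end CfsgLib.MonsterType
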