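import Mathlib
import Cfsg.Prelude.Def_MonsterType
import Cfsg.Agent.Lib.MonsterType.Lattice

/-! The quadratic form carried by `Q / Z(Q)` in a group of Monster type vanishes on a twelve dimensional
subspace. Only invariance under sign changes is used. -/

set_option autoImplicit false

namespace CfsgLib.MonsterType

open Cfsg
open scoped commutatorElement

section Form

variable {P : Type*} [Group P] (hsp : commutator P = Subgroup.center P)
  (hc2 : Nat.card (Subgroup.center P) = 2)
  (ψ : leechLattice → P ⧸ Subgroup.center P)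

/-- A lift of `ψ v`. -/
noncomputable def lift' (v : leechLattice) : P := (ψ v).out

theorem lift'_mk (v : leechLattice) : (QuotientGroup.mk (lift' ψ v) : P ⧸ Subgroup.center P) = ψ v :=
  QuotientGroup.out_eq' _

/-- The commutator form. -/
noncomputable def bform (v w : leechLattice) : P := ⁅lift' ψ v, lift' ψ w⁆

/-- The squaring form. -/
noncomputable def qform (v : leechLattice) : P := lift' ψ v * lift' ψ v

theorem exists_central_of_mk_eq {a b : P}
    (h : (QuotientGroup.mk a : P ⧸ Subgroup.center P) = QuotientGroup.mk b) :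
    ∃ c ∈ Subgroup.center P, b = a * c :=
  ⟨a⁻¹ * b, QuotientGroup.eq.mp h, (mul_inv_cancel_left a b).symm⟩

include hsp in
theorem comm_central (a b : P) : ⁅a, b⁆ ∈ Subgroup.center P := by
  rw [← hsp, commutator_def]
  exact Subgroup.commutator_mem_commutator (Subgroup.mem_top _) (Subgroup.mem_top _)

include hc2 in
theorem central_sq {c : P} (hc : c ∈ Subgroup.center P) : c * c = 1 := by
  have h := pow_card_eq_one' (x := (⟨c, hc⟩ : Subgroup.center P))
  rw [hc2, sq] at h
  exact congrArg Subtype.val h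

theorem bform_eq {v w : leechLattice} {a b : P}
    (ha : (QuotientGroup.mk a : P ⧸ Subgroup.center P) = ψ v)
    (hb : (QuotientGroup.mk b : P ⧸ Subgroup.center P) = ψ w) : bform ψ v w = ⁅a, b⁆ := by
  obtain ⟨c, hc, hca⟩ := exists_central_of_mk_eq (ha.trans (lift'_mk ψ v).symm)
  obtain ⟨d, hd, hdb⟩ := exists_central_of_mk_eq (hb.trans (lift'_mk ψ w).symm)
  have k1 : ∀ y : P, y * c = c * y := Subgroup.mem_center_iff.mp hc
  have k2 : ∀ y : P, y * d = d * y := Subgroup.mem_center_iff.mp hd
  rw [bform, hca, hdb]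
  simp only [commutatorElement_def, mul_inv_rev]
  calc a * c * (b * d) * (c⁻¹ * a⁻¹) * (d⁻¹ * b⁻¹)
      = a * (c * (b * d)) * c⁻¹ * a⁻¹ * (d⁻¹ * b⁻¹) := by group
    _ = a * (b * d * c) * c⁻¹ * a⁻¹ * (d⁻¹ * b⁻¹) := by rw [k1 (b * d)]
    _ = a * b * (d * a⁻¹) * d⁻¹ * b⁻¹ := by group
    _ = a * b * (a⁻¹ * d) * d⁻¹ * b⁻¹ := by rw [k2 a⁻¹]
    _ = a * b * a⁻¹ * b⁻¹ := by group

include hsp hc2 in
theorem bform_comm (v w : leechLattice) : bform ψ v w = bform ψ w v := by
  have h : bform ψ v w * bform ψ v w = 1 := central_sq hc2 (comm_central hsp _ _)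
  rw [bform, bform, ← commutatorElement_inv (lift' ψ v)]
  exact (inv_eq_of_mul_eq_one_left h).symm

theorem bform_self (v : leechLattice) : bform ψ v v = 1 := by simp [bform, commutatorElement_self]

variable (hadd : ∀ v w : leechLattice, ψ (v + w) = ψ v * ψ w)
  (hdbl : ∀ w : leechLattice, ψ (w + w) = 1)

include hsp hadd in
theorem bform_add (u v w : leechLattice) : bform ψ (u + v) w = bform ψ u w * bform ψ v w := by
  rw [bform_eq ψ (a := lift' ψ u * lift' ψ v) (by rw [QuotientGroup.mk_mul, lift'_mk, lift'_mk, hadd]) (lift'_mk ψ w)]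
  set a := lift' ψ u; set b := lift' ψ v; set c := lift' ψ w
  have h := Subgroup.mem_center_iff.mp (comm_central hsp b c) a
  show ⁅a * b, c⁆ = ⁅a, c⁆ * ⁅b, c⁆
  have h' := Subgroup.mem_center_iff.mp (comm_central hsp b c) ⁅a, c⁆
  rw [h']
  simp only [commutatorElement_def, mul_inv_rev] at h ⊢
  calc a * b * c * (b⁻¹ * a⁻¹) * c⁻¹ = (a * (b * c * b⁻¹ * c⁻¹)) * c * a⁻¹ * c⁻¹ := by group
    _ = (b * c * b⁻¹ * c⁻¹ * a) * c * a⁻¹ * c⁻¹ := by rw [h]
    _ = b * c * b⁻¹ * c⁻¹ * (a * c * a⁻¹ * c⁻¹) := by group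

include hdbl in
theorem bform_double (w x : leechLattice) : bform ψ (w + w) x = 1 := by
  rw [bform_eq ψ (a := (1 : P)) (by rw [hdbl, QuotientGroup.mk_one]) (lift'_mk ψ x), commutatorElement_one_left]

include hadd in
theorem map_zero' : ψ 0 = 1 := by
  have h := hadd 0 0
  rw [add_zero] at h
  exact mul_eq_left.mp h.symm

include hadd in
theorem bform_zero (x : leechLattice) : bform ψ 0 x = 1 := by
  rw [bform_eq ψ (a := (1 : P)) (by rw [map_zero' ψ hadd, QuotientGroup.mk_one]) (lift'_mk ψ x), commutatorElement_one_left]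

include hadd hdbl in
theorem map_add_double (v w : leechLattice) : ψ (v + (w + w)) = ψ v := by rw [hadd, hdbl, mul_one]

include hadd hdbl in
theorem map_neg' (v : leechLattice) : ψ (-v) = ψ v := by
  have h := map_add_double ψ hadd hdbl (-v) v
  rw [neg_add_cancel_left] at h
  exact h.symm

theorem bform_congr {v v' : leechLattice} (h : ψ v = ψ v') (w : leechLattice) :
    bform ψ v w = bform ψ v' w := by rw [bform, bform, lift', lift', lift', h]

theorem qform_congr {v v' : leechLattice} (h : ψ v = ψ v') : qform ψ v = qform ψ v' := by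
  rw [qform, qform, lift', lift', h]

include hdbl hadd in
theorem qform_central (v : leechLattice) : qform ψ v ∈ Subgroup.center P := by
  rw [← QuotientGroup.eq_one_iff, qform, QuotientGroup.mk_mul, lift'_mk, ← hadd, hdbl]

include hdbl hadd hc2 in
theorem qform_eq {v : leechLattice} {a : P}
    (ha : (QuotientGroup.mk a : P ⧸ Subgroup.center P) = ψ v) : qform ψ v = a * a := by
  obtain ⟨c, hc, hca⟩ := exists_central_of_mk_eq (ha.trans (lift'_mk ψ v).symm)
  rw [qform, hca]
  calc a * c * (a * c) = a * (c * a) * c := by group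
    _ = a * (a * c) * c := by rw [Subgroup.mem_center_iff.mp hc a]
    _ = a * a := by rw [mul_assoc, mul_assoc, central_sq hc2 hc, mul_one]

include hsp hc2 hadd hdbl in
theorem qform_add (v w : leechLattice) : qform ψ (v + w) = bform ψ w v * (qform ψ v * qform ψ w) := by
  rw [qform_eq hc2 ψ hadd hdbl (a := lift' ψ v * lift' ψ w) (by rw [QuotientGroup.mk_mul, lift'_mk, lift'_mk, hadd])]
  simp only [qform, bform, commutatorElement_def]
  set a := lift' ψ v; set b := lift' ψ w
  have h := Subgroup.mem_center_iff.mp (comm_central hsp b a) a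
  rw [commutatorElement_def] at h
  calc a * b * (a * b) = (a * (b * a * b⁻¹ * a⁻¹)) * (a * b * b) := by group
    _ = (b * a * b⁻¹ * a⁻¹ * a) * (a * b * b) := by rw [h]
    _ = b * a * b⁻¹ * a⁻¹ * (a * a * (b * b)) := by group

/-- A symmetry of the pair (lattice, group) acting trivially on the centre. -/
structure IsSymmetry (g : leechLattice → leechLattice) : Prop where
  exists_aut : ∃ α : P ≃* P, ∀ (v : leechLattice) (a : P),
    ψ v = QuotientGroup.mk a → ψ (g v) = QuotientGroup.mk (α a)

include hc2 in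
theorem aut_fix_center (α : P ≃* P) {c : P} (hc : c ∈ Subgroup.center P) : α c = c := by
  have hαc : α c ∈ Subgroup.center P := by
    rw [Subgroup.mem_center_iff]
    intro y
    have h := congrArg α (Subgroup.mem_center_iff.mp hc (α.symm y))
    simpa using h
  obtain ⟨e, f, hef, huniv⟩ := Nat.card_eq_two_iff.mp hc2
  by_cases h1 : c = 1
  · simp [h1]
  · have hne : α c ≠ 1 := by simpa using h1
    have hmem : ∀ y : Subgroup.center P, y = e ∨ y = f := fun y => by
      simpa [← huniv] using (Set.mem_univ y)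
    rcases hmem 1 with h | h <;> rcases hmem ⟨c, hc⟩ with h' | h' <;> rcases hmem ⟨α c, hαc⟩ with h'' | h'' <;>
      first
        | exact absurd (congrArg Subtype.val (h'.trans h.symm)) h1
        | exact absurd (congrArg Subtype.val (h''.trans h.symm)) hne
        | exact congrArg Subtype.val (h''.trans h'.symm)

include hsp hc2 in
theorem bform_sym {g : leechLattice → leechLattice} (hg : IsSymmetry ψ g) (v w : leechLattice) :
    bform ψ (g v) (g w) = bform ψ v w := by
  obtain ⟨α, hα⟩ := hg.exists_aut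
  rw [bform_eq ψ (hα v _ (lift'_mk ψ v).symm).symm (hα w _ (lift'_mk ψ w).symm).symm,
    ← map_commutatorElement, aut_fix_center hc2 α (comm_central hsp _ _)]
  rfl

include hc2 hadd hdbl in
theorem qform_sym {g : leechLattice → leechLattice} (hg : IsSymmetry ψ g) (v : leechLattice) :
    qform ψ (g v) = qform ψ v := by
  obtain ⟨α, hα⟩ := hg.exists_aut
  rw [qform_eq hc2 ψ hadd hdbl (hα v _ (lift'_mk ψ v).symm).symm, ← map_mul]
  exact aut_fix_center hc2 α (qform_central ψ hadd hdbl v)

end Form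

/-! ### Vector identities -/

theorem eps_latE (t : ZMod 23) : eps t latE = latE ∨ eps t latE = latE + -(latE + latE) := by
  by_cases h : (none : GolayPt) ∈ qrSupp t
  · right
    apply Subtype.ext
    funext p
    show sgn t vecE p = vecE p + -(vecE p + vecE p)
    by_cases hp : p = none
    · subst hp; simp [sgn, h]
    · simp [sgn, vecE, hp]
  · left
    apply Subtype.ext
    funext p
    show sgn t vecE p = vecE p
    by_cases hp : p = none
    · subst hp; simp [sgn, h]
    · simp [sgn, vecE, hp]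

theorem latW_eq (t : ZMod 23) : ∃ n : ℤ,
    latW t = eps t latO - latO + (latW t + latW t) + n • latE := by
  refine ⟨if (none : GolayPt) ∈ qrSupp t then -1 else 0, ?_⟩
  apply Subtype.ext
  funext p
  show vecW t p = sgn t vecO p - vecO p + (vecW t p + vecW t p) +
    (if (none : GolayPt) ∈ qrSupp t then (-1 : ℤ) else 0) • vecE p
  by_cases hp : p = none
  · subst hp
    by_cases h : (none : GolayPt) ∈ qrSupp t <;> simp [sgn, vecO, vecW, vecE, h]
  · by_cases h : p ∈ qrSupp t <;> simp [sgn, vecO, vecW, vecE, h, hp]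

/-- The vector with `4` on `T`, corrected at the extra point. -/
def vecFour (T : Finset GolayPt) : GolayPt → ℤ :=
  fun p => (if p ∈ T then 4 else 0) - (if p = none then 4 * (T.card : ℤ) else 0)

theorem vecFour_mem (T : Finset GolayPt) : vecFour T ∈ leechLattice := by
  refine AddSubgroup.subset_closure (Spor.mem_leechSet_of_const_mod_four _ 0 0 (by decide) (fun p => ?_) ?_)
  · simp only [vecFour, Int.ModEq]
    split <;> split <;> omega
  · have : ∑ p, vecFour T p = 0 := by
      simp only [vecFour]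
      rw [Finset.sum_sub_distrib, Finset.sum_ite_mem, Finset.univ_inter, Finset.sum_const,
        Finset.sum_ite_eq']
      simp
      ring
    rw [this]
    decide

theorem eps_latU (s t p : ZMod 23) : ∃ w : leechLattice,
    eps p (latU s t) = latU s t + (((qrSupp s ∩ qrSupp t ∩ qrSupp p).card : ℤ) • latE + (w + w)) := by
  refine ⟨⟨_, vecFour_mem (qrSupp s ∩ qrSupp t ∩ qrSupp p)⟩, ?_⟩
  apply Subtype.ext
  funext i
  show sgn p (sgn s (vecW t) - vecW t) i = (sgn s (vecW t) - vecW t) i +
    (((qrSupp s ∩ qrSupp t ∩ qrSupp p).card : ℤ) • vecE i +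
      (vecFour (qrSupp s ∩ qrSupp t ∩ qrSupp p) i + vecFour (qrSupp s ∩ qrSupp t ∩ qrSupp p) i))
  by_cases hp : i = none
  · subst hp
    by_cases h1 : (none : GolayPt) ∈ qrSupp s <;> by_cases h2 : (none : GolayPt) ∈ qrSupp t <;>
      by_cases h3 : (none : GolayPt) ∈ qrSupp p <;>
      simp [sgn, vecW, vecE, vecFour, h1, h2, h3] <;> ring
  · by_cases h1 : i ∈ qrSupp s <;> by_cases h2 : i ∈ qrSupp t <;> by_cases h3 : i ∈ qrSupp p <;>
      simp [sgn, vecW, vecE, vecFour, hp, h1, h2, h3]

theorem triple_012 : (qrSupp 0 ∩ qrSupp 1 ∩ qrSupp 2).card % 2 = 1 := by decide +kernel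

theorem pair_even : ∀ s t : ZMod 23, (qrSupp s ∩ qrSupp t).card % 2 = 0 := by decide +kernel

/-! ### The subspace -/

theorem exists_elementaryAbelian {G : Type*} [Group G] [Finite G] (z : G)
    (Q : Subgroup (Subgroup.centralizer ({z} : Set G))) [Q.Normal] (hM : IsOfMonsterType z Q) :
    ∃ E : Subgroup Q, IsElementaryAbelian 2 E ∧ Nat.card E = 2 ^ 13 := by
  obtain ⟨⟨-, -, ⟨⟨hp2, -, hsp⟩, hc2⟩, -, -⟩, e, ψ, hadd, -, hker, hequiv⟩ := hM
  haveI : Fact (Nat.Prime 2) := ⟨Nat.prime_two⟩
  have hdbl : ∀ w : leechLattice, ψ (w + w) = 1 := fun w => (hker _).mpr ⟨w, rfl⟩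
  -- sign changes are symmetries
  have hsym : ∀ t : ZMod 23, IsSymmetry ψ (eps t) := by
    intro t
    obtain ⟨x, hx⟩ := e.surjective (QuotientGroup.mk (⟨eps t, eps_mem_Co0 t⟩ : Co0))
    obtain ⟨h, rfl⟩ := QuotientGroup.mk_surjective x
    exact ⟨⟨MulAut.conjNormal h, fun v a hva => hequiv h ⟨eps t, eps_mem_Co0 t⟩ hx.symm v a hva⟩⟩
  have hodd : ∀ (n : ℤ) (v : leechLattice), ψ (n • v) = if n % 2 = 0 then 1 else ψ v := by
    intro n v
    have he : n • v = (n % 2) • v + ((n / 2) • v + (n / 2) • v) := by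
      rw [← add_zsmul, ← add_zsmul]
      congr 1
      omega
    rw [he, map_add_double ψ hadd hdbl]
    rcases Int.emod_two_eq_zero_or_one n with h | h <;> rw [h] <;> simp [map_zero' ψ hadd]
  have hBsmul : ∀ (n : ℤ) (v x : leechLattice), bform ψ v x = 1 → bform ψ (n • v) x = 1 := by
    intro n v x hv
    have h := hodd n v
    by_cases h2 : n % 2 = 0
    · rw [if_pos h2] at h
      rw [bform_congr ψ (h.trans (map_zero' ψ hadd).symm) x, bform_zero ψ hadd]
    · rw [if_neg h2] at h
      rw [bform_congr ψ h x, hv]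
  have hBneg : ∀ v x : leechLattice, bform ψ (-v) x = bform ψ v x := fun v x =>
    bform_congr ψ (map_neg' ψ hadd hdbl v) x
  have hBsub : ∀ u v x : leechLattice, bform ψ (u - v) x = bform ψ u x * bform ψ v x := by
    intro u v x
    rw [sub_eq_add_neg, bform_add hsp ψ hadd, hBneg]
  -- moving a difference across the form
  have hmove : ∀ (t : ZMod 23) (v x : leechLattice),
      bform ψ v (eps t x - x) = bform ψ (eps t v - v) x := by
    intro t v x
    rw [bform_comm hsp hc2, hBsub, hBsub, bform_comm hsp hc2 ψ (eps t x) v, bform_comm hsp hc2 ψ x v,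
      ← bform_sym hsp hc2 ψ (hsym t) v (eps t x), eps_eps]
  have hEeps : ∀ (t : ZMod 23) (x : leechLattice), bform ψ (eps t latE - latE) x = 1 := by
    intro t x
    rcases eps_latE t with h | h <;> rw [h]
    · rw [sub_self, bform_zero ψ hadd]
    · rw [add_sub_cancel_left, hBneg, bform_double ψ hdbl]
  -- `latE` is orthogonal to every `latW`
  have hEW : ∀ t : ZMod 23, bform ψ latE (latW t) = 1 := by
    intro t
    obtain ⟨n, hn⟩ := latW_eq t
    rw [bform_comm hsp hc2, hn, bform_add hsp ψ hadd, bform_add hsp ψ hadd, bform_double ψ hdbl,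
      hBsmul n _ _ (bform_self ψ _), bform_comm hsp hc2, hmove, hEeps]
    simp
  have hUW_E : ∀ s t : ZMod 23, bform ψ (latU s t) latE = 1 := by
    intro s t
    rw [latU, hBsub, bform_comm hsp hc2 ψ (eps s (latW t)), bform_comm hsp hc2 ψ (latW t), hEW]
    have h : bform ψ latE (eps s (latW t)) = bform ψ (eps s latE) (latW t) := by
      rw [← bform_sym hsp hc2 ψ (hsym s) latE (eps s (latW t)), eps_eps]
    have h2 : bform ψ (eps s latE) (latW t) = bform ψ latE (latW t) := by
      rcases eps_latE s with h | h <;> rw [h]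
      rw [bform_add hsp ψ hadd, hBneg, bform_double ψ hdbl, mul_one]
    rw [h, h2, hEW]
    simp
  have hUeps : ∀ (s t p : ZMod 23) (x : leechLattice), bform ψ latE x = 1 →
      bform ψ (eps p (latU s t) - latU s t) x = 1 := by
    intro s t p x hx
    obtain ⟨w, hw⟩ := eps_latU s t p
    rw [hw, add_sub_cancel_left, bform_add hsp ψ hadd, bform_double ψ hdbl, hBsmul _ _ _ hx]
    simp
  have hUU : ∀ s t p r : ZMod 23, bform ψ (latU s t) (latU p r) = 1 := by
    intro s t p r
    rw [show latU p r = eps p (latW r) - latW r from rfl, hmove]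
    exact hUeps s t p _ (hEW r)
  have hUW : ∀ s t : ZMod 23, bform ψ (latU s t) (latW t) = 1 := by
    intro s t
    obtain ⟨n, hn⟩ := latW_eq t
    rw [bform_comm hsp hc2, hn, bform_add hsp ψ hadd, bform_add hsp ψ hadd, bform_double ψ hdbl,
      hBsmul n latE _ (by rw [bform_comm hsp hc2]; exact hUW_E s t), bform_comm hsp hc2, hmove]
    obtain ⟨w, hw⟩ := eps_latU s t t
    rw [hw, add_sub_cancel_left, bform_add hsp ψ hadd, bform_double ψ hdbl]
    have hcard : ((qrSupp s ∩ qrSupp t ∩ qrSupp t).card : ℤ) % 2 = 0 := by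
      rw [Finset.inter_assoc, Finset.inter_self]
      have := pair_even s t
      omega
    have h0 := hodd ((qrSupp s ∩ qrSupp t ∩ qrSupp t).card : ℤ) latE
    rw [if_pos hcard] at h0
    rw [bform_congr ψ (h0.trans (map_zero' ψ hadd).symm), bform_zero ψ hadd]
    simp
  have hqU : ∀ s t : ZMod 23, qform ψ (latU s t) = 1 := by
    intro s t
    have h := qform_add hsp hc2 ψ hadd hdbl (latW t) (latU s t)
    rw [latU, add_sub_cancel, qform_sym hc2 ψ hadd hdbl (hsym s), ← latU, hUW, one_mul] at h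
    exact mul_eq_left.mp h.symm
  have hqE : qform ψ latE = 1 := by
    obtain ⟨w, hw⟩ := eps_latU 0 1 2
    have h := qform_sym hc2 ψ hadd hdbl (hsym 2) (latU 0 1)
    have hodd' : ¬ ((qrSupp 0 ∩ qrSupp 1 ∩ qrSupp 2).card : ℤ) % 2 = 0 := by
      have := triple_012
      omega
    have hpsi : ψ (eps 2 (latU 0 1)) = ψ (latU 0 1 + latE) := by
      rw [hw, hadd, map_add_double ψ hadd hdbl, hodd, if_neg hodd', hadd]
    rw [qform_congr ψ hpsi, qform_add hsp hc2 ψ hadd hdbl, bform_comm hsp hc2, hUW_E, one_mul] at h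
    exact mul_eq_left.mp h
  -- all of `singSpan`
  have hBB : ∀ v ∈ singSpan, ∀ w ∈ singSpan, bform ψ v w = 1 := by
    intro v hv w hw
    induction hv using AddSubgroup.closure_induction with
    | mem a ha =>
      induction hw using AddSubgroup.closure_induction with
      | mem b hb =>
        rcases ha with rfl | ⟨⟨s, t⟩, rfl⟩ <;> rcases hb with rfl | ⟨⟨p, r⟩, rfl⟩
        · exact bform_self ψ _
        · rw [bform_comm hsp hc2]; exact hUW_E p r
        · exact hUW_E s t
        · exact hUU s t p r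
      | zero => rw [bform_comm hsp hc2, bform_zero ψ hadd]
      | add b c _ _ hb hc =>
        rw [bform_comm hsp hc2, bform_add hsp ψ hadd, bform_comm hsp hc2 ψ b, bform_comm hsp hc2 ψ c, hb, hc,
          one_mul]
      | neg b _ hb => rw [bform_comm hsp hc2, hBneg, bform_comm hsp hc2, hb]
    | zero => rw [bform_zero ψ hadd]
    | add b c _ _ hb hc => rw [bform_add hsp ψ hadd, hb, hc, one_mul]
    | neg b _ hb => rw [hBneg, hb]
  have hq : ∀ v ∈ singSpan, qform ψ v = 1 := by
    intro v hv
    induction hv using AddSubgroup.closure_induction with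
    | mem a ha =>
      rcases ha with rfl | ⟨⟨s, t⟩, rfl⟩
      · exact hqE
      · exact hqU s t
    | zero =>
      rw [qform_eq hc2 ψ hadd hdbl (a := (1 : Q)) (by rw [map_zero' ψ hadd, QuotientGroup.mk_one]), mul_one]
    | add b c hb' hc' hb hc =>
      rw [qform_add hsp hc2 ψ hadd hdbl, hb, hc, hBB c hc' b hb', one_mul, one_mul]
    | neg b _ hb => rw [qform_congr ψ (map_neg' ψ hadd hdbl b), hb]
  let A : Subgroup Q :=
    { carrier := {a | ∃ v ∈ singSpan, (QuotientGroup.mk a : Q ⧸ Subgroup.center Q) = ψ v}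
      one_mem' := ⟨0, zero_mem _, by rw [map_zero' ψ hadd, QuotientGroup.mk_one]⟩
      mul_mem' := by
        rintro a b ⟨v, hv, ha⟩ ⟨w, hw, hb⟩
        exact ⟨v + w, add_mem hv hw, by rw [QuotientGroup.mk_mul, ha, hb, hadd]⟩
      inv_mem' := by
        rintro a ⟨v, hv, ha⟩
        refine ⟨v, hv, ?_⟩
        rw [QuotientGroup.mk_inv, ha, inv_eq_iff_mul_eq_one, ← hadd, hdbl] }
  have hA : IsElementaryAbelian 2 A := by
    refine ⟨⟨⟨fun a b => ?_⟩⟩, fun a ha => ?_⟩
    · obtain ⟨v, hv, hav⟩ := a.2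
      obtain ⟨w, hw, hbw⟩ := b.2
      have h := hBB v hv w hw
      rw [bform_eq ψ hav hbw, commutatorElement_eq_one_iff_mul_comm] at h
      exact Subtype.ext h
    · obtain ⟨v, hv, hav⟩ := ha
      rw [sq, ← qform_eq hc2 ψ hadd hdbl hav]
      exact hq v hv
  have hpre : ∀ f : Fin 12 → ZMod 2, ∃ v ∈ singSpan, coord12 v = f := fun f => by
    have h : f ∈ singSpan.map coord12 := coord12_surj ▸ AddSubgroup.mem_top f
    exact h
  choose pre hpreS hpreC using hpre
  let F : (Fin 12 → ZMod 2) × Subgroup.center Q → A := fun x =>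
    ⟨lift' ψ (pre x.1) * x.2, pre x.1, hpreS _, by
      rw [QuotientGroup.mk_mul, lift'_mk, (QuotientGroup.eq_one_iff _).mpr x.2.2, mul_one]⟩
  have hF : Function.Injective F := by
    rintro ⟨f, c⟩ ⟨f', c'⟩ hff
    have h : lift' ψ (pre f) * c = lift' ψ (pre f') * (c' : Q) := congrArg Subtype.val hff
    have hψ : ψ (pre f) = ψ (pre f') := by
      have := congrArg (QuotientGroup.mk (s := Subgroup.center (Q : Type _))) h
      simpa [QuotientGroup.mk_mul, lift'_mk, (QuotientGroup.eq_one_iff _).mpr c.2,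
        (QuotientGroup.eq_one_iff _).mpr c'.2] using this
    have hd : ψ (pre f - pre f') = 1 := by
      rw [sub_eq_add_neg, hadd, map_neg' ψ hadd hdbl, hψ, ← hadd, hdbl]
    obtain ⟨w, hw⟩ := (hker _).mp hd
    have hff' : f = f' := by
      have h2 := congrArg coord12 hw
      rw [map_sub, hpreC, hpreC, coord12_double] at h2
      exact sub_eq_zero.mp h2
    subst hff'
    exact Prod.ext rfl (Subtype.ext (mul_left_cancel h))
  obtain ⟨n, hn⟩ := IsPGroup.iff_card.mp (hp2.to_subgroup A)
  have hle : 2 ^ 13 ≤ Nat.card A := by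
    have h := Nat.card_le_card_of_injective F hF
    rw [Nat.card_prod, hc2, Nat.card_fun, Nat.card_zmod, Nat.card_fin] at h
    norm_num at h ⊢
    omega
  have h13 : 2 ^ 13 ∣ Nat.card A := by
    rw [hn] at hle ⊢
    exact Nat.pow_dvd_pow 2 ((Nat.pow_le_pow_iff_right (by norm_num)).mp hle)
  obtain ⟨K, hK⟩ := Sylow.exists_subgroup_card_pow_prime 2 h13
  refine ⟨K.map A.subtype, ⟨⟨⟨fun a b => ?_⟩⟩, ?_⟩, ?_⟩
  · obtain ⟨a', -, ha'⟩ := a.2
    obtain ⟨b', -, hb'⟩ := b.2
    apply Subtype.ext
    show (a : Q) * b = b * a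
    rw [← ha', ← hb']
    exact congrArg Subtype.val (hA.1.is_comm.comm a' b')
  · rintro _ ⟨a, -, rfl⟩
    exact hA.2 _ a.2
  · rw [Subgroup.card_map_of_injective A.subtype_injective, hK]

end CfsgLib.MonsterType
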