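import Mathlib
import Cfsg.Agent.Lib.MonsterType.Bridge
import Cfsg.Agent.Lib.MonsterType.Module
import Cfsg.Agent.Lib.Golay.Leech

/-! The conjugates of `z` in `Q` are the elements over the classes of squared length 64, given the orbit
facts about the lattice modulo two. -/

set_option autoImplicit false

namespace CfsgLib.MonsterType

open Cfsg CfsgLib.LargeExtra

/-- The facts about classes of the lattice modulo two used here. -/
structure OrbitFacts : Prop where
  t32 : ∀ v w : leechLattice, sqNorm (v : GolayPt → ℤ) = 32 → sqNorm (w : GolayPt → ℤ) = 32 →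
    ∃ γ : Co0, γ • v = w
  t48 : ∀ v w : leechLattice, sqNorm (v : GolayPt → ℤ) = 48 → sqNorm (w : GolayPt → ℤ) = 48 →
    ∃ γ : Co0, Cong (γ • v) w
  t64 : ∀ v w : leechLattice, sqNorm (v : GolayPt → ℤ) = 64 → sqNorm (w : GolayPt → ℤ) = 64 →
    ∃ γ : Co0, Cong (γ • v) w
  rep : ∀ v : leechLattice, ∃ y : leechLattice, Cong v y ∧ sqNorm (y : GolayPt → ℤ) ≤ 64

/-! ### Test vectors -/

/-- The octad with positions `2, 12, 13, 15, 18, 20, 22, 23`. -/
def octA : Finset GolayPt := CfsgLib.Golay.decS 13938692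

/-- `2` on the octad. -/
def vecA : GolayPt → ℤ := fun p => if p ∈ octA then 2 else 0

/-- `4` at the extra point and at the residue `2`. -/
def vecP : GolayPt → ℤ := fun p => if p = none ∨ p = some 2 then 4 else 0

/-- `-4` at the residues `0` and `2`. -/
def vecR : GolayPt → ℤ := fun p => if p = some 0 ∨ p = some 2 then -4 else 0

theorem vecA_mem : vecA ∈ leechLattice := by
  refine CfsgLib.Golay.mem_leechLattice.mpr ⟨0, by decide +kernel, by decide +kernel, ?_⟩
  rw [CfsgLib.Golay.mem_golayCode]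
  decide +kernel

theorem vecP_mem : vecP ∈ leechLattice :=
  AddSubgroup.subset_closure (Spor.mem_leechSet_of_const_mod_four _ 0 0 (by decide) (by decide) (by decide))

theorem vecR_mem : vecR ∈ leechLattice :=
  AddSubgroup.subset_closure (Spor.mem_leechSet_of_const_mod_four _ 0 0 (by decide) (by decide) (by decide))

theorem sqNorm_double_ge {y u : leechLattice} (h : y = u + u) (hne : sqNorm (y : GolayPt → ℤ) ≠ 0) :
    128 ≤ sqNorm (y : GolayPt → ℤ) := by
  subst h
  rw [half_eq] at hne ⊢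
  have hu : (u : GolayPt → ℤ) ≠ 0 := by
    intro h0
    rw [h0] at hne
    simp [sqNorm] at hne
  have := min_norm u.2 hu
  omega

variable {G : Type*} [Group G] [Finite G] {z : G} {Q : Subgroup (cz z)} [Q.Normal]
  {e : cz z ⧸ Q ≃* Spor.Co1} {ψ : leechLattice → Q ⧸ Subgroup.center Q}

omit [Finite G] in
/-- Moving the identification by an automorphism of the lattice. -/
theorem iso_twist (hψ : IsLeechModTwoIso Q e ψ) (γ : Co0) :
    IsLeechModTwoIso Q (e.trans (MulAut.conj (QuotientGroup.mk γ : Spor.Co1)⁻¹)) fun v => ψ (γ • v) := by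
  obtain ⟨hadd, hsur, hker, heq⟩ := hψ
  refine ⟨fun v v' => by simp only [smul_add', hadd], fun q => ?_, fun v => ?_, fun h δ hδ v q hq => ?_⟩
  · obtain ⟨v, hv⟩ := hsur q
    exact ⟨γ⁻¹ • v, by simp only [smul_inv_smul, hv]⟩
  · rw [hker]
    constructor
    · rintro ⟨u, hu⟩
      exact ⟨γ⁻¹ • u, by rw [← smul_add', ← hu, inv_smul_smul]⟩
    · rintro ⟨u, rfl⟩
      exact ⟨γ • u, smul_add' γ u u⟩
  · have h1 : (QuotientGroup.mk (γ * δ * γ⁻¹) : Spor.Co1) = e (QuotientGroup.mk h) := by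
      rw [QuotientGroup.mk_mul, QuotientGroup.mk_mul, hδ, QuotientGroup.mk_inv]
      simp [mul_assoc]
    have := heq h _ h1 (γ • v) q hq
    rwa [mul_smul, mul_smul, inv_smul_smul] at this

theorem isConj_mul_z (hS : IsExtraspecialCentralizerSetting z Q 12) {x : Q} (h1 : gval x ≠ 1)
    (hz : gval x ≠ z) : ∃ y ∈ cz z, y * gval x * y⁻¹ = z * gval x := by
  obtain ⟨h, -, -⟩ := setting_extraAt hS
  obtain ⟨y, hy, hyx⟩ := h.exists_conj_eq (gval_mem x) h1 hz
  exact ⟨y, qm_le hy, hyx⟩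

theorem norm_cases (v : leechLattice) (hle : sqNorm (v : GolayPt → ℤ) ≤ 64) :
    v = 0 ∨ sqNorm (v : GolayPt → ℤ) = 32 ∨ sqNorm (v : GolayPt → ℤ) = 48 ∨ sqNorm (v : GolayPt → ℤ) = 64 := by
  by_cases hv : v = 0
  · exact Or.inl hv
  · have h1 := min_norm v.2 (coe_ne_zero hv)
    have h2 := CfsgLib.Golay.sixteen_dvd_sqNorm v.2
    omega

theorem psi_zero (hψ : IsLeechModTwoIso Q e ψ) : ψ 0 = 1 := map_zero' ψ hψ.1

/-- An element over the zero class is central. -/
theorem not_zero_class (hS : IsExtraspecialCentralizerSetting z Q 12) (hψ : IsLeechModTwoIso Q e ψ) {x : Q}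
    (hx1 : gval x ≠ 1) (hxz : gval x ≠ z) : ψ 0 ≠ QuotientGroup.mk x := by
  rw [psi_zero hψ, ← QuotientGroup.mk_one]
  intro h
  rcases (mk_center_iff hS _ _).mp h.symm with e1 | e1
  · exact hx1 e1
  · exact hxz (e1.trans (mul_one z))

theorem class_ne_zero (hS : IsExtraspecialCentralizerSetting z Q 12) (hψ : IsLeechModTwoIso Q e ψ) {x : Q}
    {v : leechLattice} (hv : sqNorm (v : GolayPt → ℤ) = 64) (hx : ψ v = QuotientGroup.mk x) :
    gval x ≠ 1 ∧ gval x ≠ z := by
  have key : ψ v ≠ 1 := by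
    intro h
    obtain ⟨u, hu⟩ := (hψ.2.2.1 v).mp h
    have := sqNorm_double_ge hu (by omega)
    omega
  obtain ⟨h, -, -⟩ := setting_extraAt hS
  constructor <;> intro e1 <;> apply key <;> rw [hx, ← QuotientGroup.mk_one] <;>
    refine (mk_center_iff hS x 1).mpr ?_
  · exact Or.inl e1
  · exact Or.inr (e1.trans (mul_one z).symm)

/-- Values of the squaring form on the short classes. -/
theorem qform_values (hO : OrbitFacts) (hS : IsExtraspecialCentralizerSetting z Q 12)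
    (hψ : IsLeechModTwoIso Q e ψ) :
    (∀ v : leechLattice, sqNorm (v : GolayPt → ℤ) = 32 → qform ψ v = 1) ∧
    (∀ v : leechLattice, sqNorm (v : GolayPt → ℤ) = 64 → qform ψ v = 1) ∧
    (∀ v : leechLattice, sqNorm (v : GolayPt → ℤ) = 48 → qform ψ v ≠ 1) := by
  have hex : IsExtraspecial 2 Q := hS.2.2.1
  have hsp : commutator Q = Subgroup.center Q := hex.1.2.2
  have hc2 : Nat.card (Subgroup.center Q) = 2 := hex.2
  have hψ' := hψ
  obtain ⟨hadd, hsur, hker, hequiv⟩ := hψ'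
  have hdbl : ∀ w : leechLattice, ψ (w + w) = 1 := fun w => (hker _).mpr ⟨w, rfl⟩
  -- invariance
  have hinv : ∀ (γ : Co0) (v v' : leechLattice), Cong (γ • v) v' → qform ψ v' = qform ψ v := by
    intro γ v v' h
    obtain ⟨c, hc⟩ := exists_lift_Co0 e γ
    have hsym : IsSymmetry ψ (γ • ·) :=
      ⟨⟨MulAut.conjNormal c, fun u a hua => hequiv c γ hc.symm u a hua⟩⟩
    rw [← qform_congr ψ ((psi_cong hψ).mp h)]
    exact qform_sym hc2 ψ hadd hdbl hsym v
  have hsq : ∀ v : leechLattice, qform ψ v * qform ψ v = 1 := fun v =>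
    central_sq hc2 (qform_central ψ hadd hdbl v)
  have hB : ∀ v w : leechLattice, bform ψ v w = qform ψ (v + w) * qform ψ v * qform ψ w := by
    intro v w
    have h := qform_add hsp hc2 ψ hadd hdbl v w
    rw [bform_comm hsp hc2 ψ w v] at h
    have hprod : qform ψ v * qform ψ w * (qform ψ v * qform ψ w) = 1 :=
      central_sq hc2 (mul_mem (qform_central ψ hadd hdbl v) (qform_central ψ hadd hdbl w))
    rw [h, mul_assoc _ (qform ψ v) (qform ψ w), mul_assoc, hprod, mul_one]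
  let U : leechLattice := Spor.leechU
  let A : leechLattice := ⟨vecA, vecA_mem⟩
  let P : leechLattice := ⟨vecP, vecP_mem⟩
  let R : leechLattice := ⟨vecR, vecR_mem⟩
  have hU : sqNorm (U : GolayPt → ℤ) = 32 := by decide +kernel
  have c32 : ∀ v : leechLattice, sqNorm (v : GolayPt → ℤ) = 32 → qform ψ v = qform ψ U := by
    intro v hv
    obtain ⟨γ, hγ⟩ := hO.t32 U v hU hv
    exact hinv γ U v (hγ ▸ Cong.refl' _)
  let V : leechLattice := U + -A
  have hV : sqNorm (V : GolayPt → ℤ) = 48 := by decide +kernel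
  have c48 : ∀ v : leechLattice, sqNorm (v : GolayPt → ℤ) = 48 → qform ψ v = qform ψ V := by
    intro v hv
    obtain ⟨γ, hγ⟩ := hO.t48 V v hV hv
    exact hinv γ V v hγ
  let W : leechLattice := U + (P + R)
  have hW : sqNorm (W : GolayPt → ℤ) = 64 := by decide +kernel
  have c64 : ∀ v : leechLattice, sqNorm (v : GolayPt → ℤ) = 64 → qform ψ v = qform ψ W := by
    intro v hv
    obtain ⟨γ, hγ⟩ := hO.t64 W v hW hv
    exact hinv γ W v hγ
  have hneg : ∀ v : leechLattice, qform ψ (-v) = qform ψ v := fun v =>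
    qform_congr ψ (map_neg' ψ hadd hdbl v)
  have hnegB : ∀ v w : leechLattice, bform ψ v (-w) = bform ψ v w := fun v w => by
    rw [bform_comm hsp hc2, bform_congr ψ (map_neg' ψ hadd hdbl w), bform_comm hsp hc2]
  have hlin : ∀ u v w : leechLattice, bform ψ u (v + w) = bform ψ u v * bform ψ u w := fun u v w => by
    rw [bform_comm hsp hc2, bform_add hsp ψ hadd, bform_comm hsp hc2 ψ v, bform_comm hsp hc2 ψ w]
  have hA : sqNorm (A : GolayPt → ℤ) = 32 := by decide +kernel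
  have hP : sqNorm (P : GolayPt → ℤ) = 32 := by decide +kernel
  have hR : sqNorm (R : GolayPt → ℤ) = 32 := by decide +kernel
  have h1 : sqNorm ((U + -P : leechLattice) : GolayPt → ℤ) = 32 := by decide +kernel
  have h2 : sqNorm ((P + -A : leechLattice) : GolayPt → ℤ) = 32 := by decide +kernel
  have h3 : sqNorm ((U + -(P + -A) : leechLattice) : GolayPt → ℤ) = 48 := by decide +kernel
  have h4 : sqNorm ((P + R : leechLattice) : GolayPt → ℤ) = 32 := by decide +kernel
  have h5 : sqNorm ((U + R : leechLattice) : GolayPt → ℤ) = 32 := by decide +kernel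
  have h1' : sqNorm ((U + -P : leechLattice) : GolayPt → ℤ) = 32 := h1
  set α := qform ψ U with hα
  set β := qform ψ V with hβ
  have hαα : α * α = 1 := hsq U
  have hββ : β * β = 1 := hsq V
  have hαc : ∀ y : Q, y * α = α * y := Subgroup.mem_center_iff.mp (qform_central ψ hadd hdbl U)
  -- the form on pairs
  have bUP : bform ψ U P = α := by
    rw [← hnegB, hB, hneg, c32 _ h1', c32 P hP, hαα, one_mul]
  have bUA : bform ψ U A = β := by
    rw [← hnegB, hB, hneg, c32 A hA, mul_assoc, hαα, mul_one]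
  have bUPA : bform ψ U (P + -A) = β := by
    rw [← hnegB, hB, hneg, c32 (P + -A) h2, c48 _ h3, mul_assoc, hαα, mul_one]
  have hα1 : α = 1 := by
    have h := hlin U P (-A)
    rw [hnegB, bUP, bUA, bUPA] at h
    exact (mul_eq_right.mp h.symm)
  have bUR : bform ψ U R = α := by
    rw [hB, c32 _ h5, c32 R hR, hαα, one_mul]
  have hW1 : qform ψ W = 1 := by
    have h := hlin U P R
    rw [bUP, bUR, hB, c32 (P + R) h4, hαα, mul_assoc, hαα, mul_one] at h
    exact h
  have h32 : ∀ v : leechLattice, sqNorm (v : GolayPt → ℤ) = 32 → qform ψ v = 1 := fun v hv => by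
    rw [c32 v hv, hα1]
  have h64 : ∀ v : leechLattice, sqNorm (v : GolayPt → ℤ) = 64 → qform ψ v = 1 := fun v hv => by
    rw [c64 v hv, hW1]
  refine ⟨h32, h64, fun v hv hv1 => ?_⟩
  -- otherwise every square in `Q` would be trivial
  rw [c48 v hv] at hv1
  have hall : ∀ a : Q, a * a = 1 := by
    intro a
    obtain ⟨u, hu⟩ := hsur (QuotientGroup.mk a)
    rw [← qform_eq hc2 ψ hadd hdbl hu.symm]
    obtain ⟨y, huy, hy⟩ := hO.rep u
    rw [qform_congr ψ ((psi_cong hψ).mp huy)]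
    rcases norm_cases y hy with e1 | e1 | e1 | e1
    · rw [e1]
      rw [qform_eq hc2 ψ hadd hdbl (a := 1) (by rw [map_zero' ψ hadd, QuotientGroup.mk_one])]
      simp
    · exact h32 y e1
    · rw [c48 y e1]; exact hv1
    · exact h64 y e1
  have hcen : Subgroup.center Q = ⊤ := by
    rw [eq_top_iff]
    intro a _
    rw [Subgroup.mem_center_iff]
    intro b
    calc b * a = b⁻¹ * a⁻¹ := by
          rw [inv_eq_of_mul_eq_one_right (hall a), inv_eq_of_mul_eq_one_right (hall b)]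
      _ = (a * b)⁻¹ := (mul_inv_rev a b).symm
      _ = a * b := inv_eq_of_mul_eq_one_right (hall (a * b))
  rw [hcen, Subgroup.card_top, hS.2.2.2.1] at hc2
  norm_num at hc2

/-- The class of a conjugate of `z` other than `z` contains a vector of squared length 64. -/
theorem exists_norm64 (hO : OrbitFacts) (hS : IsExtraspecialCentralizerSetting z Q 12)
    (hψ : IsLeechModTwoIso Q e ψ) {x : Q} (hconj : IsConj z (gval x)) (hne : gval x ≠ z) :
    ∃ v : leechLattice, sqNorm (v : GolayPt → ℤ) = 64 ∧ ψ v = QuotientGroup.mk x := by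
  obtain ⟨g, hg⟩ := isConj_iff.mp hconj
  have hx1 : gval x ≠ 1 := by
    intro h
    rw [h, mul_inv_eq_one, mul_eq_left] at hg
    have := hS.1
    rw [hg, orderOf_one] at this
    norm_num at this
  obtain ⟨u, hu⟩ := hψ.2.1 (QuotientGroup.mk x)
  obtain ⟨y, huy, hy⟩ := hO.rep u
  rw [(psi_cong hψ).mp huy] at hu
  rcases norm_cases y hy with e1 | e1 | e1 | e1
  · rw [e1] at hu; exact absurd hu (not_zero_class hS hψ hx1 hne)
  · obtain ⟨γ, hγ⟩ := hO.t32 Spor.leechU y (by decide +kernel) e1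
    exact (not_conj_of_leechU hS (le_refl 12) (iso_twist hψ γ) (x := x) (show ψ (γ • Spor.leechU) = _ by rw [hγ, hu])
      hg hne).elim
  · refine absurd ?_ ((qform_values hO hS hψ).2.2 y e1)
    rw [qform_eq hS.2.2.1.2 ψ hψ.1 (fun w => (hψ.2.2.1 _).mpr ⟨w, rfl⟩) hu.symm]
    refine Subtype.ext (Subtype.ext ?_)
    show gval x * gval x = 1
    rw [← hg]
    calc g * z * g⁻¹ * (g * z * g⁻¹) = g * (z * z) * g⁻¹ := by group
      _ = 1 := by rw [← sq, ← hS.1, pow_orderOf_eq_one]; group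
  · exact ⟨y, e1, hu⟩

/-- Elements over classes related by an automorphism are conjugate in the centralizer. -/
theorem conj_of_cong (hS : IsExtraspecialCentralizerSetting z Q 12) (hψ : IsLeechModTwoIso Q e ψ)
    {x y : Q} {v v' : leechLattice} (hx : ψ v = QuotientGroup.mk x) (hy : ψ v' = QuotientGroup.mk y)
    (hy1 : gval y ≠ 1) (hyz : gval y ≠ z) {γ : Co0} (hγ : Cong (γ • v) v') :
    ∃ h ∈ cz z, h * gval x * h⁻¹ = gval y := by
  obtain ⟨h', -, -⟩ := setting_extraAt hS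
  obtain ⟨c, hc⟩ := exists_lift_Co0 e γ
  have h1 := psi_smul hψ hc hx
  rw [(psi_cong hψ).mp hγ, hy, mk_center_iff hS] at h1
  have hcx : gval (conjQ c x) = (c : G) * gval x * (c : G)⁻¹ := rfl
  rw [hcx] at h1
  rcases h1 with e1 | e1
  · exact ⟨c, c.2, e1.symm⟩
  · obtain ⟨u, hu, huy⟩ := isConj_mul_z hS hy1 hyz
    refine ⟨u * c, mul_mem hu c.2, ?_⟩
    have e2 : (c : G) * gval x * (c : G)⁻¹ = z * gval y := by
      rw [e1, ← mul_assoc z z, h'.sq_one, one_mul]
    have huz : u * z = z * u := Subgroup.mem_centralizer_singleton_iff.mp hu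
    calc u * (c : G) * gval x * (u * (c : G))⁻¹ = u * ((c : G) * gval x * (c : G)⁻¹) * u⁻¹ := by group
      _ = (u * z) * gval y * u⁻¹ := by rw [e2]; group
      _ = z * (u * gval y * u⁻¹) := by rw [huz]; group
      _ = gval y := by rw [huy, ← mul_assoc, h'.sq_one, one_mul]

omit [Q.Normal] in
theorem exists_conjugate (hS : IsExtraspecialCentralizerSetting z Q 12) :
    ∃ x : Q, IsConj z (gval x) ∧ gval x ≠ z := by
  obtain ⟨g, ⟨hq, hqQ⟩, hne⟩ := hS.2.2.2.2
  exact ⟨⟨_, hqQ⟩, isConj_iff.mpr ⟨g, rfl⟩, hne⟩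

theorem isConj_iff_norm64 (hO : OrbitFacts) (hS : IsExtraspecialCentralizerSetting z Q 12)
    (hψ : IsLeechModTwoIso Q e ψ) (x : Q) : (IsConj z (gval x) ∧ gval x ≠ z) ↔
      ∃ v : leechLattice, sqNorm (v : GolayPt → ℤ) = 64 ∧ ψ v = QuotientGroup.mk x := by
  refine ⟨fun h => exists_norm64 hO hS hψ h.1 h.2, ?_⟩
  rintro ⟨v, hv, hx⟩
  obtain ⟨x₀, h0, h0z⟩ := exists_conjugate hS
  obtain ⟨v₀, hv₀, hx₀⟩ := exists_norm64 hO hS hψ h0 h0z
  obtain ⟨hx1, hxz⟩ := class_ne_zero hS hψ hv hx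
  obtain ⟨γ, hγ⟩ := hO.t64 v₀ v hv₀ hv
  obtain ⟨c, -, hc⟩ := conj_of_cong hS hψ hx₀ hx hx1 hxz hγ
  exact ⟨h0.trans (isConj_iff.mpr ⟨c, hc⟩), hxz⟩

theorem transitive_central (hO : OrbitFacts) (hS : IsExtraspecialCentralizerSetting z Q 12)
    (hψ : IsLeechModTwoIso Q e ψ) {x y : Q} (hx : IsConj z (gval x)) (hy : IsConj z (gval y))
    (hxz : gval x ≠ z) (hyz : gval y ≠ z) : ∃ h ∈ cz z, h * gval x * h⁻¹ = gval y := by
  obtain ⟨v, hv, hxv⟩ := exists_norm64 hO hS hψ hx hxz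
  obtain ⟨v', hv', hyv⟩ := exists_norm64 hO hS hψ hy hyz
  obtain ⟨γ, hγ⟩ := hO.t64 v v' hv hv'
  exact conj_of_cong hS hψ hxv hyv (class_ne_zero hS hψ hv' hyv).1 hyz hγ

theorem transitive_noncentral (hO : OrbitFacts) (hS : IsExtraspecialCentralizerSetting z Q 12)
    (hψ : IsLeechModTwoIso Q e ψ) {x y : Q} (hx2 : orderOf (gval x) = 2) (hy2 : orderOf (gval y) = 2)
    (hx : ¬ IsConj z (gval x)) (hy : ¬ IsConj z (gval y)) : ∃ h ∈ cz z, h * gval x * h⁻¹ = gval y := by
  have hne : ∀ {a : Q}, orderOf (gval a) = 2 → ¬ IsConj z (gval a) → gval a ≠ 1 ∧ gval a ≠ z :=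
    fun ha2 ha => ⟨fun h => by simp [h] at ha2, fun h => ha (by rw [h])⟩
  have key : ∀ {a : Q}, orderOf (gval a) = 2 → ¬ IsConj z (gval a) →
      ∃ v : leechLattice, sqNorm (v : GolayPt → ℤ) = 32 ∧ ψ v = QuotientGroup.mk a := by
    intro a ha2 ha
    obtain ⟨ha1, haz⟩ := hne ha2 ha
    obtain ⟨u, hu⟩ := hψ.2.1 (QuotientGroup.mk a)
    obtain ⟨v, huv, hv⟩ := hO.rep u
    rw [(psi_cong hψ).mp huv] at hu
    rcases norm_cases v hv with e1 | e1 | e1 | e1
    · rw [e1] at hu; exact absurd hu (not_zero_class hS hψ ha1 haz)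
    · exact ⟨v, e1, hu⟩
    · refine absurd ?_ ((qform_values hO hS hψ).2.2 v e1)
      rw [qform_eq hS.2.2.1.2 ψ hψ.1 (fun w => (hψ.2.2.1 _).mpr ⟨w, rfl⟩) hu.symm]
      refine Subtype.ext (Subtype.ext ?_)
      show gval a * gval a = 1
      rw [← sq, ← ha2, pow_orderOf_eq_one]
    · exact absurd ((isConj_iff_norm64 hO hS hψ a).mpr ⟨v, e1, hu⟩).1 ha
  obtain ⟨v, hv, hxv⟩ := key hx2 hx
  obtain ⟨v', hv', hyv⟩ := key hy2 hy
  obtain ⟨γ, hγ⟩ := hO.t32 v v' hv hv'
  exact conj_of_cong hS hψ hxv hyv (hne hy2 hy).1 (hne hy2 hy).2 (γ := γ) (by rw [hγ]; exact Cong.refl' _)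

theorem conjugate_facts (hO : OrbitFacts) (hS : IsExtraspecialCentralizerSetting z Q 12)
    (hψ : IsLeechModTwoIso Q e ψ) {x : Q} {g : G} (hg : g * z * g⁻¹ = gval x) (hne : gval x ≠ z) :
    Nat.card ↥(qm Q ⊓ (qm Q).map (MulAut.conj g).toMonoidHom) = 2 ^ 13 ∧
      Nat.card (imgE Q g) = 2 ^ 11 ∧
      ∃ K : Subgroup (cz z ⧸ Q), K ≤ imgX Q (gval x) ∧ imgE Q g ⊓ K = ⊥ ∧
        imgE Q g ⊔ K = imgX Q (gval x) ∧ Nonempty (K ≃* M24) := by
  obtain ⟨v, hv, hx⟩ := exists_norm64 hO hS hψ (isConj_iff.mpr ⟨g, hg⟩) hne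
  obtain ⟨γ, hγ⟩ := hO.t64 (LeechEight.latE none) v (by simpa using sqNorm_image_latE 1 none) hv
  exact frame_facts hS (iso_twist hψ γ) (x := x) (show ψ (γ • LeechEight.latE none) = _ by
    rw [(psi_cong hψ).mp hγ, hx]) hg hne

end CfsgLib.MonsterType
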