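import Mathlib
import Cfsg.Agent.Lib.MonsterType.Main
import Cfsg.Agent.Lib.Golay.LeechModTwo
import Cfsg.Agent.Lib.Golay.Co0

/-! The orbit facts about the lattice modulo two. -/

set_option autoImplicit false

namespace CfsgLib.MonsterType

open Cfsg

theorem cong_of_congTwo {v w : leechLattice} (h : CfsgLib.Golay.CongTwo (v : GolayPt → ℤ) w) : Cong v w := by
  obtain ⟨u, hu, e⟩ := h
  refine ⟨⟨u, hu⟩, Subtype.ext ?_⟩
  simp only [AddSubgroup.coe_add, two_nsmul] at e ⊢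
  rw [← e]
  abel

theorem rep_facts (v : leechLattice) : ∃ y : leechLattice, Cong v y ∧ sqNorm (y : GolayPt → ℤ) ≤ 64 := by
  obtain ⟨y, hy, hn, hc⟩ := CfsgLib.Golay.exists_short_congTwo v.2
  exact ⟨⟨y, hy⟩, cong_of_congTwo hc, hn⟩

theorem orbitFacts : OrbitFacts where
  t32 _ _ hv hw := CfsgLib.Golay.exists_smul_eq_norm32 hv hw
  t48 _ _ hv hw := by
    obtain ⟨γ, h⟩ := CfsgLib.Golay.exists_smul_eq_norm48 hv hw
    exact ⟨γ, by rw [h]; exact Cong.refl' _⟩
  t64 _ _ hv hw := by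
    obtain ⟨γ, h⟩ := CfsgLib.Golay.exists_smul_eq_norm64 hv hw
    exact ⟨γ, by rw [h]; exact Cong.refl' _⟩
  rep := rep_facts

end CfsgLib.MonsterType
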