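import Cfsg.Agent.Lib.MonsterType.LocalLift
import Cfsg.Agent.Lib.LargeExtra.Quot
import Cfsg.Agent.Lib.Components.FStar
import Cfsg.Agent.Lib.PCore.Basic

/-! The centralizer of an element `b` of odd prime order commuting with `z`, modulo `⟨b⟩`: the involution
centralizer of the image of `z` there, with `C_Q(b)` as generalized Fitting subgroup. -/

set_option autoImplicit false

namespace CfsgLib.MonsterType.Local

open Cfsg CfsgLib.LargeExtra

variable {G : Type*} [Group G]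

theorem mem_centralizer_zpowers {b x : G} :
    x ∈ Subgroup.centralizer (Subgroup.zpowers b : Set G) ↔ x * b = b * x := by
  rw [Subgroup.mem_centralizer_iff]
  constructor
  · exact fun h => (h b (Subgroup.mem_zpowers b)).symm
  · intro h y hy
    obtain ⟨n, rfl⟩ := Subgroup.mem_zpowers_iff.mp hy
    exact ((show Commute b x from h.symm).zpow_left n).eq

/-- The elements of `Q` commuting with `b`. -/
def fixQ {z : G} (Q : Subgroup (cz z)) (b : G) : Subgroup G :=
  qm Q ⊓ Subgroup.centralizer (Subgroup.zpowers b : Set G)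

/-- The common centralizer of `z` and `b`. -/
def czb (z b : G) : Subgroup G := cz z ⊓ Subgroup.centralizer (Subgroup.zpowers b : Set G)

theorem mem_fixQ {z b x : G} {Q : Subgroup (cz z)} : x ∈ fixQ Q b ↔ x ∈ qm Q ∧ x * b = b * x :=
  and_congr_right fun _ => mem_centralizer_zpowers

theorem mem_czb {z b x : G} : x ∈ czb z b ↔ x * z = z * x ∧ x * b = b * x :=
  and_congr Subgroup.mem_centralizer_singleton_iff mem_centralizer_zpowers

theorem fixQ_le_czb [Finite G] {z b : G} {Q : Subgroup (cz z)} : fixQ Q b ≤ czb z b :=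
  inf_le_inf_right _ qm_le

/-- If the image of `C(z) ∩ C(b)` modulo `C_Q(b) ⟨b⟩` is a group `L` with trivial 2-core, acting faithfully,
then `C(b)/⟨b⟩` satisfies the extraspecial-centralizer hypothesis of width `k` over `L`, and the conjugates
of the distinguished involution in `R` are those of `z` in `C_Q(b)`. -/
theorem local_setting [Finite G] {z : G} {Q : Subgroup (cz z)} [Q.Normal] {w : ℕ} (hw : 2 ≤ w)
    (hS : IsExtraspecialCentralizerSetting z Q w) {l : ℕ} [Fact l.Prime] (hl2 : l ≠ 2) {b : G}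
    (hb : orderOf b = l) (hbz : b * z = z * b) {k : ℕ}
    (hcen : ∀ x ∈ fixQ Q b, (∀ y ∈ fixQ Q b, y * x = x * y) → x = 1 ∨ x = z)
    (hna : ∃ a ∈ fixQ Q b, ∃ c ∈ fixQ Q b, a * c ≠ c * a)
    (hcard : Nat.card (fixQ Q b) = 2 ^ (2 * k + 1))
    (hwc : ∃ r ∈ fixQ Q b, IsConj z r ∧ r ≠ z)
    {L : Type*} [Group L] [Finite L] (φ : czb z b →* L) (hφs : Function.Surjective φ)
    (hφQ : ∀ c : czb z b, (c : G) ∈ fixQ Q b → φ c = 1)
    (hφb : ∀ c : czb z b, (c : G) ∈ Subgroup.zpowers b → φ c = 1)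
    (hφk : ∀ c : czb z b, φ c = 1 → ∃ q ∈ fixQ Q b, q⁻¹ * (c : G) ∈ Subgroup.zpowers b)
    (hfaith : ∀ c : czb z b, (∀ q ∈ fixQ Q b, (c : G) * q = q * (c : G)) → φ c = 1)
    (hL : pCore 2 L = ⊥)
    [hn : ((Subgroup.zpowers b).subgroupOf (Subgroup.centralizer (Subgroup.zpowers b : Set G))).Normal] :
    ∃ (zb : ↥(Subgroup.centralizer (Subgroup.zpowers b : Set G)) ⧸
        (Subgroup.zpowers b).subgroupOf (Subgroup.centralizer (Subgroup.zpowers b : Set G)))
      (R : Subgroup (cz zb)) (_ : R.Normal),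
      IsExtraspecialCentralizerSetting zb R k ∧ Nonempty (cz zb ⧸ R ≃* L) ∧
      Set.ncard {x : cz zb | x ∈ R ∧ IsConj zb (x : _)} = Set.ncard {r : G | r ∈ fixQ Q b ∧ IsConj z r} := by
  classical
  haveI : Fact (Nat.Prime 2) := ⟨Nat.prime_two⟩
  obtain ⟨hA, -, -⟩ := setting_extraAt hS
  set H := Subgroup.centralizer (Subgroup.zpowers b : Set G) with hH
  let π : H →* H ⧸ (Subgroup.zpowers b).subgroupOf H := QuotientGroup.mk' _
  have hπ : ∀ x : H, π x = 1 ↔ (x : G) ∈ Subgroup.zpowers b := fun x => QuotientGroup.eq_one_iff x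
  have hzH : z ∈ H := mem_centralizer_zpowers.mpr hbz.symm
  set zb := π ⟨z, hzH⟩ with hzb
  have hbcomm : ∀ {a x : G}, x * b = b * x → a ∈ Subgroup.zpowers b → a * x = x * a := fun {a x} hx ha => by
    obtain ⟨n, rfl⟩ := Subgroup.mem_zpowers_iff.mp ha
    exact ((show Commute b x from hx.symm).zpow_left n).eq
  have hQp : IsPGroup 2 (qm Q) := hS.2.2.1.1.1.map _
  have hQb : ∀ {x : G}, x ∈ qm Q → x ∈ Subgroup.zpowers b → x = 1 := fun {x} hx hxb =>
    eq_one_of_two_odd hQp hl2 hb hx hxb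
  -- involution classes are detected in `G`
  have hinv : ∀ {u : G}, u * u = 1 → u * b = b * u → ∀ {v : G}, v * v = 1 → v * b = b * v →
      u⁻¹ * v ∈ Subgroup.zpowers b → u = v := by
    intro u hu hub v hv hvb ha
    set a := u⁻¹ * v with had
    have hv' : v = u * a := by rw [had, mul_inv_cancel_left]
    have h2 : a * a = 1 := by
      have hc : a * u = u * a := hbcomm hub ha
      calc a * a = (u * u) * (a * a) := by rw [hu, one_mul]
        _ = u * (u * a) * a := by group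
        _ = u * (a * u) * a := by rw [hc]
        _ = u * a * (u * a) := by group
        _ = 1 := by rw [← hv', hv]
    have : a = 1 := by
      obtain ⟨m, hm⟩ : Odd l := (Fact.out : l.Prime).odd_of_ne_two hl2
      have hl : a ^ l = 1 := orderOf_dvd_iff_pow_eq_one.mp (hb ▸ orderOf_dvd_of_mem_zpowers ha)
      rwa [hm, pow_succ, pow_mul, pow_two, h2, one_pow, one_mul] at hl
    rw [hv', this, mul_one]
  let M := czb z b
  let ι : M →* H := Subgroup.inclusion inf_le_right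
  let Φ : M →* cz zb := (π.comp ι).codRestrict (cz zb) fun c => by
    refine Subgroup.mem_centralizer_singleton_iff.mpr ?_
    show π (ι c) * π ⟨z, hzH⟩ = π ⟨z, hzH⟩ * π (ι c)
    rw [← map_mul, ← map_mul]
    exact congrArg π (Subtype.ext (mem_czb.mp c.2).1)
  have hΦ1 : ∀ c : M, Φ c = 1 ↔ (c : G) ∈ Subgroup.zpowers b := fun c => Subtype.ext_iff.trans (hπ (ι c))
  have hΦeq : ∀ c d : M, Φ c = Φ d ↔ (c : G)⁻¹ * d ∈ Subgroup.zpowers b := fun c d => by
    rw [← inv_mul_eq_one, ← map_inv, ← map_mul, hΦ1]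
    rfl
  have hΦs : Function.Surjective Φ := by
    rintro ⟨d, hd⟩
    obtain ⟨c, rfl⟩ := QuotientGroup.mk'_surjective _ d
    have hc := Subgroup.mem_centralizer_singleton_iff.mp hd
    change π c * π ⟨z, hzH⟩ = π ⟨z, hzH⟩ * π c at hc
    have hcb : (c : G) * b = b * c := mem_centralizer_zpowers.mp c.2
    have h1 : (c : G) * z * (c : G)⁻¹ = z := by
      have hcz : π (c * ⟨z, hzH⟩ * c⁻¹) = π ⟨z, hzH⟩ := by
        rw [map_mul, map_mul, map_inv, hc, mul_inv_cancel_right]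
      refine hinv ?_ ?_ hA.sq_one hbz.symm ?_
      · calc (c : G) * z * (c : G)⁻¹ * ((c : G) * z * (c : G)⁻¹) = (c : G) * (z * z) * (c : G)⁻¹ := by group
          _ = 1 := by rw [hA.sq_one, mul_one, mul_inv_cancel]
      · exact (((show Commute (c : G) b from hcb).mul_left (show Commute z b from hbz.symm)).mul_left
          (show Commute (c : G) b from hcb).inv_left).eq
      · have := (hπ ((c * ⟨z, hzH⟩ * c⁻¹)⁻¹ * ⟨z, hzH⟩)).mp (by rw [map_mul, map_inv, hcz, inv_mul_cancel])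
        simpa [mul_assoc] using this
    exact ⟨⟨c, mem_czb.mpr ⟨mul_inv_eq_iff_eq_mul.mp h1, hcb⟩⟩, rfl⟩
  have hzM : z ∈ M := mem_czb.mpr ⟨rfl, hbz.symm⟩
  set R : Subgroup (cz zb) := ((fixQ Q b).subgroupOf M).map Φ with hR
  have hinjQ : ∀ c d : M, (c : G) ∈ qm Q → (d : G) ∈ qm Q → Φ c = Φ d → c = d := fun c d hc hd h => by
    exact Subtype.ext (inv_mul_eq_one.mp (hQb (mul_mem (inv_mem hc) hd) ((hΦeq c d).mp h)))
  have hQn : ∀ (c : M) (q : G), q ∈ fixQ Q b → (c : G) * q * (c : G)⁻¹ ∈ fixQ Q b := fun c q hq => by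
    obtain ⟨hqQ, hqb⟩ := mem_fixQ.mp hq
    obtain ⟨hqc, hqQ'⟩ := mem_qm.mp hqQ
    have hcz : (c : G) ∈ cz z := c.2.1
    refine mem_fixQ.mpr ⟨mem_qm.mpr ⟨mul_mem (mul_mem hcz hqc) (inv_mem hcz),
      (inferInstance : Q.Normal).conj_mem ⟨q, hqc⟩ hqQ' ⟨c, hcz⟩⟩, ?_⟩
    exact (((show Commute (c : G) b from (mem_czb.mp c.2).2).mul_left (show Commute q b from hqb)).mul_left
      (show Commute (c : G) b from (mem_czb.mp c.2).2).inv_left).eq
  have hPn : ((fixQ Q b).subgroupOf M).Normal := ⟨fun q hq c => hQn c q hq⟩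
  haveI hRn : R.Normal := hPn.map Φ hΦs
  have hz1 : Φ ⟨z, hzM⟩ ≠ 1 := fun e1 => hA.ne_one (hQb hA.z_mem ((hΦ1 _).mp e1))
  have hEx : ExtraAt R (Φ ⟨z, hzM⟩) := by
    refine extraAt_image hA M Φ (inf_le_left : fixQ Q b ≤ qm Q) hzM hz1 (fun x hx hc => ?_) ?_
    · have hc' : ∀ y ∈ fixQ Q b, y * (x : G) = (x : G) * y := fun y hy =>
        congrArg Subtype.val (hinjQ _ _ (mul_mem hy.1 hx.1) (mul_mem hx.1 hy.1) (hc ⟨y, fixQ_le_czb hy⟩ hy))
      rcases hcen x hx hc' with e1 | e1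
      · exact Or.inl (by rw [show x = 1 from Subtype.ext e1, map_one])
      · exact Or.inr (congrArg Φ (Subtype.ext e1))
    · obtain ⟨a, ha, c, hc, hac⟩ := hna
      exact ⟨⟨a, fixQ_le_czb ha⟩, ⟨c, fixQ_le_czb hc⟩, ha, hc, fun h =>
        hac (congrArg Subtype.val (hinjQ _ _ (mul_mem ha.1 hc.1) (mul_mem hc.1 ha.1) h))⟩
  have hRcard : Nat.card R = 2 ^ (2 * k + 1) := by
    rw [← hcard]
    refine (Nat.card_congr (Equiv.ofBijective (fun q : fixQ Q b =>
      (⟨Φ ⟨q, fixQ_le_czb q.2⟩, ⟨_, q.2, rfl⟩⟩ : R)) ⟨fun u v h => ?_, ?_⟩)).symm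
    · exact Subtype.ext (congrArg (fun t : M => (t : G))
        (hinjQ _ _ u.2.1 v.2.1 (congrArg (fun t : R => (t : cz zb)) h)))
    · rintro ⟨_, c, hc, rfl⟩
      exact ⟨⟨c, hc⟩, rfl⟩
  have hker : Φ.ker ≤ φ.ker := fun c hc => hφb c ((hΦ1 c).mp hc)
  let f : cz zb →* L := Φ.liftOfSurjective hΦs ⟨φ, hker⟩
  have hf : ∀ c, f (Φ c) = φ c := fun c => Φ.liftOfRightInverse_comp_apply _ _ _ c
  have hfs : Function.Surjective f := fun x => by
    obtain ⟨c, rfl⟩ := hφs x
    exact ⟨Φ c, hf c⟩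
  have hfk : R = f.ker := by
    ext d
    obtain ⟨c, rfl⟩ := hΦs d
    rw [MonoidHom.mem_ker, hf]
    constructor
    · rintro ⟨q, hq, hqc⟩
      have h : φ (q⁻¹ * c) = 1 := hφb _ (by simpa using (hΦeq q c).mp hqc)
      rwa [map_mul, map_inv, hφQ q hq, inv_one, one_mul] at h
    · intro h
      obtain ⟨q, hq, hqc⟩ := hφk c h
      exact ⟨⟨q, fixQ_le_czb hq⟩, hq, (hΦeq _ _).mpr hqc⟩
  let e' : cz zb ⧸ R ≃* L :=
    (QuotientGroup.quotientMulEquivOfEq hfk).trans (QuotientGroup.quotientKerEquivOfSurjective f hfs)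
  have hcore : pCore 2 (cz zb) = R := by
    refine le_antisymm ?_ (CfsgLib.PCore.le_pCore hRn hEx.extra.1.1)
    have h1 := CfsgLib.PCore.map_pCore_le (p := 2) f hfs
    rw [hL, le_bot_iff, Subgroup.map_eq_bot_iff, ← hfk] at h1
    exact h1
  have hcent : Subgroup.centralizer (R : Set (cz zb)) ≤ R := by
    intro d hd
    obtain ⟨c, rfl⟩ := hΦs d
    rw [hfk, MonoidHom.mem_ker, hf]
    refine hfaith c fun q hq => ?_
    have h := Subgroup.mem_centralizer_iff.mp hd (Φ ⟨q, fixQ_le_czb hq⟩) ⟨_, hq, rfl⟩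
    have h' : Φ (c * ⟨q, fixQ_le_czb hq⟩ * c⁻¹) = Φ ⟨q, fixQ_le_czb hq⟩ := by
      rw [map_mul, map_mul, map_inv, ← h, mul_inv_cancel_right]
    exact mul_inv_eq_iff_eq_mul.mp (congrArg (fun t : M => (t : G)) (hinjQ _ _ (hQn c q hq).1 hq.1 h'))
  have hgfit : generalizedFittingSubgroup (cz zb) = R := by
    rw [CfsgLib.Components.generalizedFitting_eq_pCore_of_centralizer_le 2 (by rw [hcore]; exact hcent), hcore]
  -- conjugacy in the quotient
  have hconj : ∀ q : M, (q : G) ∈ fixQ Q b → (IsConj zb ((Φ q : cz zb) : _) ↔ IsConj z (q : G)) := by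
    intro q hq
    constructor
    · intro h
      obtain ⟨d, hd⟩ := isConj_iff.mp h
      obtain ⟨h0, rfl⟩ := QuotientGroup.mk'_surjective _ d
      refine isConj_iff.mpr ⟨h0, ?_⟩
      change π h0 * π ⟨z, hzH⟩ * (π h0)⁻¹ = π (ι q) at hd
      have hh0 : (h0 : G) * b = b * h0 := mem_centralizer_zpowers.mp h0.2
      have hmem := (hπ ((h0 * ⟨z, hzH⟩ * h0⁻¹)⁻¹ * ι q)).mp (by
        rw [map_mul, map_inv, map_mul, map_mul, map_inv, hd, inv_mul_cancel])
      set u := (h0 : G) * z * (h0 : G)⁻¹ with hu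
      have hu2 : u * u = 1 := by
        calc u * u = (h0 : G) * (z * z) * (h0 : G)⁻¹ := by rw [hu]; group
          _ = 1 := by rw [hA.sq_one, mul_one, mul_inv_cancel]
      have hub : u * b = b * u := (((show Commute (h0 : G) b from hh0).mul_left
          (show Commute z b from hbz.symm)).mul_left (show Commute (h0 : G) b from hh0).inv_left).eq
      have hmem' : u⁻¹ * (q : G) ∈ Subgroup.zpowers b := hmem
      -- `q` has order at most two modulo `⟨b⟩`, hence exactly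
      have hq2 : (q : G) * q = 1 := by
        rcases hA.sq_cases hq.1 with e1 | e1
        · exact e1
        · exfalso
          refine hA.ne_one (hQb hA.z_mem ?_)
          set a := u⁻¹ * (q : G) with had
          have hau : a * u = u * a := hbcomm hub hmem'
          have : z = a * a := by
            calc z = (q : G) * q := e1.symm
              _ = u * a * (u * a) := by rw [had, mul_inv_cancel_left]
              _ = u * (a * u) * a := by group
              _ = (u * u) * (a * a) := by rw [hau]; group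
              _ = a * a := by rw [hu2, one_mul]
          rw [this]
          exact mul_mem hmem' hmem'
      exact hinv hu2 hub hq2 (mem_fixQ.mp hq).2 hmem'
    · intro h
      obtain ⟨hqQ, hqb⟩ := mem_fixQ.mp hq
      by_cases hqz : (q : G) = z
      · rw [show q = ⟨z, hzM⟩ from Subtype.ext hqz]
        exact IsConj.refl zb
      obtain ⟨g, hgb, hgz⟩ := exists_conj_commute hw hS hl2 hb hbz hqQ hqb.symm h hqz
      refine isConj_iff.mpr ⟨π ⟨g, mem_centralizer_zpowers.mpr hgb⟩, ?_⟩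
      show _ = π (ι q)
      rw [hzb, ← map_inv, ← map_mul, ← map_mul]
      exact congrArg π (Subtype.ext hgz)
  refine ⟨zb, R, hRn, ⟨?_, hgfit, hEx.extra, hRcard, ?_⟩, ⟨e'⟩, ?_⟩
  · refine orderOf_eq_prime ?_ fun e1 => hz1 (Subtype.ext e1)
    rw [sq, hzb, ← map_mul, ← map_one π]
    exact congrArg π (Subtype.ext hA.sq_one)
  · obtain ⟨r, hr, hrc, hrz⟩ := hwc
    obtain ⟨g, hg⟩ := isConj_iff.mp ((hconj ⟨r, fixQ_le_czb hr⟩ hr).mpr hrc)
    refine ⟨g, ⟨hg ▸ (Φ ⟨r, fixQ_le_czb hr⟩).2, ?_⟩, fun e1 => hrz ?_⟩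
    · refine ⟨⟨r, fixQ_le_czb hr⟩, hr, Subtype.ext ?_⟩
      exact hg.symm
    · have : Φ ⟨r, fixQ_le_czb hr⟩ = Φ ⟨z, hzM⟩ := Subtype.ext (hg.symm.trans e1)
      exact congrArg Subtype.val (hinjQ _ _ hr.1 hA.z_mem this)
  · refine (Set.ncard_congr (fun r hr => Φ ⟨r, fixQ_le_czb hr.1⟩) ?_ ?_ ?_).symm
    · intro r hr
      exact ⟨⟨_, hr.1, rfl⟩, (hconj ⟨r, fixQ_le_czb hr.1⟩ hr.1).mpr hr.2⟩
    · intro r r' hr hr' h
      exact congrArg Subtype.val (hinjQ _ _ hr.1.1 hr'.1.1 h)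
    · rintro x ⟨⟨c, hc, rfl⟩, hcc⟩
      exact ⟨c, ⟨hc, (hconj c hc).mp hcc⟩, rfl⟩

end CfsgLib.MonsterType.Local
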