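import Mathlib
import Cfsg.Agent.Lib.MonsterType.Orbit
import Cfsg.Agent.Lib.Golay.LeechCount
import Cfsg.Agent.S1567

/-! The stabilizer of `(4, 4, 0²²)` has no non-trivial normal 2-subgroup; the hyperplane orthogonal to
that vector modulo two. -/

set_option autoImplicit false

namespace CfsgLib.MonsterType

open Cfsg

/-- Two integers with squares adding to 64: one of them vanishes. -/
theorem sq_add_sq_eq_64 {p q : ℤ} (h : p ^ 2 + q ^ 2 = 64) : p = 0 ∨ q = 0 := by
  have hp : -8 ≤ p ∧ p ≤ 8 := by constructor <;> nlinarith [sq_nonneg q]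
  have hq : -8 ≤ q ∧ q ≤ 8 := by constructor <;> nlinarith [sq_nonneg p]
  have key : ∀ a b : Fin 17, ((a : ℤ) - 8) ^ 2 + ((b : ℤ) - 8) ^ 2 = 64 → (a : ℤ) - 8 = 0 ∨ (b : ℤ) - 8 = 0 := by
    decide
  have := key ⟨(p + 8).toNat, by omega⟩ ⟨(q + 8).toNat, by omega⟩
  simp only [Int.toNat_of_nonneg (show 0 ≤ p + 8 by omega), Int.toNat_of_nonneg (show 0 ≤ q + 8 by omega),
    add_sub_cancel_right] at this
  exact this h

/-- An automorphism normalizing separating sign changes is monomial. -/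
theorem monomial_of_normalizes {γ : Co0} (T : golayCode → Prop)
    (hT : ∀ c, T c → ∃ d, γ⁻¹ * sgnW c * γ = sgnW d)
    (hT0 : ∀ c : golayCode, T c → c.1 none = 0 ∧ c.1 (some 0) = 0)
    (hsep1 : ∀ i, i ≠ none → i ≠ some 0 → ∃ c, T c ∧ c.1 i ≠ 0)
    (hsep2 : ∀ i k, i ≠ none → i ≠ some 0 → k ≠ none → k ≠ some 0 → i ≠ k → ∃ c, T c ∧ c.1 i ≠ c.1 k) :
    ∃ (c : golayCode) (σ : M24), γ = sgnW c * permW σ := by
  classical
  refine monomial fun j => ?_
  set y := ((γ • LeechEight.latE j : leechLattice) : GolayPt → ℤ) with hy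
  have hconst : ∀ c, T c → ∀ i k, y i ≠ 0 → y k ≠ 0 → c.1 i = c.1 k := by
    intro c hc i k hi hk
    obtain ⟨d, hd⟩ := hT c hc
    have e : sgnW c • γ • LeechEight.latE j = γ • sgnW d • LeechEight.latE j := by
      rw [← hd, mul_smul, mul_smul, smul_inv_smul]
    rw [sgnW_latE] at e
    have hp : ∀ p, y p ≠ 0 → c.1 p = d.1 j := by
      intro p hp
      have := congrArg (fun v : leechLattice => (v : GolayPt → ℤ) p) e
      simp only [sgnW_apply] at this
      rcases zmod2_cases (c.1 p) with ep | ep <;> rcases zmod2_cases (d.1 j) with ej | ej <;>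
        simp [ep, ej, smul_neg', ← hy] at this ⊢ <;> omega
    rw [hp i hi, hp k hk]
  have hn : sqNorm y = 64 := sqNorm_image_latE γ j
  by_cases hout : ∃ i, i ≠ none ∧ i ≠ some 0 ∧ y i ≠ 0
  · obtain ⟨i, hi1, hi2, hi⟩ := hout
    refine ⟨i, eq_sgn_latE (fun k hk => ?_) hn⟩
    by_contra hk0
    by_cases hk' : k = none ∨ k = some 0
    · obtain ⟨c, hc, hci⟩ := hsep1 i hi1 hi2
      refine hci ((hconst c hc i k hi hk0).trans ?_)
      rcases hk' with rfl | rfl
      exacts [(hT0 c hc).1, (hT0 c hc).2]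
    · push Not at hk'
      obtain ⟨c, hc, hcc⟩ := hsep2 i k hi1 hi2 hk'.1 hk'.2 (Ne.symm hk)
      exact hcc (hconst c hc i k hi hk0)
  · push Not at hout
    rw [sqNorm, ← Finset.sum_subset (Finset.subset_univ {(none : GolayPt), some 0})
      (fun i _ hi => by simp at hi; simp [hout i hi.1 hi.2]), Finset.sum_pair (by decide)] at hn
    rcases sq_add_sq_eq_64 hn with h | h
    · refine ⟨some 0, eq_sgn_latE (fun k hk => ?_) (sqNorm_image_latE γ j)⟩
      by_cases h1 : k = none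
      · rw [h1]; exact h
      · exact hout k h1 hk
    · refine ⟨none, eq_sgn_latE (fun k hk => ?_) (sqNorm_image_latE γ j)⟩
      by_cases h1 : k = some 0
      · rw [h1]; exact h
      · exact hout k hk h1

/-- The stabilizer of `(4, 4, 0²²)` has no non-trivial normal 2-subgroup. -/
theorem twoGroup_stabU_eq_bot (N : Subgroup Co0) (hfin : Finite N) (hp : IsPGroup 2 N)
    (hfix : ∀ n ∈ N, n • Spor.leechU = Spor.leechU)
    (hnorm : ∀ γ : Co0, γ • Spor.leechU = Spor.leechU → ∀ n ∈ N, γ * n * γ⁻¹ ∈ N) : N = ⊥ := by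
  classical
  by_contra hne
  haveI : Fact (Nat.Prime 2) := ⟨Nat.prime_two⟩
  -- the centre of `N`
  let M : Subgroup Co0 := (Subgroup.center N).map N.subtype
  have hM : ∀ x, x ∈ M ↔ x ∈ N ∧ ∀ n ∈ N, n * x = x * n := by
    intro x
    constructor
    · rintro ⟨c, hc, rfl⟩
      exact ⟨c.2, fun n hn => congrArg Subtype.val (Subgroup.mem_center_iff.mp hc ⟨n, hn⟩)⟩
    · rintro ⟨hx, hxc⟩
      exact ⟨⟨x, hx⟩, Subgroup.mem_center_iff.mpr fun n => Subtype.ext (hxc n n.2), rfl⟩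
  have hMN : M ≤ N := fun x hx => ((hM x).mp hx).1
  haveI : Nontrivial N := (Subgroup.nontrivial_iff_ne_bot N).mpr hne
  have hMne : M ≠ ⊥ := fun e => by
    haveI := hp.center_nontrivial
    exact ((Subgroup.nontrivial_iff_ne_bot _).mp this) ((Subgroup.map_eq_bot_iff_of_injective _ N.subtype_injective).mp e)
  have hMnorm : ∀ γ : Co0, γ • Spor.leechU = Spor.leechU → ∀ x ∈ M, γ * x * γ⁻¹ ∈ M := by
    intro γ hγ x hx
    obtain ⟨hxN, hxc⟩ := (hM x).mp hx
    refine (hM _).mpr ⟨hnorm γ hγ x hxN, fun n hn => ?_⟩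
    have hn' : γ⁻¹ * n * γ ∈ N := by simpa using hnorm γ⁻¹ (inv_smul_eq_iff.mpr hγ.symm) n hn
    have := hxc _ hn'
    calc n * (γ * x * γ⁻¹) = γ * (γ⁻¹ * n * γ * x) * γ⁻¹ := by group
      _ = γ * x * γ⁻¹ * n := by rw [this]; group
  haveI : Finite M := Finite.of_injective _ (Subgroup.inclusion_injective hMN)
  obtain ⟨hsep1, hsep2⟩ := exists_separating M inferInstance (hp.to_le hMN) hMne (fun n hn => hfix n (hMN hn)) hMnorm
  have hsgn : ∀ m ∈ M, ∃ d : golayCode, m = sgnW d := fun m hm => by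
    obtain ⟨d, -, hd⟩ := eq_sgn_of_separated (hfix m (hMN hm))
      (fun c => (c.1 none = 0 ∧ c.1 (some 0) = 0) ∧ sgnW c ∈ M)
      (fun c hc => (((hM _).mp hc.2).2 m (hMN hm))) (fun c hc => hc.1) hsep1 hsep2
    exact ⟨d, hd⟩
  -- hence the stabilizer is monomial, against its order
  have hmono : ∀ γ : MulAction.stabilizer Co0 Spor.leechU, ∃ p : golayCode × M24, (γ : Co0) = sgnW p.1 * permW p.2 := by
    intro γ
    obtain ⟨c, σ, h⟩ := monomial_of_normalizes (γ := (γ : Co0)) (fun c => (c.1 none = 0 ∧ c.1 (some 0) = 0) ∧ sgnW c ∈ M)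
      (fun c hc => hsgn _ (by
        simpa using hMnorm (γ : Co0)⁻¹ (inv_smul_eq_iff.mpr (γ.2 : (γ : Co0) • Spor.leechU = _).symm) _ hc.2))
      (fun c hc => hc.1) hsep1 hsep2
    exact ⟨(c, σ), h⟩
  choose f hf using hmono
  have hle := Nat.card_le_card_of_injective f fun a b e => Subtype.ext (by rw [hf a, hf b, e])
  rw [Nat.card_prod, CfsgLib.Golay.natCard_golayCode, CfsgLib.Golay.natCard_M24] at hle
  have h := CfsgLib.Golay.natCard_stabilizer_of_trans (v := Spor.leechU) (N := 32) (by decide +kernel)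
    (fun w hw => CfsgLib.Golay.exists_smul_eq_norm32 (by decide +kernel) hw)
  rw [CfsgLib.Golay.ncard_norm_32, CfsgLib.Golay.natCard_Co0] at h
  omega

variable {G : Type*} [Group G] [Finite G] {z : G} {Q : Subgroup (cz z)} [Q.Normal]
  {e : cz z ⧸ Q ≃* Spor.Co1} {ψ : leechLattice → Q ⧸ Subgroup.center Q}

/-- Orthogonality to `(4, 4, 0²²)` for the commutator form. -/
theorem bform_leechU_iff (hS : IsExtraspecialCentralizerSetting z Q 12) (hψ : IsLeechModTwoIso Q e ψ)
    (x : leechLattice) :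
    bform ψ Spor.leechU x = 1 ↔ (16 : ℤ) ∣ dotInt (x : GolayPt → ℤ) Spor.vecU := by
  obtain ⟨h32, h64, h48⟩ := qform_values orbitFacts hS hψ
  have hex : IsExtraspecial 2 Q := hS.2.2.1
  have hsp : commutator Q = Subgroup.center Q := hex.1.2.2
  have hc2 : Nat.card (Subgroup.center Q) = 2 := hex.2
  have hψ' := hψ
  obtain ⟨hadd, -, hker, -⟩ := hψ'
  have hdbl : ∀ w : leechLattice, ψ (w + w) = 1 := fun w => (hker _).mpr ⟨w, rfl⟩
  have hU : sqNorm (Spor.leechU : GolayPt → ℤ) = 32 := by decide +kernel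
  have hnegB : ∀ v w : leechLattice, bform ψ v (-w) = bform ψ v w := fun v w => by
    rw [bform_comm hsp hc2, bform_congr ψ (map_neg' ψ hadd hdbl w), bform_comm hsp hc2]
  have hB : ∀ w : leechLattice, qform ψ w = 1 → bform ψ Spor.leechU w = qform ψ (Spor.leechU + w) := by
    intro w hw
    rw [qform_add hsp hc2 ψ hadd hdbl, h32 _ hU, hw, one_mul, mul_one, bform_comm hsp hc2]
  -- the values on short vectors
  have hshort : ∀ w : leechLattice, sqNorm (w : GolayPt → ℤ) = 32 →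
      (8 : ℤ) ∣ dotInt (w : GolayPt → ℤ) Spor.vecU ∧
      (bform ψ Spor.leechU w = 1 ↔ (16 : ℤ) ∣ dotInt (w : GolayPt → ℤ) Spor.vecU) := by
    intro w hw
    set d := dotInt (w : GolayPt → ℤ) Spor.vecU with hd
    have hp : sqNorm ((Spor.leechU + w : leechLattice) : GolayPt → ℤ) = 64 + 2 * d := by
      rw [AddSubgroup.coe_add, CfsgLib.Golay.sqNorm_add_eq, hU, hw, hd, CfsgLib.Golay.dot_symm (w : GolayPt → ℤ)]
      rfl
    have hm : sqNorm ((Spor.leechU + -w : leechLattice) : GolayPt → ℤ) = 64 - 2 * d := by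
      rw [AddSubgroup.coe_add, CfsgLib.Golay.sqNorm_add_eq, hU, AddSubgroup.coe_neg, CfsgLib.Golay.sqNorm_neg, hw,
        CfsgLib.Golay.dot_neg_right, hd, CfsgLib.Golay.dot_symm (w : GolayPt → ℤ)]
      show (32 : ℤ) + 32 + 2 * -dotInt Spor.vecU (w : GolayPt → ℤ) = _
      ring
    have gap : ∀ v : leechLattice, sqNorm (v : GolayPt → ℤ) = 0 ∧ v = 0 ∨ 32 ≤ sqNorm (v : GolayPt → ℤ) := by
      intro v
      by_cases hv : v = 0
      · exact Or.inl ⟨by rw [hv]; simp [sqNorm], hv⟩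
      · exact Or.inr (min_norm v.2 (coe_ne_zero hv))
    have h16p := CfsgLib.Golay.sixteen_dvd_sqNorm (Spor.leechU + w).2
    rw [hp] at h16p
    have hself : bform ψ Spor.leechU Spor.leechU = 1 := bform_self ψ _
    refine ⟨by omega, ?_⟩
    rcases gap (Spor.leechU + w) with ⟨h0, hz⟩ | h0
    · have : w = -Spor.leechU := eq_neg_of_add_eq_zero_right hz
      rw [hp] at h0
      rw [this, hnegB, hself]
      exact iff_of_true rfl (by omega)
    rcases gap (Spor.leechU + -w) with ⟨h0', hz⟩ | h0'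
    · have : w = Spor.leechU := (add_neg_eq_zero.mp hz).symm
      rw [hm] at h0'
      rw [this, hself]
      exact iff_of_true rfl (by omega)
    rw [hp] at h0; rw [hm] at h0'
    have hcase : d = 0 ∨ d = 8 ∨ d = -8 ∨ d = 16 ∨ d = -16 := by omega
    rcases hcase with h | h | h | h | h
    · rw [hB w (h32 w hw), h64 _ (by omega)]
      exact iff_of_true rfl (by omega)
    · rw [← hnegB, hB _ (h32 (-w) (by rw [AddSubgroup.coe_neg, CfsgLib.Golay.sqNorm_neg]; exact hw))]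
      exact iff_of_false (h48 _ (by omega)) (by omega)
    · rw [hB w (h32 w hw)]
      exact iff_of_false (h48 _ (by omega)) (by omega)
    · rw [← hnegB, hB _ (h32 (-w) (by rw [AddSubgroup.coe_neg, CfsgLib.Golay.sqNorm_neg]; exact hw)), h32 _ (by omega)]
      exact iff_of_true rfl (by omega)
    · rw [hB w (h32 w hw), h32 _ (by omega)]
      exact iff_of_true rfl (by omega)
  -- linear extension
  suffices h : ∀ y : GolayPt → ℤ, ∀ hy : y ∈ AddSubgroup.closure
      {x : GolayPt → ℤ | x ∈ leechLattice ∧ sqNorm x = 32},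
      ∃ hy' : y ∈ leechLattice, (8 : ℤ) ∣ dotInt y Spor.vecU ∧
        (bform ψ Spor.leechU ⟨y, hy'⟩ = 1 ↔ (16 : ℤ) ∣ dotInt y Spor.vecU) by
    obtain ⟨_, -, h2⟩ := h x (by rw [Cfsg.Agent.S1567.result]; exact x.2)
    exact h2
  intro y hy
  have hzero : bform ψ Spor.leechU 0 = 1 := by rw [bform_comm hsp hc2, bform_zero ψ hadd]
  induction hy using AddSubgroup.closure_induction with
  | mem v hv => exact ⟨hv.1, hshort ⟨v, hv.1⟩ hv.2⟩
  | zero => exact ⟨zero_mem _, by simp [dotInt], iff_of_true hzero (by simp [dotInt])⟩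
  | add a b _ _ ha hb =>
    obtain ⟨ha', ha8, haB⟩ := ha
    obtain ⟨hb', hb8, hbB⟩ := hb
    refine ⟨add_mem ha' hb', ?_⟩
    rw [dotInt_add_left]
    refine ⟨dvd_add ha8 hb8, ?_⟩
    have hlin : bform ψ Spor.leechU ⟨a + b, add_mem ha' hb'⟩ =
        bform ψ Spor.leechU ⟨a, ha'⟩ * bform ψ Spor.leechU ⟨b, hb'⟩ := by
      rw [bform_comm hsp hc2, show (⟨a + b, add_mem ha' hb'⟩ : leechLattice) = ⟨a, ha'⟩ + ⟨b, hb'⟩ from rfl,
        bform_add hsp ψ hadd, bform_comm hsp hc2 ψ ⟨a, ha'⟩, bform_comm hsp hc2 ψ ⟨b, hb'⟩]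
    rw [hlin]
    by_cases e1 : bform ψ Spor.leechU ⟨a, ha'⟩ = 1 <;> by_cases e2 : bform ψ Spor.leechU ⟨b, hb'⟩ = 1
    · have := haB.mp e1; have := hbB.mp e2
      exact iff_of_true (by rw [e1, e2, mul_one]) (by omega)
    · have := haB.mp e1; have : ¬ (16 : ℤ) ∣ dotInt b Spor.vecU := fun h => e2 (hbB.mpr h)
      exact iff_of_false (by rwa [e1, one_mul]) (by omega)
    · have : ¬ (16 : ℤ) ∣ dotInt a Spor.vecU := fun h => e1 (haB.mpr h); have := hbB.mp e2
      exact iff_of_false (by rwa [e2, mul_one]) (by omega)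
    · have : ¬ (16 : ℤ) ∣ dotInt a Spor.vecU := fun h => e1 (haB.mpr h)
      have : ¬ (16 : ℤ) ∣ dotInt b Spor.vecU := fun h => e2 (hbB.mpr h)
      refine iff_of_true ?_ (by omega)
      have huniq : ∀ u v : Q, u ∈ Subgroup.center Q → v ∈ Subgroup.center Q → u ≠ 1 → v ≠ 1 → u = v := by
        intro u v hu hv hu1 hv1
        obtain ⟨c, -, hc⟩ := (Nat.card_eq_two_iff' (1 : Subgroup.center Q)).mp hc2
        have huc := hc ⟨u, hu⟩ (fun h => hu1 (congrArg Subtype.val h))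
        have hvc := hc ⟨v, hv⟩ (fun h => hv1 (congrArg Subtype.val h))
        exact congrArg Subtype.val (huc.trans hvc.symm)
      rw [huniq (bform ψ Spor.leechU ⟨a, ha'⟩) (bform ψ Spor.leechU ⟨b, hb'⟩) (comm_central hsp _ _) (comm_central hsp _ _) e1 e2]
      exact central_sq hc2 (comm_central hsp _ _)
  | neg a _ ha =>
    obtain ⟨ha', ha8, haB⟩ := ha
    refine ⟨neg_mem ha', ?_⟩
    rw [dotInt_neg_left]
    refine ⟨dvd_neg.mpr ha8, ?_⟩
    rw [dvd_neg, show (⟨-a, neg_mem ha'⟩ : leechLattice) = -⟨a, ha'⟩ from rfl, hnegB]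
    exact haB

end CfsgLib.MonsterType
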