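import Mathlib
import Cfsg.Agent.Lib.MonsterType.StabU

/-! The class of a non-central involution of `Q`, and an element moving `z` inside `Q` while fixing such an
involution. -/

set_option autoImplicit false

namespace CfsgLib.MonsterType

open Cfsg CfsgLib.LargeExtra
open scoped commutatorElement

/-- An element of an extraspecial group swapping `s` and `z s` and commuting with `t`. -/
theorem exists_swap_commuting {G : Type*} [Group G] {Q : Subgroup G} {z : G} (h : ExtraAt Q z) {s t y₀ : G}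
    (hs : s ∈ Q) (hy₀ : y₀ ∈ Q) (hys : y₀ * s * y₀⁻¹ = z * s) (ht : t ∈ Q)
    (ht' : t ≠ 1 ∧ t ≠ z ∧ t ≠ s⁻¹ ∧ t ≠ z * s⁻¹) :
    ∃ y ∈ Q, y * t = t * y ∧ y * s * y⁻¹ = z * s := by
  by_cases hyt : y₀ * t = t * y₀
  · exact ⟨y₀, hy₀, hyt, hys⟩
  obtain ⟨a, ha, has, hat⟩ : ∃ a ∈ Q, a * s = s * a ∧ a * t ≠ t * a := by
    by_contra hn
    push Not at hn
    rcases h.double_centralizer hs hy₀ hys ht hn with e | e | e | e
    exacts [ht'.1 e, ht'.2.1 e, ht'.2.2.1 e, ht'.2.2.2 e]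
  have e1 : a * t * a⁻¹ = z * t :=
    (h.conj_cases ha ht).resolve_left fun e => hat (mul_inv_eq_iff_eq_mul.mp e)
  have e2 : y₀ * t * y₀⁻¹ = z * t :=
    (h.conj_cases hy₀ ht).resolve_left fun e => hyt (mul_inv_eq_iff_eq_mul.mp e)
  refine ⟨y₀ * a, mul_mem hy₀ ha, mul_inv_eq_iff_eq_mul.mp ?_, ?_⟩
  · calc y₀ * a * t * (y₀ * a)⁻¹ = y₀ * (a * t * a⁻¹) * y₀⁻¹ := by group
      _ = (y₀ * z) * t * y₀⁻¹ := by rw [e1]; group
      _ = z * (y₀ * t * y₀⁻¹) := by rw [h.comm_z hy₀]; group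
      _ = t := by rw [e2, ← mul_assoc, h.sq_one, one_mul]
  · calc y₀ * a * s * (y₀ * a)⁻¹ = y₀ * (a * s * a⁻¹) * y₀⁻¹ := by group
      _ = z * s := by rw [mul_inv_eq_iff_eq_mul.mpr has, hys]

variable {G : Type*} [Group G] [Finite G] {z : G} {Q : Subgroup (cz z)} [Q.Normal]
  {e : cz z ⧸ Q ≃* Spor.Co1} {ψ : leechLattice → Q ⧸ Subgroup.center Q}

omit [Finite G] in
/-- The commutator form detects commuting. -/
theorem bform_eq_one_iff {v w : leechLattice} {a b : Q} (ha : ψ v = QuotientGroup.mk a)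
    (hb : ψ w = QuotientGroup.mk b) : bform ψ v w = 1 ↔ gval a * gval b = gval b * gval a := by
  rw [bform_eq ψ ha.symm hb.symm, commutatorElement_eq_one_iff_mul_comm]
  exact ⟨fun h => congrArg (fun t : Q => gval t) h, fun h => Subtype.ext (Subtype.ext h)⟩

/-- Short representatives give orthogonal classes. -/
theorem bform_eq_one_of_qform (hS : IsExtraspecialCentralizerSetting z Q 12) (hψ : IsLeechModTwoIso Q e ψ)
    {v w : leechLattice} (hv : qform ψ v = 1) (hw : qform ψ w = 1) (hvw : qform ψ (v + w) = 1) :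
    bform ψ w v = 1 := by
  have hex : IsExtraspecial 2 Q := hS.2.2.1
  have h := qform_add hex.1.2.2 hex.2 ψ hψ.1 (fun u => (hψ.2.2.1 _).mpr ⟨u, rfl⟩) v w
  rw [hvw, hv, hw, one_mul, mul_one] at h
  exact h.symm

omit [Finite G] in
/-- A class with a vector of squared length 32 is non-trivial. -/
theorem psi_ne_one_of_norm32 (hψ : IsLeechModTwoIso Q e ψ) {v : leechLattice}
    (hv : sqNorm (v : GolayPt → ℤ) = 32) : ψ v ≠ 1 := by
  intro h
  obtain ⟨u, hu⟩ := (hψ.2.2.1 v).mp h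
  have := sqNorm_double_ge hu (by omega)
  omega

/-- No conjugate of `z` lies over a vector of squared length 32. -/
theorem norm32_props (hS : IsExtraspecialCentralizerSetting z Q 12) (hψ : IsLeechModTwoIso Q e ψ)
    {v : leechLattice} (hv : sqNorm (v : GolayPt → ℤ) = 32) {x : Q} (hx : ψ v = QuotientGroup.mk x) :
    gval x ≠ 1 ∧ gval x ≠ z ∧ ¬ IsConj z (gval x) := by
  have hne : gval x ≠ 1 ∧ gval x ≠ z := by
    constructor <;> intro e1 <;> apply psi_ne_one_of_norm32 hψ hv <;> rw [hx, ← QuotientGroup.mk_one] <;>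
      refine (mk_center_iff hS x 1).mpr ?_
    · exact Or.inl e1
    · exact Or.inr (e1.trans (mul_one z).symm)
  refine ⟨hne.1, hne.2, fun hc => ?_⟩
  obtain ⟨g, hg⟩ := isConj_iff.mp hc
  obtain ⟨γ, hγ⟩ := orbitFacts.t32 Spor.leechU v (by decide +kernel) hv
  exact not_conj_of_leechU hS (le_refl 12) (iso_twist hψ γ) (x := x)
    (show ψ (γ • Spor.leechU) = _ by rw [hγ, hx]) hg hne.2

/-- A non-central involution of `Q` lies over a vector of squared length 32. -/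
theorem exists_norm32 (hS : IsExtraspecialCentralizerSetting z Q 12) (hψ : IsLeechModTwoIso Q e ψ) {a : Q}
    (ha2 : orderOf (gval a) = 2) (ha : ¬ IsConj z (gval a)) :
    ∃ v : leechLattice, sqNorm (v : GolayPt → ℤ) = 32 ∧ ψ v = QuotientGroup.mk a := by
  have ha1 : gval a ≠ 1 := fun h => by simp [h] at ha2
  have haz : gval a ≠ z := fun h => ha (by rw [h])
  obtain ⟨u, hu⟩ := hψ.2.1 (QuotientGroup.mk a)
  obtain ⟨v, huv, hv⟩ := orbitFacts.rep u
  rw [(psi_cong hψ).mp huv] at hu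
  rcases norm_cases v hv with e1 | e1 | e1 | e1
  · rw [e1] at hu; exact absurd hu (not_zero_class hS hψ ha1 haz)
  · exact ⟨v, e1, hu⟩
  · refine absurd ?_ ((qform_values orbitFacts hS hψ).2.2 v e1)
    rw [qform_eq hS.2.2.1.2 ψ hψ.1 (fun w => (hψ.2.2.1 _).mpr ⟨w, rfl⟩) hu.symm]
    refine Subtype.ext (Subtype.ext ?_)
    show gval a * gval a = 1
    rw [← sq, ← ha2, pow_orderOf_eq_one]
  · exact absurd ((isConj_iff_norm64 orbitFacts hS hψ a).mpr ⟨v, e1, hu⟩).1 ha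

/-- The code word used below: it meets the test octad in two points. -/
def cw : golayCode := ⟨qrWord 1, Submodule.subset_span (Or.inl ⟨1, rfl⟩)⟩

/-- Some element fixes a non-central involution of `Q` and moves `z` inside `Q`. -/
theorem exists_mover (hS : IsExtraspecialCentralizerSetting z Q 12) (hψ : IsLeechModTwoIso Q e ψ) :
    ∃ (t' : Q) (k : G), orderOf (gval t') = 2 ∧ ¬ IsConj z (gval t') ∧ k * gval t' = gval t' * k ∧
      k * z * k⁻¹ ∈ qm Q ∧ k * z * k⁻¹ ≠ z := by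
  have hex : IsExtraspecial 2 Q := hS.2.2.1
  obtain ⟨h32, h64, -⟩ := qform_values orbitFacts hS hψ
  obtain ⟨hA0, -, -⟩ := setting_extraAt hS
  let A : leechLattice := ⟨vecA, vecA_mem⟩
  let E : leechLattice := LeechEight.latE none
  let E2 : leechLattice := LeechEight.latE (some 2)
  have hA : sqNorm (A : GolayPt → ℤ) = 32 := by decide +kernel
  have hAn : sqNorm ((-A : leechLattice) : GolayPt → ℤ) = 32 := by decide +kernel
  have hE2A : sqNorm ((E2 + -A : leechLattice) : GolayPt → ℤ) = 64 := by decide +kernel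
  have hE : sqNorm (E : GolayPt → ℤ) = 64 := by decide +kernel
  have hE2 : sqNorm (E2 : GolayPt → ℤ) = 64 := by decide +kernel
  -- a conjugate `s` of `z` over `8 e_∞`
  obtain ⟨x, hx⟩ := QuotientGroup.mk_surjective (ψ E)
  obtain ⟨hxc, hxz⟩ := (isConj_iff_norm64 orbitFacts hS hψ x).mpr ⟨E, hE, hx.symm⟩
  obtain ⟨g, hg⟩ := isConj_iff.mp hxc
  have hp : PairAt (qm Q) z g := setting_pairAt hS (hg ▸ gval_mem x) (hg ▸ hxz)
  -- an element `a` over the octad vector commutes with `s`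
  obtain ⟨a, ha⟩ := QuotientGroup.mk_surjective (ψ (-A))
  have hEE2 : ψ E = ψ E2 := (psi_cong hψ).mp (latE_cong none (some 2))
  have has : gval a * gval x = gval x * gval a := by
    refine (bform_eq_one_iff ha.symm (hEE2 ▸ hx.symm : ψ E2 = _)).mp ?_
    exact bform_eq_one_of_qform hS hψ (h64 E2 hE2) (h32 _ hAn) (h64 _ hE2A)
  -- an element of `Q^g` over the sign change
  obtain ⟨-, hpre⟩ := preE_frame hS hψ hx.symm hg hxz
  have hcw : sgnW cw ∈ preE e g := hpre ▸ ⟨Multiplicative.ofAdd cw, rfl⟩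
  obtain ⟨_, ⟨c, ⟨hcW, -⟩, rfl⟩, hce⟩ := hcw
  have hce' : e (QuotientGroup.mk c) = QuotientGroup.mk (sgnW cw) := hce
  -- their commutator
  let v : leechLattice := sgnW cw • -A + A
  have hv : sqNorm (v : GolayPt → ℤ) = 32 := by decide +kernel
  let t' : Q := conjQ c a * a⁻¹
  have ht'v : ψ v = QuotientGroup.mk t' := by
    show ψ (sgnW cw • -A + A) = _
    rw [hψ.1, psi_smul hψ hce' ha.symm, QuotientGroup.mk_mul, QuotientGroup.mk_inv, ha]
    congr 1
    have h1 : ψ A * ψ (-A) = 1 := by rw [← hψ.1, add_neg_cancel, map_zero' ψ hψ.1]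
    exact eq_inv_of_mul_eq_one_left h1
  obtain ⟨ht1, htz, htc⟩ := norm32_props hS hψ hv ht'v
  have htg : gval t' = (c : G) * gval a * (c : G)⁻¹ * (gval a)⁻¹ := rfl
  have htW : gval t' ∈ (qm Q).map (MulAut.conj g).toMonoidHom := by
    have hac : gval a * (c : G)⁻¹ * (gval a)⁻¹ ∈ (qm Q).map (MulAut.conj g).toMonoidHom :=
      hp.W_normal (by rw [hg]; exact has) (inv_mem hcW)
    have := mul_mem hcW hac
    rw [htg]
    simpa [mul_assoc] using this
  have ht2 : gval t' * gval t' = 1 := by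
    rcases hA0.sq_cases (gval_mem t') with e1 | e1
    · exact e1
    rcases hp.W_sq_cases htW with e2 | e2
    · exact e2
    exact absurd (e2.symm.trans e1) hp.conj_ne
  have hti : (gval t')⁻¹ = gval t' := inv_eq_of_mul_eq_one_right ht2
  have hord : orderOf (gval t') = 2 := orderOf_eq_prime (by rw [sq]; exact ht2) ht1
  set s := g * z * g⁻¹ with hs
  have hsconj : IsConj z s := isConj_iff.mpr ⟨g, rfl⟩
  obtain ⟨y₀, hy₀, hys⟩ := hp.exists_swap
  rw [← hs] at hys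
  have htV : gval t' ≠ 1 ∧ gval t' ≠ z ∧ gval t' ≠ s ∧ gval t' ≠ z * s :=
    ⟨ht1, htz, fun e1 => htc (e1 ▸ hsconj),
      fun e1 => htc (e1 ▸ hsconj.trans (isConj_iff.mpr ⟨y₀, hys⟩))⟩
  obtain ⟨y, hy, hyt, hys'⟩ := exists_swap_commuting hA0 hp.conj_mem hy₀ hys (gval_mem t')
    ⟨htV.1, htV.2.1, by rw [hp.s_inv]; exact htV.2.2.1, by rw [hp.s_inv]; exact htV.2.2.2⟩
  -- the same in `Q^g`
  have hQ32 : 32 ≤ Nat.card ↥(qm Q) := by rw [card_qm, hS.2.2.2.1]; norm_num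
  have hzW := hp.z_mem_W hQ32
  have hzg : g⁻¹ * z * g ∈ qm Q := hp.mem_W.mp hzW
  have htg' : g⁻¹ * gval t' * g ∈ qm Q := hp.mem_W.mp htW
  set z₁ := g⁻¹ * z * g with hz₁
  have hz₁i : z₁⁻¹ = z₁ := by rw [hz₁, mul_inv_rev, mul_inv_rev, inv_inv, hA0.inv_eq, mul_assoc]
  have hz₁ne : z₁ ≠ 1 ∧ z₁ ≠ z := by
    constructor <;> intro e1
    · refine hA0.ne_one ?_
      calc z = g * z₁ * g⁻¹ := by rw [hz₁]; group
        _ = 1 := by rw [e1]; group
    · refine hp.conj_ne ?_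
      calc g * z * g⁻¹ = g * z₁ * g⁻¹ := by rw [e1]
        _ = z := by rw [hz₁]; group
  obtain ⟨u₀, hu₀, hu₀z⟩ := hA0.exists_conj_eq hzg hz₁ne.1 hz₁ne.2
  obtain ⟨u, hu, hut, huz⟩ := exists_swap_commuting hA0 hzg hu₀ hu₀z htg' (by
    refine ⟨fun e1 => htV.1 ?_, fun e1 => htV.2.2.1 ?_, fun e1 => htV.2.1 ?_, fun e1 => htV.2.2.2 ?_⟩
    · calc gval t' = g * (g⁻¹ * gval t' * g) * g⁻¹ := by group
        _ = 1 := by rw [e1]; group
    · calc gval t' = g * (g⁻¹ * gval t' * g) * g⁻¹ := by group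
        _ = s := by rw [e1]
    · calc gval t' = g * (g⁻¹ * gval t' * g) * g⁻¹ := by group
        _ = z := by rw [e1, hz₁i, hz₁]; group
    · calc gval t' = g * (g⁻¹ * gval t' * g) * g⁻¹ := by group
        _ = s * z := by rw [e1, hz₁i, hz₁, hs]; group
        _ = z * s := hA0.comm_z hp.conj_mem)
  refine ⟨t', y * (g * u * g⁻¹), hord, htc, ?_, ?_⟩
  · have h1 : g * u * g⁻¹ * gval t' = gval t' * (g * u * g⁻¹) := by
      calc g * u * g⁻¹ * gval t' = g * (u * (g⁻¹ * gval t' * g)) * g⁻¹ := by group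
        _ = g * ((g⁻¹ * gval t' * g) * u) * g⁻¹ := by rw [hut]
        _ = gval t' * (g * u * g⁻¹) := by group
    rw [mul_assoc, h1, ← mul_assoc, hyt, mul_assoc]
  · have h1 : g * u * g⁻¹ * z * (g * u * g⁻¹)⁻¹ = s * z := by
      calc g * u * g⁻¹ * z * (g * u * g⁻¹)⁻¹ = g * (u * z₁ * u⁻¹) * g⁻¹ := by rw [hz₁]; group
        _ = s * z := by rw [huz, hz₁, hs]; group
    have h2 : y * (g * u * g⁻¹) * z * (y * (g * u * g⁻¹))⁻¹ = s := by
      calc y * (g * u * g⁻¹) * z * (y * (g * u * g⁻¹))⁻¹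
          = y * (g * u * g⁻¹ * z * (g * u * g⁻¹)⁻¹) * y⁻¹ := by group
        _ = (y * s * y⁻¹) * (y * z * y⁻¹) := by rw [h1]; group
        _ = z * s * z := by rw [hys', mul_inv_eq_iff_eq_mul.mpr (hA0.comm_z hy)]
        _ = s := by rw [mul_assoc, hA0.comm_z hp.conj_mem, ← mul_assoc, hA0.sq_one, one_mul]
    rw [h2]
    exact ⟨hp.conj_mem, hp.conj_ne⟩

end CfsgLib.MonsterType
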