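import Mathlib
import Cfsg.Agent.Lib.MonsterType.Baby
import Cfsg.Agent.Lib.LargeExtra.Quot
import Cfsg.Agent.Lib.Components.FStar
import Cfsg.Agent.Lib.PCore.Basic

/-! The centralizer of a non-central involution of `Q`, modulo that involution. -/

set_option autoImplicit false

namespace CfsgLib.MonsterType

open Cfsg CfsgLib.LargeExtra

/-- `Co2` inside `Co0`. -/
def incl2 : ↥Spor.Co2 →* ↥Co0 := Subgroup.inclusion inf_le_left

theorem incl2_injective : Function.Injective incl2 := Subgroup.inclusion_injective _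

theorem incl2_smul_U (g : Spor.Co2) : incl2 g • Spor.leechU = Spor.leechU := g.2.2

theorem neg_one_smul (v : leechLattice) : sgnW ⟨1, one_mem_golay⟩ • v = -v := by
  apply Subtype.ext
  funext i
  rw [sgnW_apply]
  simp

theorem exists_incl2 {γ : Co0} (h : γ • Spor.leechU = Spor.leechU) : ∃ g : Spor.Co2, incl2 g = γ :=
  ⟨⟨(γ : Equiv.Perm leechLattice), γ.2, h⟩, rfl⟩

/-- An element of the second group is determined by its image in the first. -/
theorem incl2_mk_inj {g g' : Spor.Co2}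
    (h : (QuotientGroup.mk (incl2 g) : Spor.Co1) = QuotientGroup.mk (incl2 g')) : g = g' := by
  apply incl2_injective
  rcases center_cases (QuotientGroup.eq.mp h) with e1 | e1
  · exact inv_mul_eq_one.mp e1
  · exfalso
    have h2 : ((incl2 g)⁻¹ * incl2 g') • Spor.leechU = Spor.leechU := by
      rw [mul_smul, incl2_smul_U, inv_smul_eq_iff, incl2_smul_U]
    have e2 : (incl2 g)⁻¹ * incl2 g' = sgnW ⟨1, one_mem_golay⟩ := e1
    rw [e2, neg_one_smul] at h2
    have := congrArg (fun v : leechLattice => (v : GolayPt → ℤ) none) h2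
    simp [leechU_apply] at this

/-- The second group has no non-trivial normal 2-subgroup. -/
theorem pCore_Co2_eq_bot [Finite Spor.Co2] : pCore 2 Spor.Co2 = ⊥ := by
  haveI : Fact (Nat.Prime 2) := ⟨Nat.prime_two⟩
  haveI := pCore_normal' 2 Spor.Co2
  refine (Subgroup.map_eq_bot_iff_of_injective _ incl2_injective).mp
    (twoGroup_stabU_eq_bot _ ?_ ((CfsgLib.PCore.pCore_isPGroup).map _) ?_ ?_)
  · exact Finite.of_surjective (incl2.subgroupMap (pCore 2 Spor.Co2)) (incl2.subgroupMap_surjective _)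
  · rintro _ ⟨g, -, rfl⟩
    exact incl2_smul_U g
  · rintro γ hγ _ ⟨n, hn, rfl⟩
    obtain ⟨g, rfl⟩ := exists_incl2 hγ
    exact ⟨g * n * g⁻¹, Subgroup.Normal.conj_mem inferInstance n hn g, by simp⟩

variable {G : Type*} [Group G] [Finite G] {z : G} {Q : Subgroup (cz z)} [Q.Normal]
  {e : cz z ⧸ Q ≃* Spor.Co1} {ψ : leechLattice → Q ⧸ Subgroup.center Q}

/-- The common centralizer. -/
abbrev czt (z t : G) : Subgroup G := cz z ⊓ Subgroup.centralizer ({t} : Set G)

theorem exists_fixU (hS : IsExtraspecialCentralizerSetting z Q 12) (hψ : IsLeechModTwoIso Q e ψ) {t : Q}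
    (htU : ψ Spor.leechU = QuotientGroup.mk t) (c : czt z (gval t)) :
    ∃ g : Spor.Co2, e (QuotientGroup.mk (⟨c, c.2.1⟩ : cz z)) = QuotientGroup.mk (incl2 g) := by
  obtain ⟨γ, hγ⟩ := QuotientGroup.mk_surjective (e (QuotientGroup.mk (⟨c, c.2.1⟩ : cz z)))
  have hct : conjQ (⟨c, c.2.1⟩ : cz z) t = t := by
    refine Subtype.ext (Subtype.ext ?_)
    show (c : G) * gval t * (c : G)⁻¹ = gval t
    exact mul_inv_eq_iff_eq_mul.mpr (Subgroup.mem_centralizer_singleton_iff.mp c.2.2)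
  have h1 : Cong (γ • Spor.leechU) Spor.leechU := by
    rw [psi_cong hψ, psi_smul hψ hγ.symm htU, hct, htU]
  have hU : sqNorm (Spor.leechU : GolayPt → ℤ) = 32 := by decide +kernel
  have hn : sqNorm ((γ • Spor.leechU : leechLattice) : GolayPt → ℤ) = 32 := by
    rw [← hU]; exact γ.2.2 _
  rcases class32_unique h1 hn hU with e1 | e1
  · obtain ⟨g, hg⟩ := exists_incl2 e1
    exact ⟨g, by rw [hg, hγ]⟩
  · obtain ⟨g, hg⟩ := exists_incl2 (γ := sgnW ⟨1, one_mem_golay⟩ * γ) (by rw [mul_smul, e1, neg_one_smul, neg_neg])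
    refine ⟨g, ?_⟩
    rw [hg, QuotientGroup.mk_mul, (QuotientGroup.eq_one_iff _).mpr neg_mem_center, one_mul, hγ]

/-- The action of the common centralizer on the lattice, fixing `(4, 4, 0²²)`. -/
noncomputable def toCo2 (hS : IsExtraspecialCentralizerSetting z Q 12) (hψ : IsLeechModTwoIso Q e ψ) {t : Q}
    (htU : ψ Spor.leechU = QuotientGroup.mk t) : czt z (gval t) →* Spor.Co2 :=
  MonoidHom.mk' (fun c => (exists_fixU hS hψ htU c).choose) fun c d => by
    refine incl2_mk_inj ?_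
    rw [← (exists_fixU hS hψ htU (c * d)).choose_spec, map_mul incl2, QuotientGroup.mk_mul,
      ← (exists_fixU hS hψ htU c).choose_spec, ← (exists_fixU hS hψ htU d).choose_spec, ← map_mul]
    rfl

variable (hS : IsExtraspecialCentralizerSetting z Q 12) (hψ : IsLeechModTwoIso Q e ψ) {t : Q}
  (htU : ψ Spor.leechU = QuotientGroup.mk t)

theorem toCo2_spec (c : czt z (gval t)) :
    e (QuotientGroup.mk (⟨c, c.2.1⟩ : cz z)) = QuotientGroup.mk (incl2 (toCo2 hS hψ htU c)) :=
  (exists_fixU hS hψ htU c).choose_spec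

theorem toCo2_ker (c : czt z (gval t)) : toCo2 hS hψ htU c = 1 ↔ (c : G) ∈ qm Q := by
  constructor
  · intro h
    have := toCo2_spec hS hψ htU c
    rw [h, map_one, QuotientGroup.mk_one, MulEquiv.map_eq_one_iff, QuotientGroup.eq_one_iff] at this
    exact coe_mem_qm.mpr this
  · intro h
    refine incl2_mk_inj ?_
    rw [← toCo2_spec hS hψ htU c, map_one, QuotientGroup.mk_one, MulEquiv.map_eq_one_iff, QuotientGroup.eq_one_iff]
    exact coe_mem_qm.mp h

theorem toCo2_surjective (ht1 : gval t ≠ 1) (htz : gval t ≠ z) :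
    Function.Surjective (toCo2 hS hψ htU) := by
  intro g
  obtain ⟨c, hc⟩ := exists_lift_Co0 e (incl2 g)
  obtain ⟨h, -, -⟩ := setting_extraAt hS
  have h1 := psi_smul hψ hc htU
  rw [incl2_smul_U, htU, mk_center_iff hS] at h1
  have hcz : (c : G) * z = z * c := Subgroup.mem_centralizer_singleton_iff.mp c.2
  have hmem : (QuotientGroup.mk c : cz z ⧸ Q) ∈ imgX Q (gval t) := by
    rw [mk_mem_imgX hS (gval_mem t) ht1 htz]
    rcases h1 with e1 | e1
    · exact Or.inl e1.symm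
    · right
      have e2 : gval (conjQ c t) = z * gval t := by rw [e1, ← mul_assoc, h.sq_one, one_mul]
      exact e2
  obtain ⟨d, hd, hde⟩ := hmem
  refine ⟨⟨d, d.2, hd.2⟩, incl2_mk_inj ?_⟩
  rw [← toCo2_spec hS hψ htU, ← hc]
  exact congrArg e hde

include hS hψ htU in
/-- The centralizer of `t` modulo `t`. -/
theorem isOfBabyMonsterType (ht2 : orderOf (gval t) = 2) (htc : ¬ IsConj z (gval t))
    [hn : ((Subgroup.zpowers (gval t)).subgroupOf (Subgroup.centralizer ({gval t} : Set G))).Normal] :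
    IsOfBabyMonsterType (↥(Subgroup.centralizer ({gval t} : Set G)) ⧸
      (Subgroup.zpowers (gval t)).subgroupOf (Subgroup.centralizer ({gval t} : Set G))) := by
  classical
  haveI : Fact (Nat.Prime 2) := ⟨Nat.prime_two⟩
  obtain ⟨hA, hself, -⟩ := setting_extraAt hS
  set τ := gval t with hτ
  have hτQ : τ ∈ qm Q := gval_mem t
  have hττ : τ * τ = 1 := by rw [← sq, ← ht2]; exact pow_orderOf_eq_one τ
  have hτ1 : τ ≠ 1 := fun e1 => by simp [e1] at ht2
  have hτz : τ ≠ z := fun e1 => htc (by rw [e1])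
  have hτzc : τ * z = z * τ := hA.comm_z hτQ
  obtain ⟨q₀, hq₀, hq₀τ⟩ := hA.exists_conj_eq hτQ hτ1 hτz
  have hnzt : ¬ IsConj z (z * τ) := fun hc => htc (hc.trans (isConj_iff.mpr ⟨q₀, hq₀τ⟩).symm)
  have hmt : ∀ {x : G}, x ∈ Subgroup.zpowers τ ↔ x = 1 ∨ x = τ := by
    intro x
    constructor
    · intro hx
      obtain ⟨n, rfl⟩ := Subgroup.mem_zpowers_iff.mp hx
      rw [← zpow_mod_orderOf, ht2]
      rcases Int.emod_two_eq_zero_or_one n with e1 | e1 <;> norm_num [e1]
    · rintro (rfl | rfl)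
      exacts [one_mem _, Subgroup.mem_zpowers _]
  let π : ↥(Subgroup.centralizer ({τ} : Set G)) →* ↥(Subgroup.centralizer ({τ} : Set G)) ⧸
      (Subgroup.zpowers τ).subgroupOf (Subgroup.centralizer ({τ} : Set G)) :=
    QuotientGroup.mk' ((Subgroup.zpowers τ).subgroupOf (Subgroup.centralizer ({τ} : Set G)))
  have hπ : ∀ x y : ↥(Subgroup.centralizer ({τ} : Set G)), π x = π y ↔ (y : G) = x ∨ (y : G) = x * τ := by
    intro x y
    show (QuotientGroup.mk x : _ ⧸ (Subgroup.zpowers τ).subgroupOf _) = QuotientGroup.mk y ↔ _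
    rw [QuotientGroup.eq, Subgroup.mem_subgroupOf, hmt]
    simp only [Subgroup.coe_mul, Subgroup.coe_inv, inv_mul_eq_iff_eq_mul, mul_one]
  have hzt : z ∈ Subgroup.centralizer ({τ} : Set G) := Subgroup.mem_centralizer_singleton_iff.mpr hτzc.symm
  set zb := π ⟨z, hzt⟩ with hzb
  set D := Subgroup.centralizer ({zb} : Set (↥(Subgroup.centralizer ({τ} : Set G)) ⧸
      (Subgroup.zpowers τ).subgroupOf (Subgroup.centralizer ({τ} : Set G)))) with hD
  let ι : czt z τ →* ↥(Subgroup.centralizer ({τ} : Set G)) := Subgroup.inclusion inf_le_right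
  let Φ : czt z τ →* D := (π.comp ι).codRestrict D fun c => by
    refine Subgroup.mem_centralizer_singleton_iff.mpr ?_
    show π (ι c) * π ⟨z, hzt⟩ = π ⟨z, hzt⟩ * π (ι c)
    rw [← map_mul, ← map_mul]
    exact congrArg π (Subtype.ext (Subgroup.mem_centralizer_singleton_iff.mp c.2.1))
  have hΦeq : ∀ x y : czt z τ, Φ x = Φ y ↔ (y : G) = x ∨ (y : G) = x * τ := fun x y =>
    ⟨fun h => (hπ (ι x) (ι y)).mp (congrArg Subtype.val h), fun h => Subtype.ext ((hπ (ι x) (ι y)).mpr h)⟩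
  have hΦs : Function.Surjective Φ := by
    rintro ⟨d, hd⟩
    obtain ⟨c, rfl⟩ := QuotientGroup.mk'_surjective _ d
    have hc := Subgroup.mem_centralizer_singleton_iff.mp hd
    change π c * π ⟨z, hzt⟩ = π ⟨z, hzt⟩ * π c at hc
    rw [← map_mul, ← map_mul] at hc
    rcases (hπ _ _).mp hc with h | h <;> simp only [Subgroup.coe_mul] at h
    · exact ⟨⟨c, Subgroup.mem_centralizer_singleton_iff.mpr h.symm, c.2⟩, rfl⟩
    · exfalso
      have hct : (c : G) * τ = τ * c := Subgroup.mem_centralizer_singleton_iff.mp c.2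
      refine hnzt (isConj_iff.mpr ⟨c, ?_⟩)
      have h2 : (c : G) * z = z * c * τ := by rw [h, mul_assoc, hττ, mul_one]
      rw [h2, mul_assoc z, hct]; group
  -- the subgroup of order 2^23
  let P : Subgroup (czt z τ) := (qm Q).subgroupOf (czt z τ)
  haveI hPn : P.Normal := ⟨fun p hp c => by
    obtain ⟨hpc, hpQ⟩ := mem_qm.mp (show (p : G) ∈ qm Q from hp)
    exact mem_qm.mpr ⟨(c * p * c⁻¹ : czt z τ).2.1,
      (inferInstance : Q.Normal).conj_mem ⟨p, hpc⟩ hpQ ⟨c, c.2.1⟩⟩⟩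
  set R : Subgroup D := P.map Φ with hR
  haveI hRn : R.Normal := hPn.map Φ hΦs
  have hzz : z ∈ czt z τ := ⟨qm_le hA.z_mem, hzt⟩
  set zd : D := Φ ⟨z, hzz⟩ with hzd
  have hz1 : zd ≠ 1 := by
    rw [← map_one Φ]
    intro e1
    rcases (hΦeq _ _).mp e1 with h | h <;> simp only [Subgroup.coe_one] at h
    · exact hA.ne_one h.symm
    · refine hτz ?_
      rw [eq_comm, mul_eq_one_iff_inv_eq, hA.inv_eq] at h
      exact h.symm
  have hPQ : Nat.card P = 2 ^ 24 := by
    have h2 := ExtraAt.two_mul_card_centralizer hA hτQ hτ1 hτz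
    rw [card_qm, hS.2.2.2.1] at h2
    have he : Nat.card P = Nat.card ↥(qm Q ⊓ Subgroup.centralizer ({τ} : Set G)) :=
      Nat.card_congr ⟨fun p => ⟨p.1.1, p.2, p.1.2.2⟩, fun p => ⟨⟨p.1, qm_le p.2.1, p.2.2⟩, p.2.1⟩,
        fun p => rfl, fun p => rfl⟩
    omega
  have hna : ∃ a b : czt z τ, (a : G) ∈ qm Q ∧ (b : G) ∈ qm Q ∧ Φ (a * b) ≠ Φ (b * a) := by
    have hnc : ¬ ∀ a b : G, a ∈ qm Q ⊓ Subgroup.centralizer ({τ} : Set G) →
        b ∈ qm Q ⊓ Subgroup.centralizer ({τ} : Set G) → a * b = b * a := by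
      intro hc
      set A := qm Q ⊓ Subgroup.centralizer ({τ} : Set G) with hAdef
      have hb := CfsgLib.PGroup.extraspecial_abelian_card hA.extra (A.subgroupOf (qm Q))
        ⟨⟨fun a b => Subtype.ext (Subtype.ext (hc _ _ a.2 b.2))⟩⟩
      rw [Nat.card_congr (Subgroup.subgroupOfEquivOfLe (inf_le_left : A ≤ qm Q)).toEquiv] at hb
      have h2 := ExtraAt.two_mul_card_centralizer hA hτQ hτ1 hτz
      rw [card_qm, hS.2.2.2.1] at h2 hb
      have hA24 : Nat.card ↥A = 2 ^ 24 := by rw [hAdef]; omega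
      rw [hA24] at hb
      norm_num at hb
    push Not at hnc
    obtain ⟨a, b, ha, hb, hab⟩ := hnc
    refine ⟨⟨a, qm_le ha.1, ha.2⟩, ⟨b, qm_le hb.1, hb.2⟩, ha.1, hb.1, fun e1 => ?_⟩
    rcases (hΦeq _ _).mp e1 with h | h <;> simp only [Subgroup.coe_mul] at h
    · exact hab h.symm
    · rcases hA.conj_cases ha.1 hb.1 with e2 | e2
      · exact hab (mul_inv_eq_iff_eq_mul.mp e2)
      · rw [mul_inv_eq_iff_eq_mul.mp e2] at h
        have h3 : z * (b * a * τ) = b * a := by
          calc z * (b * a * τ) = z * b * a * τ := by group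
            _ = b * a := h.symm
        rw [← mul_assoc z, ← hA.comm_z (mul_mem hb.1 ha.1), mul_assoc (b * a)] at h3
        have h4 : z * τ = 1 := mul_eq_left.mp h3
        exact hτz ((mul_eq_one_iff_inv_eq.mp h4).symm.trans hA.inv_eq)
  have hEx : ExtraAt R zd := by
    refine extraAt_image hA (czt z τ) Φ (le_refl (qm Q)) hzz hz1 (fun x hx hc => ?_) hna
    have hcomm : ∀ a ∈ qm Q, a * τ = τ * a → a * (x : G) = (x : G) * a := by
      intro a ha haτ
      rcases (hΦeq _ _).mp (hc ⟨a, qm_le ha, Subgroup.mem_centralizer_singleton_iff.mpr haτ⟩ ha) with h | h <;>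
        simp only [Subgroup.coe_mul] at h
      · exact h.symm
      · exfalso
        rcases hA.conj_cases hx ha with e1 | e1
        · rw [mul_inv_eq_iff_eq_mul.mp e1] at h
          exact hτ1 (mul_eq_left.mp h.symm)
        · rw [mul_inv_eq_iff_eq_mul.mp e1] at h
          have h3 : z * (a * (x : G)) = a * (x : G) * τ := by rw [← mul_assoc]; exact h
          rw [← hA.comm_z (mul_mem ha hx)] at h3
          exact hτz (mul_left_cancel h3).symm
    have hti : τ⁻¹ = τ := inv_eq_of_mul_eq_one_right hττ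
    rcases hA.double_centralizer hτQ hq₀ hq₀τ hx hcomm with e1 | e1 | e1 | e1
    · exact Or.inl (by rw [show x = 1 from Subtype.ext e1, map_one])
    · exact Or.inr (congrArg Φ (Subtype.ext e1))
    · refine Or.inl ?_
      rw [← map_one Φ]
      exact (hΦeq _ _).mpr (Or.inr (by rw [e1, hti, Subgroup.coe_one, hττ]))
    · refine Or.inr ((hΦeq _ _).mpr (Or.inr ?_))
      rw [e1, hti, mul_assoc, hττ, mul_one]
  have hRcard : Nat.card R = 2 ^ 23 := by
    have hk : Nat.card (Φ.comp P.subtype).ker = 2 := by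
      rw [← ht2, ← Nat.card_zpowers]
      refine Nat.card_congr ⟨fun x => ⟨((x.1 : czt z τ) : G), ?_⟩,
        fun x => ⟨⟨⟨x, ?_, ?_⟩, ?_⟩, ?_⟩, fun x => rfl, fun x => rfl⟩
      · have := (hΦeq 1 x.1).mp ((show Φ x.1 = 1 from x.2).trans (map_one Φ).symm).symm
        simp only [Subgroup.coe_one, one_mul] at this
        exact hmt.mpr this
      · exact Subgroup.zpowers_le.mpr (qm_le hτQ) x.2
      · exact Subgroup.zpowers_le.mpr (Subgroup.mem_centralizer_singleton_iff.mpr rfl) x.2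
      · exact Subgroup.zpowers_le.mpr hτQ x.2
      · show Φ _ = 1
        rw [← map_one Φ]
        refine (hΦeq _ _).mpr ?_
        rcases hmt.mp x.2 with e1 | e1
        · exact Or.inl (by simp [e1])
        · exact Or.inr (by simp [e1, hττ])
    have hc := Subgroup.card_mul_index (Φ.comp P.subtype).ker
    rw [Subgroup.index_ker, hk, hPQ, MonoidHom.range_comp, Subgroup.range_subtype, ← hR] at hc
    omega
  -- the action on the lattice
  have hker : Φ.ker ≤ (toCo2 hS hψ htU).ker := by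
    intro c hc
    rw [MonoidHom.mem_ker, toCo2_ker]
    have := (hΦeq 1 c).mp ((MonoidHom.mem_ker.mp hc).trans (map_one Φ).symm).symm
    simp only [Subgroup.coe_one, one_mul] at this
    rcases this with e1 | e1 <;> rw [e1]
    exacts [one_mem _, hτQ]
  let f : D →* Spor.Co2 := Φ.liftOfSurjective hΦs ⟨toCo2 hS hψ htU, hker⟩
  have hf : ∀ c, f (Φ c) = toCo2 hS hψ htU c := fun c => Φ.liftOfRightInverse_comp_apply _ _ _ c
  have hfs : Function.Surjective f := fun g => by
    obtain ⟨c, hc⟩ := toCo2_surjective hS hψ htU hτ1 hτz g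
    exact ⟨Φ c, (hf c).trans hc⟩
  have hfk : R = f.ker := by
    ext d
    obtain ⟨c, rfl⟩ := hΦs d
    rw [MonoidHom.mem_ker, hf, toCo2_ker]
    constructor
    · rintro ⟨p, hp, hpc⟩
      rcases (hΦeq _ _).mp hpc with e1 | e1 <;> rw [e1]
      exacts [hp, mul_mem hp hτQ]
    · intro h
      exact ⟨c, h, rfl⟩
  let e' : D ⧸ R ≃* Spor.Co2 :=
    (QuotientGroup.quotientMulEquivOfEq hfk).trans (QuotientGroup.quotientKerEquivOfSurjective f hfs)
  have he' : ∀ c, e' (QuotientGroup.mk (Φ c)) = toCo2 hS hψ htU c := fun c => hf c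
  -- the generalized Fitting subgroup
  haveI : Finite Spor.Co2 := Finite.of_equiv _ e'.toEquiv
  have hbot : pCore 2 (D ⧸ R) = ⊥ := CfsgLib.PCore.pCore_eq_bot_of_equiv e'.symm pCore_Co2_eq_bot
  have hRp : IsPGroup 2 R := hEx.extra.1.1
  have hcore : pCore 2 D = R := by
    refine le_antisymm ?_ (CfsgLib.PCore.le_pCore hRn hRp)
    have h1 := CfsgLib.PCore.map_pCore_le (p := 2) (QuotientGroup.mk' R) (QuotientGroup.mk'_surjective R)
    rw [hbot, le_bot_iff, Subgroup.map_eq_bot_iff, QuotientGroup.ker_mk'] at h1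
    exact h1
  have hpow8 : ∀ c : czt z τ, (∀ p : czt z τ, (p : G) ∈ qm Q → Φ (c * p) = Φ (p * c)) →
      ((c ^ 8 : czt z τ) : G) ∈ qm Q := by
    intro c hc
    have hcτ : (c : G) * τ = τ * c := Subgroup.mem_centralizer_singleton_iff.mp c.2.2
    have hcz : (c : G) * z = z * c := Subgroup.mem_centralizer_singleton_iff.mp c.2.1
    have hP2 : ∀ p, p ∈ qm Q → p * τ = τ * p → (c : G) * c * p = p * ((c : G) * c) := by
      intro p hp hpτ
      rcases (hΦeq _ _).mp (hc ⟨p, qm_le hp, Subgroup.mem_centralizer_singleton_iff.mpr hpτ⟩ hp) with h | h <;>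
        simp only [Subgroup.coe_mul] at h
      · calc (c : G) * c * p = (c : G) * (c * p) := mul_assoc _ _ _
          _ = (c : G) * (p * c) := by rw [h]
          _ = (c : G) * p * c := by group
          _ = p * c * c := by rw [h]
          _ = p * ((c : G) * c) := mul_assoc _ _ _
      · have h2 : (c : G) * p = p * τ * c := by
          calc (c : G) * p = (c : G) * p * (τ * τ) := by rw [hττ, mul_one]
            _ = p * c * τ := by rw [← mul_assoc, ← h]
            _ = p * τ * c := by rw [mul_assoc, hcτ, mul_assoc]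
        calc (c : G) * c * p = (c : G) * (c * p) := mul_assoc _ _ _
          _ = (c : G) * (p * τ * c) := by rw [h2]
          _ = (c : G) * p * (τ * c) := by group
          _ = p * τ * c * (τ * c) := by rw [h2]
          _ = p * τ * (c * τ) * c := by group
          _ = p * (τ * τ) * ((c : G) * c) := by rw [hcτ]; group
          _ = p * ((c : G) * c) := by rw [hττ, mul_one]
    set d := (c : G) * c with hd
    have hdz : d * z = z * d := by rw [hd, mul_assoc, hcz, ← mul_assoc, hcz, mul_assoc]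
    have hdτ : d * τ = τ * d := by rw [hd, mul_assoc, hcτ, ← mul_assoc, hcτ, mul_assoc]
    set w := q₀⁻¹ * (d * q₀ * d⁻¹) with hw
    have hdQ : d * q₀ * d⁻¹ ∈ qm Q := by
      obtain ⟨hqc, hqQ⟩ := mem_qm.mp hq₀
      have hdc : d ∈ cz z := Subgroup.mem_centralizer_singleton_iff.mpr hdz
      exact mem_qm.mpr ⟨mul_mem (mul_mem hdc hqc) (inv_mem hdc),
        (inferInstance : Q.Normal).conj_mem ⟨q₀, hqc⟩ hqQ ⟨d, hdc⟩⟩
    have hwQ : w ∈ qm Q := mul_mem (inv_mem hq₀) hdQ
    have hwτ : w * τ = τ * w := by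
      have h1 : d * q₀ * d⁻¹ * τ * (d * q₀ * d⁻¹)⁻¹ = z * τ := by
        calc d * q₀ * d⁻¹ * τ * (d * q₀ * d⁻¹)⁻¹ = d * q₀ * (d⁻¹ * τ * d) * q₀⁻¹ * d⁻¹ := by group
          _ = d * (q₀ * τ * q₀⁻¹) * d⁻¹ := by rw [mul_assoc d⁻¹, ← hdτ]; group
          _ = (d * z) * τ * d⁻¹ := by rw [hq₀τ]; group
          _ = z * (d * τ * d⁻¹) := by rw [hdz]; group
          _ = z * τ := by rw [mul_inv_eq_iff_eq_mul.mpr hdτ]
      refine mul_inv_eq_iff_eq_mul.mp ?_
      calc w * τ * w⁻¹ = q₀⁻¹ * (d * q₀ * d⁻¹ * τ * (d * q₀ * d⁻¹)⁻¹) * q₀ := by rw [hw]; group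
        _ = q₀⁻¹ * (q₀ * τ * q₀⁻¹) * q₀ := by rw [h1, hq₀τ]
        _ = τ := by group
    have hdw : d * w = w * d := hP2 w hwQ hwτ
    have hdq : d * q₀ = q₀ * w * d := by rw [hw]; group
    have hd2 : d * d * q₀ = q₀ * (w * w) * (d * d) := by
      calc d * d * q₀ = d * (d * q₀) := mul_assoc _ _ _
        _ = d * (q₀ * w * d) := by rw [hdq]
        _ = d * q₀ * (w * d) := by group
        _ = q₀ * w * d * (w * d) := by rw [hdq]
        _ = q₀ * w * (d * w) * d := by group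
        _ = q₀ * (w * w) * (d * d) := by rw [hdw]; group
    have hd2ww : d * d * (w * w) = w * w * (d * d) := by
      have h1 : Commute d w := hdw
      exact ((h1.mul_left h1).mul_right (h1.mul_left h1)).eq
    have hd4 : d * d * (d * d) * q₀ = q₀ * (d * d * (d * d)) := by
      have hw4 : w * w * (w * w) = 1 := by
        rcases hA.sq_cases hwQ with e1 | e1 <;> rw [e1]
        exacts [one_mul 1, hA.sq_one]
      calc d * d * (d * d) * q₀ = d * d * (d * d * q₀) := mul_assoc _ _ _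
        _ = d * d * (q₀ * (w * w) * (d * d)) := by rw [hd2]
        _ = d * d * q₀ * (w * w * (d * d)) := by group
        _ = q₀ * (w * w) * (d * d) * (w * w * (d * d)) := by rw [hd2]
        _ = q₀ * (w * w) * (d * d * (w * w)) * (d * d) := by group
        _ = q₀ * (w * w * (w * w)) * (d * d * (d * d)) := by rw [hd2ww]; group
        _ = q₀ * (d * d * (d * d)) := by rw [hw4, mul_one]
    have hc8 : ((c ^ 8 : czt z τ) : G) = d * d * (d * d) := by
      rw [hd, Subgroup.coe_pow]; simp only [pow_succ, pow_zero, one_mul, mul_assoc]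
    have hcent : d * d * (d * d) ∈ Subgroup.centralizer (qm Q : Set G) := by
      rw [Subgroup.mem_centralizer_iff]
      intro q hq
      have hP4 : ∀ p, p ∈ qm Q → p * τ = τ * p → d * d * (d * d) * p = p * (d * d * (d * d)) := fun p hp hpτ => by
        have h1 : Commute d p := hP2 p hp hpτ
        exact ((h1.mul_left h1).mul_left (h1.mul_left h1)).eq
      rcases hA.split_conj hτQ hq₀ hq₀τ hq with e1 | e1
      · exact (hP4 q hq e1).symm
      · have h2 := hP4 _ (mul_mem (inv_mem hq₀) hq) e1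
        calc q * (d * d * (d * d)) = q₀ * (q₀⁻¹ * q * (d * d * (d * d))) := by group
          _ = (q₀ * (d * d * (d * d))) * (q₀⁻¹ * q) := by rw [← h2]; group
          _ = d * d * (d * d) * q := by rw [← hd4]; group
    rw [hself] at hcent
    obtain ⟨x, -, hx⟩ := hcent
    rw [hc8, ← hx]
    exact x.2
  have hcent : Subgroup.centralizer (R : Set D) ≤ R := by
    have hpg : IsPGroup 2 ((Subgroup.centralizer (R : Set D)).map (QuotientGroup.mk' R)) := by
      rintro ⟨_, a, ha, rfl⟩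
      refine ⟨3, Subtype.ext ?_⟩
      obtain ⟨c, rfl⟩ := hΦs a
      rw [Subgroup.coe_pow, Subgroup.coe_one, ← map_pow, ← map_pow]
      refine (QuotientGroup.eq_one_iff _).mpr ⟨c ^ 8, hpow8 c (fun p hp => ?_), by norm_num⟩
      rw [map_mul, map_mul]
      exact (Subgroup.mem_centralizer_iff.mp ha _ ⟨p, hp, rfl⟩).symm
    have hnn : ((Subgroup.centralizer (R : Set D)).map (QuotientGroup.mk' R)).Normal :=
      Subgroup.Normal.map inferInstance _ (QuotientGroup.mk'_surjective R)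
    have h1 := CfsgLib.PCore.le_pCore hnn hpg
    rw [hbot, le_bot_iff, Subgroup.map_eq_bot_iff, QuotientGroup.ker_mk'] at h1
    exact h1
  have hgfit : generalizedFittingSubgroup D = R := by
    rw [CfsgLib.Components.generalizedFitting_eq_pCore_of_centralizer_le 2 (by rw [hcore]; exact hcent), hcore]
  -- elements of `R` modulo its centre
  have hmkR : ∀ r r' : R, (QuotientGroup.mk r : R ⧸ Subgroup.center R) = QuotientGroup.mk r' ↔
      (r' : D) = r ∨ (r' : D) = r * zd := by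
    intro r r'
    rw [QuotientGroup.eq, ← Subgroup.mem_map_iff_mem R.subtype_injective, hEx.centre, hEx.mem_zpowers_z]
    simp only [Subgroup.coe_subtype, Subgroup.coe_mul, Subgroup.coe_inv, inv_mul_eq_iff_eq_mul, mul_one]
  -- lifts of vectors orthogonal to `U`
  have hlift : ∀ x : leechPerpU, ∃ q : Q, ψ (x : leechLattice) = QuotientGroup.mk q ∧ gval q * τ = τ * gval q := by
    intro x
    obtain ⟨q, hq⟩ := QuotientGroup.mk_surjective (ψ (x : leechLattice))
    refine ⟨q, hq.symm, ?_⟩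
    exact ((bform_eq_one_iff htU hq.symm).mp ((bform_leechU_iff hS hψ _).mpr x.2)).symm
  choose L hL hLτ using hlift
  let img : ∀ q : Q, gval q * τ = τ * gval q → R := fun q h =>
    ⟨Φ ⟨gval q, qm_le (gval_mem q), Subgroup.mem_centralizer_singleton_iff.mpr h⟩,
      ⟨_, gval_mem q, rfl⟩⟩
  let ψ' : leechPerpU → R ⧸ Subgroup.center R := fun x => QuotientGroup.mk (img (L x) (hLτ x))
  have hkey : ∀ (x : leechPerpU) (q : Q) (h : gval q * τ = τ * gval q),
      ψ (x : leechLattice) = QuotientGroup.mk q → ψ' x = QuotientGroup.mk (img q h) := by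
    intro x q h hq
    refine (hmkR _ _).mpr ?_
    rcases (mk_center_iff hS _ _).mp (hq.symm.trans (hL x)) with e1 | e1
    · exact Or.inl (congrArg Φ (Subtype.ext e1))
    · refine Or.inr ?_
      show Φ _ = Φ _ * Φ _
      rw [← map_mul]
      refine congrArg Φ (Subtype.ext ?_)
      show gval q = gval (L x) * z
      rw [e1, hA.comm_z (gval_mem _)]
  obtain ⟨t', k, ht'2, ht'c, hkt', hkQ, hkne⟩ := exists_mover hS hψ
  obtain ⟨h, hh, hht⟩ := transitive_noncentral orbitFacts hS hψ ht'2 ht2 ht'c htc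
  refine ⟨zb, R, hRn, ⟨?_, hgfit, hEx.extra, hRcard, ?_⟩, e', ψ', ?_, ?_, ?_, ?_⟩
  · refine orderOf_eq_prime ?_ fun e1 => hz1 (Subtype.ext e1)
    rw [sq, hzb, ← map_mul, ← map_one π]
    exact congrArg π (Subtype.ext hA.sq_one)
  · -- `z` is not weakly closed
    have hhz : h * z = z * h := Subgroup.mem_centralizer_singleton_iff.mp hh
    have hg2 : h * k * h⁻¹ ∈ Subgroup.centralizer ({τ} : Set G) := by
      refine Subgroup.mem_centralizer_singleton_iff.mpr ?_
      rw [hτ, ← hht]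
      calc h * k * h⁻¹ * (h * gval t' * h⁻¹) = h * (k * gval t') * h⁻¹ := by group
        _ = h * (gval t' * k) * h⁻¹ := by rw [hkt']
        _ = h * gval t' * h⁻¹ * (h * k * h⁻¹) := by group
    have hs : h * k * h⁻¹ * z * (h * k * h⁻¹)⁻¹ = h * (k * z * k⁻¹) * h⁻¹ := by
      calc h * k * h⁻¹ * z * (h * k * h⁻¹)⁻¹ = h * k * (h⁻¹ * z * h) * k⁻¹ * h⁻¹ := by group
        _ = h * (k * z * k⁻¹) * h⁻¹ := by rw [mul_assoc h⁻¹, ← hhz]; group
    have hsQ : h * k * h⁻¹ * z * (h * k * h⁻¹)⁻¹ ∈ qm Q := by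
      rw [hs]
      obtain ⟨h1, h2⟩ := mem_qm.mp hkQ
      exact mem_qm.mpr ⟨mul_mem (mul_mem hh h1) (inv_mem hh),
        (inferInstance : Q.Normal).conj_mem ⟨_, h1⟩ h2 ⟨h, hh⟩⟩
    have hsC : h * k * h⁻¹ * z * (h * k * h⁻¹)⁻¹ ∈ czt z τ :=
      Subgroup.mem_inf.mpr ⟨qm_le hsQ, mul_mem (mul_mem hg2 hzt) (inv_mem hg2)⟩
    refine ⟨π ⟨_, hg2⟩, ⟨(Φ ⟨_, hsC⟩).2, ?_⟩, fun e1 => ?_⟩
    · exact ⟨⟨_, hsC⟩, hsQ, rfl⟩
    · rw [hzb, ← map_inv, ← map_mul, ← map_mul] at e1
      rcases (hπ _ _).mp e1.symm with h' | h'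
      · refine hkne ?_
        have h2 : h * (k * z * k⁻¹) * h⁻¹ = z := hs ▸ h'
        calc k * z * k⁻¹ = h⁻¹ * (h * (k * z * k⁻¹) * h⁻¹) * h := by group
          _ = z := by rw [h2, mul_assoc, ← hhz, inv_mul_cancel_left]
      · exact hnzt (isConj_iff.mpr ⟨h * k * h⁻¹, h'⟩)
  · intro x y
    rw [hkey (x + y) (L x * L y)
      (show gval (L x) * gval (L y) * τ = τ * (gval (L x) * gval (L y)) by
        rw [mul_assoc, hLτ, ← mul_assoc, hLτ, mul_assoc]) ?_]
    · exact congrArg QuotientGroup.mk (Subtype.ext (map_mul Φ ⟨gval (L x), _⟩ ⟨gval (L y), _⟩))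
    · rw [AddSubgroup.coe_add, hψ.1, hL x, hL y]; rfl
  · intro r
    obtain ⟨⟨_, p, hp, rfl⟩, rfl⟩ := QuotientGroup.mk_surjective r
    obtain ⟨hpc, hpQ⟩ := mem_qm.mp (show (p : G) ∈ qm Q from hp)
    obtain ⟨v, hv⟩ := hψ.2.1 (QuotientGroup.mk (⟨⟨p, hpc⟩, hpQ⟩ : Q))
    have hpτ : (p : G) * τ = τ * p := Subgroup.mem_centralizer_singleton_iff.mp p.2.2
    have hx : (16 : ℤ) ∣ dotInt (v : GolayPt → ℤ) Spor.vecU :=
      (bform_leechU_iff hS hψ v).mp ((bform_eq_one_iff htU hv).mpr hpτ.symm)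
    exact ⟨⟨v, hx⟩, hkey ⟨v, hx⟩ ⟨⟨p, hpc⟩, hpQ⟩ hpτ hv⟩
  · intro x
    have h1 : ψ' x = 1 ↔ (gval (L x) = 1 ∨ gval (L x) = z) ∨ (gval (L x) = τ ∨ gval (L x) = z * τ) := by
      show QuotientGroup.mk (img (L x) (hLτ x)) = QuotientGroup.mk 1 ↔ _
      rw [eq_comm, hmkR, Subgroup.coe_one, one_mul]
      show Φ _ = 1 ∨ Φ _ = Φ _ ↔ _
      rw [← map_one Φ, eq_comm, hΦeq, @eq_comm _ _ (Φ ⟨z, hzz⟩), hΦeq]
      simp only [Subgroup.coe_one, one_mul]
      tauto
    rw [h1]
    refine or_congr ?_ ?_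
    · rw [← hψ.2.2.1, hL x, ← QuotientGroup.mk_one, mk_center_iff hS]
      simp [gval]
    · show _ ↔ Cong (x : leechLattice) Spor.leechU
      rw [psi_cong hψ, hL x, htU, mk_center_iff hS]
  · intro d g hg x y hxy q hq
    obtain ⟨c, rfl⟩ := hΦs d
    rw [he'] at hg
    have hspec := toCo2_spec hS hψ htU c
    rw [hg] at hspec
    have h2 := psi_smul hψ hspec (hL x)
    have hyτ : gval (conjQ (⟨(c : G), c.2.1⟩ : cz z) (L x)) * τ = τ * gval (conjQ (⟨(c : G), c.2.1⟩ : cz z) (L x)) := by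
      have hcτ : Commute (c : G) τ := Subgroup.mem_centralizer_singleton_iff.mp c.2.2
      exact ((hcτ.mul_left (hLτ x)).mul_left hcτ.inv_left).eq
    rw [hkey y _ hyτ (by rw [← hxy]; exact h2)]
    refine (hmkR _ _).mpr ?_
    have hq' := (hmkR _ _).mp hq
    show Φ c * (q : D) * (Φ c)⁻¹ = Φ _ ∨ Φ c * (q : D) * (Φ c)⁻¹ = Φ _ * zd
    have hmul : ∀ a : czt z τ, Φ c * Φ a * (Φ c)⁻¹ = Φ (c * a * c⁻¹) := fun a => by
      rw [map_mul, map_mul, map_inv]
    have hzc : c * (⟨z, hzz⟩ : czt z τ) = ⟨z, hzz⟩ * c :=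
      Subtype.ext (Subgroup.mem_centralizer_singleton_iff.mp c.2.1)
    rcases hq' with e1 | e1 <;> rw [e1]
    · exact Or.inl (hmul _)
    · refine Or.inr ?_
      have hzc' : Φ c * zd = zd * Φ c := by rw [hzd, ← map_mul, ← map_mul, hzc]
      have hz2 : ∀ r : D, Φ c * (r * zd) * (Φ c)⁻¹ = Φ c * r * (Φ c)⁻¹ * zd := fun r => by
        calc Φ c * (r * zd) * (Φ c)⁻¹ = Φ c * r * (zd * (Φ c)⁻¹) := by group
          _ = Φ c * r * ((Φ c)⁻¹ * zd) := by rw [(show Commute (Φ c) zd from hzc').inv_left.eq]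
          _ = Φ c * r * (Φ c)⁻¹ * zd := (mul_assoc _ _ _).symm
      rw [hz2, hmul]; rfl

end CfsgLib.MonsterType
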